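import Cfsg.Agent.S0925
import Cfsg.Agent.S0942
import Cfsg.Agent.S0947
import Cfsg.Agent.BlkInd.PPart
import Cfsg.Agent.Transfer.NPC

set_option autoImplicit false
set_option linter.all false

/-! Structure constants and the principal block (helper33). -/

namespace Cfsg.Agent.H33

open scoped ComplexConjugate
open Cfsg Cfsg.Agent.CharBase

universe u

variable {G : Type u} [Group G] [Finite G] {p : ℕ} [hp : Fact p.Prime] {M : Ideal AlgInt}

/-- the block sum `β_w(z) = Σ_{χ ∈ B₀} χ(z) conj χ(w)` -/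
noncomputable def beta (M : Ideal AlgInt) (w z : G) : ℂ :=
  ∑ᶠ χ ∈ principalBlock M G, (χ : G → ℂ) z * conj ((χ : G → ℂ) w)

theorem beta_conj (w z h : G) : beta M w (h * z * h⁻¹) = beta M w z := by
  unfold beta
  refine finsum_congr fun χ => finsum_congr fun _ => ?_
  rw [irr_isClassFunction χ]

theorem beta_zero (hM : IsPModular p M) {w z a : G} (hw : ∃ k, orderOf w = p ^ k) (hz : IsPPart p z a)
    (h : ¬ IsConj a w) : beta M w z = 0 := by
  haveI := hM.2.1.isPrime
  haveI := Fintype.ofFinite G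
  have hww : IsPPart p w w := ⟨1, mul_one w, Commute.one_right w, hw, by
    rw [orderOf_one]; exact fun h => hp.out.one_lt.ne' (Nat.dvd_one.1 h)⟩
  exact Blk.block_orthogonality hM Blk.isPBlock_principalBlock hz hww h

theorem beta_one (hM : IsPModular p M) {w : G} (hw : ∃ k, orderOf w = p ^ k) (hw1 : w ≠ 1)
    (hC : ∃ k, (Cfsg.pPrimeCore p (Subgroup.centralizer ({w} : Set G))).index = p ^ k) :
    beta M w w = ((p ^ (Nat.card (Subgroup.centralizer ({w} : Set G))).factorization p : ℕ) : ℂ) := by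
  classical
  haveI := Fintype.ofFinite (IrrCharacter G)
  have h1 := (S0947.result p M hM w hw hw1 1 (by
    rw [orderOf_one]; exact fun h => hp.out.one_lt.ne' (Nat.dvd_one.1 h))).2 hC
  have h2 := H4.ofReal_finsum_norm_sq (principalBlock M G) w
  rw [Subgroup.coe_one, mul_one] at h1
  rw [h1] at h2
  unfold beta
  haveI := Fintype.ofFinite G
  rw [Blk.finsum_mem_eq_sum_ite, ← h2]
  simp

theorem beta_val (hM : IsPModular p M) {w z a : G} (hw : ∃ k, orderOf w = p ^ k) (hw1 : w ≠ 1)
    (hC : ∃ k, (Cfsg.pPrimeCore p (Subgroup.centralizer ({w} : Set G))).index = p ^ k)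
    (hz : IsPPart p z a) (h : IsConj a w) :
    beta M w z = ((p ^ (Nat.card (Subgroup.centralizer ({w} : Set G))).factorization p : ℕ) : ℂ) := by
  rw [← beta_one hM hw hw1 hC]
  obtain ⟨c, hc⟩ := isConj_iff.1 h
  rw [← beta_conj w z c]
  obtain ⟨y, hy, hcom, ha, hyr⟩ := hz
  set u := c * y * c⁻¹ with hu
  have hzu : c * z * c⁻¹ = w * u := by rw [← hy, ← hc, hu]; group
  have huw : u * w = w * u := by
    rw [hu, ← hc]
    calc c * y * c⁻¹ * (c * a * c⁻¹) = c * (y * a) * c⁻¹ := by group
      _ = c * (a * y) * c⁻¹ := by rw [hcom.eq]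
      _ = _ := by group
  have hur : ¬ p ∣ orderOf u := by
    have : orderOf u = orderOf y := by
      rw [hu]
      exact orderOf_injective (MulAut.conj c).toMonoidHom (MulAut.conj c).injective y
    rwa [this]
  have hucore : u ∈ centralizerPPrimeCore p w := by
    obtain ⟨k, hk⟩ := hC
    have huC : u ∈ Subgroup.centralizer ({w} : Set G) := Subgroup.mem_centralizer_singleton_iff.2 huw
    refine ⟨⟨u, huC⟩, ?_, rfl⟩
    apply H4.mem_of_regular_of_index hk
    rwa [Subgroup.orderOf_mk]
  rw [hzu]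
  unfold beta
  refine finsum_congr fun χ => finsum_congr fun hχ => ?_
  rw [S0942.result p M hM w hw u hucore χ hχ]

open Classical in
/-- structure constants through the principal block -/
theorem count_section [Fintype G] [Fintype (IrrCharacter G)] (hM : IsPModular p M) {w : G}
    (hw : ∃ k, orderOf w = p ^ k) (hw1 : w ≠ 1)
    (hC : ∃ k, (Cfsg.pPrimeCore p (Subgroup.centralizer ({w} : Set G))).index = p ^ k) (x y : G) :
    ((p ^ (Nat.card (Subgroup.centralizer ({w} : Set G))).factorization p : ℕ) : ℂ) *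
      ((Finset.univ.filter (fun t : G => ∃ a, IsPPart p (x * (t * y * t⁻¹)) a ∧ IsConj a w)).card : ℂ) =
    (Nat.card G : ℂ) * ∑ χ : IrrCharacter G, if χ ∈ principalBlock M G then
      (χ : G → ℂ) x * (χ : G → ℂ) y * conj ((χ : G → ℂ) w) / (χ : G → ℂ) 1 else 0 := by
  have h1 : ∑ t : G, beta M w (x * (t * y * t⁻¹)) =
      (Nat.card G : ℂ) * ∑ χ : IrrCharacter G, if χ ∈ principalBlock M G then
      (χ : G → ℂ) x * (χ : G → ℂ) y * conj ((χ : G → ℂ) w) / (χ : G → ℂ) 1 else 0 := by
    unfold beta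
    simp only [Blk.finsum_mem_eq_sum_ite]
    rw [Finset.sum_comm, Finset.mul_sum]
    refine Finset.sum_congr rfl fun χ _ => ?_
    by_cases h : χ ∈ principalBlock M G
    · simp only [if_pos h]
      rw [← Finset.sum_mul, sum_conj_mul χ.2]
      ring
    · simp only [if_neg h, Finset.sum_const_zero, mul_zero]
  rw [← h1]
  have h2 : ∀ t : G, beta M w (x * (t * y * t⁻¹)) =
      if (∃ a, IsPPart p (x * (t * y * t⁻¹)) a ∧ IsConj a w) then
        ((p ^ (Nat.card (Subgroup.centralizer ({w} : Set G))).factorization p : ℕ) : ℂ) else 0 := by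
    intro t
    by_cases h : ∃ a, IsPPart p (x * (t * y * t⁻¹)) a ∧ IsConj a w
    · rw [if_pos h]
      obtain ⟨a, ha, hc⟩ := h
      exact beta_val hM hw hw1 hC ha hc
    · rw [if_neg h]
      obtain ⟨a, ha⟩ := BlkInd.exists_isPPart hp.out (x * (t * y * t⁻¹))
      exact beta_zero hM hw ha (fun hc => h ⟨a, ha, hc⟩)
  rw [Finset.sum_congr rfl (fun t _ => h2 t), ← Finset.sum_filter, Finset.sum_const, nsmul_eq_mul,
    mul_comm]

end Cfsg.Agent.H33
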