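import Cfsg.Agent.H33.SmallOrd
import Cfsg.Agent.Supersolvable.Hereditary
import Cfsg.Agent.OddP.Alperin

set_option autoImplicit false
set_option linter.all false

/-! Normal `p`-complements and control of fusion of elements of order `p` (`4` when `p = 2`) (helper33). -/

open scoped commutatorElement

namespace Cfsg.Agent.H33

universe u

/-- the hypothesis: `P` controls the fusion of its small elements -/
def SmallCtrl {G : Type u} [Group G] (p : ℕ) (P : Subgroup G) : Prop :=
  ∀ a ∈ P, Small p a → ∀ g : G, g * a * g⁻¹ ∈ P → ∃ x ∈ P, g * a * g⁻¹ = x * a * x⁻¹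

variable {G : Type u} [Group G] {p : ℕ}

/-- the exponent used in Alperin's theorem -/
def smallExp (p : ℕ) : ℕ := if p = 2 then 2 else 1

theorem smallExp_ne [hp : Fact p.Prime] : p ^ smallExp p ≠ 2 := by
  unfold smallExp
  split_ifs with h
  · rw [h]; norm_num
  · rw [pow_one]; exact h

theorem small_iff [hp : Fact p.Prime] (a : G) : Small p a ↔ a ^ p ^ smallExp p = 1 := by
  unfold Small smallExp
  split_ifs with h
  · subst h
    constructor
    · rintro (h | ⟨-, h⟩)
      · calc a ^ 2 ^ 2 = (a ^ 2) ^ 2 := pow_mul a 2 2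
          _ = 1 := by rw [h, one_pow]
      · exact h
    · intro h; exact Or.inr ⟨rfl, h⟩
  · rw [pow_one]
    constructor
    · rintro (h1 | ⟨h1, -⟩)
      · exact h1
      · exact absurd h1 h
    · exact Or.inl

/-- Alperin's subgroup -/
theorem exists_alperin [Finite G] [hp : Fact p.Prime] {P : Subgroup G} (hP : IsPGroup p P) :
    ∃ A : Subgroup G, A ≤ P ∧ (∀ x ∈ P, ∀ a ∈ A, x * a * x⁻¹ ∈ A) ∧
      (∀ a ∈ A, ∀ b ∈ A, a * b = b * a) ∧ (∀ a ∈ A, Small p a) ∧
      ∀ x ∈ P, (∀ a ∈ A, a * x = x * a) → Small p x → x ∈ A := by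
  classical
  let s : Set (Subgroup P) := {B | B.Normal ∧ IsMulCommutative B ∧ ∀ b ∈ B, b ^ p ^ smallExp p = 1}
  have hs : s.Nonempty := by
    refine ⟨⊥, inferInstance, inferInstance, ?_⟩
    intro b hb
    rw [Subgroup.mem_bot] at hb
    rw [hb, one_pow]
  obtain ⟨A, hA⟩ := s.toFinite.exists_maximal hs
  obtain ⟨⟨hAn, hAc, hAe⟩, hmax⟩ := hA
  refine ⟨A.map P.subtype, Subgroup.map_subtype_le _, ?_, ?_, ?_, ?_⟩
  · rintro x hx _ ⟨a, ha, rfl⟩
    exact ⟨⟨x, hx⟩ * a * ⟨x, hx⟩⁻¹, hAn.conj_mem a ha ⟨x, hx⟩, rfl⟩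
  · rintro _ ⟨a, ha, rfl⟩ _ ⟨b, hb, rfl⟩
    have := congrArg (fun z : A => ((z : P) : G)) (hAc.is_comm.comm (⟨a, ha⟩ : A) ⟨b, hb⟩)
    exact this
  · rintro _ ⟨a, ha, rfl⟩
    rw [small_iff]
    have := congrArg Subtype.val (hAe a ha)
    exact this
  · intro x hx hxA hxs
    rw [small_iff] at hxs
    haveI := hAn
    have h1 : (⟨x, hx⟩ : P) ∈ A := by
      refine OddP.alperin hP (smallExp p) smallExp_ne A hAc hAe ?_ ⟨x, hx⟩ ?_ ?_
      · intro B hBn hBc hBe hAB
        exact le_antisymm (hmax ⟨hBn, hBc, hBe⟩ hAB) hAB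
      · rw [Subgroup.mem_centralizer_iff]
        intro a ha
        exact Subtype.ext (hxA a ⟨a, ha, rfl⟩)
      · exact Subtype.ext hxs
    exact ⟨_, h1, rfl⟩

/-- Centralizing elements of a `p`-subgroup modulo a normal subgroup which is itself centralized. -/
theorem hasNPC_of_quotient_centralized [Finite G] [hp : Fact p.Prime] (B : Subgroup G) [B.Normal]
    (hB : IsPGroup p B) (hc : ∀ g : G, (orderOf g).Coprime p → ∀ b ∈ B, g * b * g⁻¹ = b)
    (h : Cfsg.HasNormalPComplement p (G ⧸ B)) : Cfsg.HasNormalPComplement p G := by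
  apply Transfer.hasNPC_of_frobenius
  intro Q hQ g hg hgc
  rw [Subgroup.mem_centralizer_iff]
  intro q hq
  set π := QuotientGroup.mk' B with hπ
  have h1 : π g ∈ Subgroup.centralizer ((Q.map π : Subgroup (G ⧸ B)) : Set (G ⧸ B)) := by
    apply Transfer.HasNPC.mem_centralizer h (hQ.map π)
    · exact Subgroup.le_normalizer_map π ⟨g, hg, rfl⟩
    · exact Nat.Coprime.coprime_dvd_left (orderOf_map_dvd π g) hgc
  have h2 : π q * π g = π g * π q := Subgroup.mem_centralizer_iff.1 h1 _ ⟨q, hq, rfl⟩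
  have h3 : q⁻¹ * (g * q * g⁻¹) ∈ B := by
    rw [← QuotientGroup.ker_mk' B, MonoidHom.mem_ker]
    change π (q⁻¹ * (g * q * g⁻¹)) = 1
    rw [map_mul, map_mul, map_mul, ← h2, map_inv, map_inv]; group
  have h4 := commute_of_commute_comm hB hgc h3 (hc g hgc _ h3)
  rw [mul_inv_eq_iff_eq_mul] at h4
  exact h4.symm

/-- A weakly closed element `z` of `Z(P)`: its centralizer controls fusion in `P`. -/
theorem controls_of_weak [Finite G] [hp : Fact p.Prime] (P : Sylow p G) {z : G}
    (hzP : z ∈ (P : Subgroup G)) (hzc : ∀ x ∈ (P : Subgroup G), x * z = z * x)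
    (hw : ∀ g : G, g * z * g⁻¹ ∈ (P : Subgroup G) → g * z * g⁻¹ = z) :
    Transfer.ControlsFusion (Subgroup.centralizer {z}) (P : Subgroup G) := by
  have h1 := Transfer.controlsFusion_normalizer_of_weaklyClosed P (Subgroup.zpowers z) ?_ ?_
  · refine h1.mono ?_
    intro g hg
    rw [Subgroup.mem_centralizer_singleton_iff]
    have h2 := (Subgroup.mem_normalizer_iff.1 hg z).1 (Subgroup.mem_zpowers z)
    have h3 := hw g ((Subgroup.zpowers_le.2 hzP) h2)
    rw [mul_inv_eq_iff_eq_mul] at h3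
    exact h3
  · rw [Subgroup.zpowers_le, Subgroup.mem_centralizer_iff]
    exact hzc
  · refine ⟨Subgroup.zpowers_le.2 hzP, ?_⟩
    intro g hg
    have h2 : g * z * g⁻¹ ∈ (P : Subgroup G) := cj_le_iff.1 hg z (Subgroup.mem_zpowers z)
    have h3 := hw g h2
    rw [MonoidHom.map_zpowers]
    exact congrArg Subgroup.zpowers h3

theorem hasNPC_of_smallCtrl : ∀ (n : ℕ) (G : Type u) [Group G] [Finite G] (p : ℕ) [hp : Fact p.Prime]
    (P : Sylow p G), Nat.card G = n → SmallCtrl p (P : Subgroup G) →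
      Cfsg.HasNormalPComplement p G := by
  intro n
  induction n using Nat.strong_induction_on with
  | _ n ih =>
  intro G _ _ p hp P hn hctrl
  classical
  -- subgroups containing `P`
  have hsub : ∀ H : Subgroup G, (P : Subgroup G) ≤ H → H ≠ ⊤ → Cfsg.HasNormalPComplement p H := by
    intro H hPH hH
    have hlt : Nat.card H < n := by
      rw [← hn]
      refine lt_of_le_of_ne (Nat.le_of_dvd Nat.card_pos (Subgroup.card_subgroup_dvd_card H)) ?_
      intro h; exact hH (Subgroup.eq_top_of_card_eq H h)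
    refine ih _ hlt H p (P.subtype hPH) rfl ?_
    intro a ha hs g hg
    have ha' : (a : G) ∈ (P : Subgroup G) := ha
    have hg' : (g : G) * a * (g : G)⁻¹ ∈ (P : Subgroup G) := hg
    have hs' : Small p (a : G) := by
      rcases hs with h | ⟨h1, h⟩
      · exact Or.inl (by exact_mod_cast congrArg Subtype.val h)
      · exact Or.inr ⟨h1, by exact_mod_cast congrArg Subtype.val h⟩
    obtain ⟨x, hx, hxe⟩ := hctrl a ha' hs' g hg'
    exact ⟨⟨x, hPH hx⟩, hx, Subtype.ext hxe⟩
  obtain ⟨A, hAP, hAn, hAc, hAs, hAmax⟩ := exists_alperin (P := (P : Subgroup G)) P.2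
  have hstrong : ∀ a ∈ A, ∀ g : G, g * a * g⁻¹ ∈ (P : Subgroup G) →
      ∃ x ∈ (P : Subgroup G), g * a * g⁻¹ = x * a * x⁻¹ := fun a ha g hg =>
    hctrl a (hAP ha) (hAs a ha) g hg
  -- maximal `B`
  let s : Set (Subgroup G) := {B | B ≤ A ∧ B.Normal ∧
    ∀ g : G, (orderOf g).Coprime p → ∀ b ∈ B, g * b * g⁻¹ = b}
  have hsne : s.Nonempty := by
    refine ⟨⊥, bot_le, inferInstance, ?_⟩
    intro g _ b hb
    rw [Subgroup.mem_bot] at hb
    rw [hb]; simp
  obtain ⟨B, ⟨hBA, hBn, hBc⟩, hBmax⟩ := s.toFinite.exists_maximal hsne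
  have hBp : IsPGroup p B := isPGroup_sub P.2 (hBA.trans hAP)
  have hAp : IsPGroup p A := isPGroup_sub P.2 hAP
  haveI := hBn
  by_cases hBA' : B = A
  · -- `A` is normal and centralized by the `p'`-elements
    subst hBA'
    apply Transfer.hasNPC_of_frobenius
    intro Q hQ g hg hgc
    have hgQ : ∀ a ∈ Q, g * a * g⁻¹ ∈ Q := fun a ha => (Subgroup.mem_normalizer_iff.1 hg a).1 ha
    set C := Subgroup.centralizer (B : Set G) with hC
    haveI hCn : C.Normal := inferInstance
    have hgC : g ∈ C := by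
      rw [hC, Subgroup.mem_centralizer_iff]
      intro b hb
      have := hBc g hgc b hb
      rw [mul_inv_eq_iff_eq_mul] at this
      exact this.symm
    have hQC : ∀ a ∈ Q ⊓ C, g * a * g⁻¹ = a := by
      apply centralize_of_small hgc _ (Q ⊓ C) rfl (isPGroup_sub hQ inf_le_left)
      · rintro a ⟨ha, haC⟩
        exact ⟨hgQ a ha, hCn.conj_mem a haC g⟩
      · rintro a ⟨ha, haC⟩ has
        apply hBc g hgc
        -- conjugate `a` into `P`
        have h1 : IsPGroup p (Subgroup.zpowers a) := isPGroup_sub hQ (Subgroup.zpowers_le.2 ha)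
        obtain ⟨R, hR⟩ := h1.exists_le_sylow
        obtain ⟨h, hh⟩ := MulAction.exists_smul_eq G R P
        have h2 : h * a * h⁻¹ ∈ (P : Subgroup G) := by
          rw [← hh]
          exact ⟨a, hR (Subgroup.mem_zpowers a), rfl⟩
        have h3 : h * a * h⁻¹ ∈ B := by
          apply hAmax _ h2
          · intro b hb
            exact Subgroup.mem_centralizer_iff.1 (hCn.conj_mem a haC h) b hb
          · rw [small_iff] at has ⊢
            rw [conj_pow, has]; simp
        have h4 := hBn.conj_mem _ h3 h⁻¹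
        have e : h⁻¹ * (h * a * h⁻¹) * h⁻¹⁻¹ = a := by group
        rwa [e] at h4
    rw [Subgroup.mem_centralizer_iff]
    intro q hq
    have h3 : q⁻¹ * (g * q * g⁻¹) ∈ Q ⊓ C := by
      refine ⟨Q.mul_mem (Q.inv_mem hq) (hgQ q hq), ?_⟩
      have h4 := hCn.conj_mem g hgC q⁻¹
      have e : q⁻¹ * (g * q * g⁻¹) = q⁻¹ * g * q⁻¹⁻¹ * g⁻¹ := by group
      rw [e]
      exact C.mul_mem h4 (C.inv_mem hgC)
    have h4 := commute_of_commute_comm hQ hgc h3.1 (hQC _ h3)
    rw [mul_inv_eq_iff_eq_mul] at h4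
    exact h4.symm
  · -- `B < A`
    set π := QuotientGroup.mk' B with hπ
    have hπs : Function.Surjective π := QuotientGroup.mk'_surjective B
    have hker : π.ker = B := QuotientGroup.ker_mk' B
    set P' : Sylow p (G ⧸ B) := P.mapSurjective hπs with hP'
    have hP'c : (P' : Subgroup (G ⧸ B)) = (P : Subgroup G).map π := rfl
    have hAne : A.map π ≠ ⊥ := by
      rw [Ne, Subgroup.map_eq_bot_iff, hker]
      intro h; exact hBA' (le_antisymm hBA h)
    have h1 : A.map π ⊓ Subgroup.centralizer (((P : Subgroup G).map π : Subgroup (G ⧸ B)) : Set (G ⧸ B)) ≠ ⊥ := by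
      apply Supersolvable.inf_centralizer_ne_bot (p := p) _ _ (P.2.map π) (hAp.map π) _ hAne
      refine (Subgroup.map_mono ?_).trans (Subgroup.le_normalizer_map π)
      intro x hx
      apply mem_norm_of_le
      rw [cj_le_iff]
      exact hAn x hx
    obtain ⟨⟨yb, hyb⟩, hyb1⟩ := (Subgroup.ne_bot_iff_exists_ne_one.1 h1)
    obtain ⟨⟨y, hyA, hyyb⟩, hyc⟩ := hyb
    subst hyyb
    have hy1 : π y ≠ 1 := fun h => hyb1 (Subtype.ext h)
    have hyc' : ∀ x ∈ ((P : Subgroup G).map π), x * π y = π y * x := fun x hx =>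
      Subgroup.mem_centralizer_iff.1 hyc x hx
    -- `π y` is weakly closed
    have hw : ∀ g : G ⧸ B, g * π y * g⁻¹ ∈ (P' : Subgroup (G ⧸ B)) → g * π y * g⁻¹ = π y := by
      intro g' hg'
      obtain ⟨g, rfl⟩ := hπs g'
      rw [hP'c] at hg'
      obtain ⟨x, hx, hxe⟩ := hg'
      have h2 : g * y * g⁻¹ ∈ (P : Subgroup G) := by
        have h3 : x⁻¹ * (g * y * g⁻¹) ∈ B := by
          rw [← hker, MonoidHom.mem_ker]
          simp only [map_mul, map_inv]
          rw [hxe]; group
        have h4 := mul_mem hx (hAP (hBA h3))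
        rwa [mul_inv_cancel_left] at h4
      obtain ⟨x', hx', hxe'⟩ := hstrong y hyA g h2
      have h5 : π g * π y * (π g)⁻¹ = π x' * π y * (π x')⁻¹ := by
        have := congrArg π hxe'
        simpa only [map_mul, map_inv] using this
      rw [h5, hyc' _ ⟨x', hx', rfl⟩]; group
    have hctl := controls_of_weak P' (z := π y) ⟨y, hAP hyA, rfl⟩ hyc' hw
    set M : Subgroup G := (Subgroup.centralizer ({π y} : Set (G ⧸ B))).comap π with hM
    have hPM : (P : Subgroup G) ≤ M := by
      intro x hx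
      rw [hM, Subgroup.mem_comap, Subgroup.mem_centralizer_singleton_iff]
      exact hyc' _ ⟨x, hx, rfl⟩
    have hMmap : M.map π = Subgroup.centralizer ({π y} : Set (G ⧸ B)) :=
      Subgroup.map_comap_eq_self_of_surjective hπs _
    by_cases hMtop : M = ⊤
    · -- `π y` is central
      exfalso
      have hcen : ∀ g : G, π g * π y = π y * π g := by
        intro g
        have : g ∈ M := by rw [hMtop]; exact Subgroup.mem_top g
        rw [hM, Subgroup.mem_comap, Subgroup.mem_centralizer_singleton_iff] at this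
        exact this
      set B' : Subgroup G := (Subgroup.zpowers (π y)).comap π with hB'
      have hBB' : B ≤ B' := by
        intro b hb
        rw [hB', Subgroup.mem_comap]
        have : π b = 1 := by rwa [← MonoidHom.mem_ker, hker]
        rw [this]; exact one_mem _
      have hB'A : B' ≤ A := by
        intro b hb
        obtain ⟨k, hk⟩ := Subgroup.mem_zpowers_iff.1 (Subgroup.mem_comap.1 hb)
        have h3 : (y ^ k)⁻¹ * b ∈ B := by
          rw [← hker, MonoidHom.mem_ker, map_mul, map_inv, map_zpow, hk]; group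
        have h4 := mul_mem (zpow_mem hyA k) (hBA h3)
        rwa [mul_inv_cancel_left] at h4
      have hcomm : ∀ g : G, ∀ b ∈ B', b⁻¹ * (g * b * g⁻¹) ∈ B := by
        intro g b hb
        obtain ⟨k, hk⟩ := Subgroup.mem_zpowers_iff.1 (Subgroup.mem_comap.1 hb)
        rw [← hker, MonoidHom.mem_ker]
        simp only [map_mul, map_inv]
        rw [← hk, ← map_zpow, show π g * π (y ^ k) = π (y ^ k) * π g from ?_]
        · group
        · rw [map_zpow]
          exact ((show Commute (π g) (π y) from hcen g).zpow_right k).eq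
      have hmem : B' ∈ s := by
        refine ⟨hB'A, ⟨fun b hb g => ?_⟩, ?_⟩
        · have h3 := hcomm g b hb
          have h4 := mul_mem hb (hBB' h3)
          rwa [mul_inv_cancel_left] at h4
        · intro g hgc b hb
          exact commute_of_commute_comm hBp hgc (hcomm g b hb) (hBc g hgc _ (hcomm g b hb))
      have h5 : B' ≤ B := hBmax hmem hBB'
      have h6 : y ∈ B := h5 (by rw [hB', Subgroup.mem_comap]; exact Subgroup.mem_zpowers _)
      apply hy1
      rwa [← MonoidHom.mem_ker, hker]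
    · have hMN := hsub M hPM hMtop
      have h7 : Cfsg.HasNormalPComplement p ↥(Subgroup.centralizer ({π y} : Set (G ⧸ B))) := by
        rw [← hMmap]
        exact Transfer.HasNPC.of_surjective hMN (π.subgroupMap M) (π.subgroupMap_surjective M)
      apply hasNPC_of_quotient_centralized B hBp hBc
      refine Transfer.hasNPC_of_control (P := P') ?_ hctl h7
      intro x hx
      rw [Subgroup.mem_centralizer_singleton_iff]
      exact hyc' x hx

end Cfsg.Agent.H33
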