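import Mathlib
import Cfsg.Agent.FT.Base

/-! # S3930, piece CS1, P5: reduction to `O(G) = 1` -/

set_option autoImplicit false
set_option linter.all false

namespace Cfsg.Agent.H33.PyrP5

open Subgroup

universe u

theorem p5_aux (m : ℕ) (hm : 2 ≤ m)
    (H0 : ∀ {G : Type u} [Group G] [Finite G] (E : Subgroup G) [E.Normal], (∀ x : G, x ∈ E ↔ x * x = 1) →
      Nat.card E = 2 ^ m → (∀ x ∈ E, ∀ y ∈ E, x ≠ 1 → y ≠ 1 → ∃ g : G, g * x * g⁻¹ = y) →
      (∀ N : Subgroup G, N.Normal → Odd (Nat.card N) → N = ⊥) → Group.IsSolvable (Subgroup.centralizer (E : Set G))) :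
    ∀ (n : ℕ) {G : Type u} [Group G] [Finite G] (E : Subgroup G) [E.Normal], Nat.card G = n →
      (∀ x : G, x ∈ E ↔ x * x = 1) →
      Nat.card E = 2 ^ m → (∀ x ∈ E, ∀ y ∈ E, x ≠ 1 → y ≠ 1 → ∃ g : G, g * x * g⁻¹ = y) →
      Group.IsSolvable (Subgroup.centralizer (E : Set G)) := by
  intro n
  induction n using Nat.strong_induction_on with
  | _ n ih =>
  intro G _ _ E _ hn hE hcard htr
  by_cases hO : ∀ N : Subgroup G, N.Normal → Odd (Nat.card N) → N = ⊥
  · exact H0 E hE hcard htr hO
  · push Not at hO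
    obtain ⟨N, hN, hodd, hNb⟩ := hO
    haveI := hN
    have hlt : Nat.card (G ⧸ N) < n := by
      rw [← hn, ← card_mul_index N]
      have h1 : 1 < Nat.card N := one_lt_card_iff_ne_bot N |>.2 hNb
      have h2 : 0 < N.index := Nat.pos_of_ne_zero index_ne_zero_of_finite
      change N.index < _
      nlinarith
    have hdisj : ∀ x, x ∈ N → x ∈ E → x = 1 := by
      intro x hxN hxE
      have h1 : orderOf x ∣ 2 := orderOf_dvd_of_pow_eq_one (by rw [pow_two]; exact (hE x).1 hxE)
      have h2 : orderOf x ∣ Nat.card N := by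
        rw [← Subgroup.orderOf_mk x hxN]; exact orderOf_dvd_natCard _
      have h3 : orderOf x ∣ 1 := by
        have := Nat.dvd_gcd h1 h2
        rwa [(Nat.coprime_two_left.2 hodd).gcd_eq_one] at this
      exact orderOf_eq_one_iff.1 (Nat.dvd_one.1 h3)
    have hinj : Function.Injective ((QuotientGroup.mk' N).comp E.subtype) := by
      rw [injective_iff_map_eq_one]
      intro x hx
      exact Subtype.ext (hdisj x ((QuotientGroup.eq_one_iff _).1 hx) x.2)
    have hmap : E.map (QuotientGroup.mk' N) = ((QuotientGroup.mk' N).comp E.subtype).range := by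
      rw [MonoidHom.range_comp, Subgroup.range_subtype]
    have hsol := ih (Nat.card (G ⧸ N)) hlt (G := G ⧸ N) (E.map (QuotientGroup.mk' N)) rfl
      (by
        intro x
        constructor
        · rintro ⟨e, he, rfl⟩
          rw [← map_mul, (hE e).1 he, map_one]
        · intro hx
          obtain ⟨g, rfl⟩ := QuotientGroup.mk'_surjective N x
          rw [← map_mul] at hx
          have hg : g * g ∈ N := (QuotientGroup.eq_one_iff _).1 hx
          obtain ⟨k, hk⟩ := hodd
          have h1 : (g * g) ^ (2 * k + 1) = 1 := by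
            have : (⟨g * g, hg⟩ : N) ^ Nat.card N = 1 := pow_card_eq_one'
            rw [hk] at this
            exact congrArg Subtype.val this
          have h2 : g ^ (2 * k + 1) * g ^ (2 * k + 1) = 1 := by
            rw [← h1, ← pow_two g, ← pow_mul, ← pow_add]; congr 1; ring
          refine ⟨g ^ (2 * k + 1), (hE _).2 h2, ?_⟩
          have h3 : g ^ (2 * k + 1) = g * (g * g) ^ k := by
            rw [← pow_two g, ← pow_mul, pow_succ']
          rw [h3, map_mul]
          have h4 : (QuotientGroup.mk' N) ((g * g) ^ k) = 1 :=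
            (QuotientGroup.eq_one_iff _).2 (N.pow_mem hg k)
          rw [h4, mul_one])
      (by rw [hmap, ← Nat.card_congr (MonoidHom.ofInjective hinj).toEquiv, hcard])
      (by
        rintro _ ⟨x, hx, rfl⟩ _ ⟨y, hy, rfl⟩ hx1 hy1
        obtain ⟨g, hg⟩ := htr x hx y hy (fun h => hx1 (by rw [h, map_one])) (fun h => hy1 (by rw [h, map_one]))
        exact ⟨QuotientGroup.mk' N g, by rw [← map_mul, ← map_inv, ← map_mul, hg]⟩)
    haveI := hsol
    haveI : Group.IsSolvable N := FT.solvable_of_odd hodd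
    let f : Subgroup.centralizer (E : Set G) →* Subgroup.centralizer ((E.map (QuotientGroup.mk' N) : Subgroup (G ⧸ N)) : Set (G ⧸ N)) :=
      ((QuotientGroup.mk' N).comp (Subgroup.centralizer (E : Set G)).subtype).codRestrict _ (by
        rintro ⟨c, hc⟩
        rw [mem_centralizer_iff]
        rintro _ ⟨e, he, rfl⟩
        have := mem_centralizer_iff.1 hc e he
        change QuotientGroup.mk' N e * QuotientGroup.mk' N c = QuotientGroup.mk' N c * QuotientGroup.mk' N e
        rw [← map_mul, this, map_mul])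
    have hker : ∀ c ∈ f.ker, (c : G) ∈ N := by
      intro c hc
      exact (QuotientGroup.eq_one_iff _).1 (congrArg Subtype.val hc)
    haveI : Group.IsSolvable f.ker := by
      let i : f.ker →* N := ((Subgroup.centralizer (E : Set G)).subtype.comp f.ker.subtype).codRestrict N
        (fun c => hker c.1 c.2)
      exact Group.isSolvable_of_isSolvable_injective (f := i) (fun a b hab => by
        have h9 : ((a : Subgroup.centralizer (E : Set G)) : G) = ((b : Subgroup.centralizer (E : Set G)) : G) :=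
          congrArg (fun t : N => (t : G)) hab
        exact Subtype.ext (Subtype.ext h9))
    exact Group.isSolvable_of_ker_le_range f.ker.subtype f (by rw [Subgroup.range_subtype])

theorem p5 (m : ℕ) (hm : 2 ≤ m)
    (H0 : ∀ {G : Type u} [Group G] [Finite G] (E : Subgroup G) [E.Normal], (∀ x : G, x ∈ E ↔ x * x = 1) →
      Nat.card E = 2 ^ m → (∀ x ∈ E, ∀ y ∈ E, x ≠ 1 → y ≠ 1 → ∃ g : G, g * x * g⁻¹ = y) →
      (∀ N : Subgroup G, N.Normal → Odd (Nat.card N) → N = ⊥) → Group.IsSolvable (Subgroup.centralizer (E : Set G)))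
    {G : Type u} [Group G] [Finite G] (E : Subgroup G) [E.Normal] (hE : ∀ x : G, x ∈ E ↔ x * x = 1)
    (hcard : Nat.card E = 2 ^ m)
    (htr : ∀ x ∈ E, ∀ y ∈ E, x ≠ 1 → y ≠ 1 → ∃ g : G, g * x * g⁻¹ = y) :
    Group.IsSolvable (Subgroup.centralizer (E : Set G)) :=
  p5_aux m hm H0 (Nat.card G) E rfl hE hcard htr

end Cfsg.Agent.H33.PyrP5
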