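import Mathlib
import Cfsg.Agent.SigO.Cores
import Cfsg.Agent.S0018
import Cfsg.Agent.S3947

set_option autoImplicit false
set_option linter.all false

/-! Groups in which every two elements generate a proper subgroup, all proper subgroups solvable, with an
elementary abelian noncyclic Sylow `p`-subgroup: there are none (helper33). -/

namespace Cfsg.Agent.H33.TG

open Cfsg.Agent.SigF Cfsg.Agent.SigO

universe u

variable {G : Type u} [Group G] [Finite G] {p : ℕ} [hp : Fact p.Prime]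

omit [Finite G] in
theorem mem_zpowers_left {z x : G} (h : Commute z x) (hz : z ^ p = 1) (hx : ¬ p ∣ orderOf x) :
    z ∈ Subgroup.zpowers (z * x) := by
  have h1 : (z * x) ^ orderOf x = z ^ orderOf x := by
    rw [h.mul_pow, pow_orderOf_eq_one, mul_one]
  have h2 : z ^ orderOf x ∈ Subgroup.zpowers (z * x) := h1 ▸ Subgroup.npow_mem_zpowers _ _
  have hc : Nat.Coprime (orderOf z) (orderOf x) := by
    have : orderOf z ∣ p := orderOf_dvd_of_pow_eq_one hz
    exact Nat.Coprime.coprime_dvd_left this ((Nat.Prime.coprime_iff_not_dvd hp.out).2 hx)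
  obtain ⟨m, hm⟩ := exists_pow_eq_self_of_coprime hc.symm
  have h3 := Subgroup.pow_mem _ h2 m
  rwa [hm] at h3

omit [Finite G] in
theorem mem_zpowers_right {z x : G} (h : Commute z x) (hz : z ^ p = 1) (hx : ¬ p ∣ orderOf x) :
    x ∈ Subgroup.zpowers (z * x) := by
  have h1 := mem_zpowers_left h hz hx
  have h2 := Subgroup.mul_mem _ (Subgroup.inv_mem _ h1) (Subgroup.mem_zpowers (z * x))
  rwa [inv_mul_cancel_left] at h2

theorem not_dvd_orderOf {K : Subgroup G} (hK : ¬ p ∣ Nat.card K) {x : G} (hx : x ∈ K) : ¬ p ∣ orderOf x := by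
  intro h
  exact hK (h.trans (by
    have := orderOf_dvd_natCard (⟨x, hx⟩ : K)
    rwa [Subgroup.orderOf_mk] at this))

omit [Finite G] hp in
theorem cj_zpowers (k z : G) : cj k (Subgroup.zpowers z) = Subgroup.zpowers (k * z * k⁻¹) := by
  rw [cj_def, MonoidHom.map_zpowers]
  rfl

/-- the key choice of a representative -/
theorem exists_rep {K : Subgroup G} (hK : ¬ p ∣ Nat.card K) {z : G} (hz : z ^ p = 1) (hz1 : z ≠ 1)
    (hzK : z ∈ Subgroup.normalizer (K : Set G)) {w : G} (hw : w ∈ K) :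
    ∃ k ∈ K, k ∈ Subgroup.closure ({z, k * z * k⁻¹} : Set G) ∧
      (k⁻¹ * w) * z = z * (k⁻¹ * w) := by
  have hoz : orderOf z = p := orderOf_eq_prime hz hz1
  set Z := Subgroup.zpowers z with hZ
  have hcZ : Nat.card Z = p := by rw [hZ, Nat.card_zpowers, hoz]
  have hZp : IsPGroup p Z := IsPGroup.of_card (n := 1) (by rw [hcZ, pow_one])
  have hZK : Z ≤ Subgroup.normalizer (K : Set G) := by rwa [hZ, Subgroup.zpowers_le]
  have hKZ : K ⊓ Z = ⊥ := SigO.inf_eq_bot_of_pp hZp hK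
  set U := Z ⊔ cj w Z with hU
  have hUle : U ≤ K ⊔ Z := by
    refine sup_le le_sup_right ?_
    rintro x ⟨y, hy, rfl⟩
    have h1 : w ∈ K ⊔ Z := (le_sup_left : K ≤ K ⊔ Z) hw
    have h2 : y ∈ K ⊔ Z := (le_sup_right : Z ≤ K ⊔ Z) hy
    exact Subgroup.mul_mem _ (Subgroup.mul_mem _ h1 h2) (Subgroup.inv_mem _ h1)
  have hnd : ∀ R : Subgroup G, Nat.card R = p → R ≤ U → ¬ p ∣ R.relIndex U := by
    intro R hR hRU hd
    have h1 : R.relIndex U ∣ R.relIndex (K ⊔ Z) := by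
      rw [← Subgroup.relIndex_mul_relIndex R U (K ⊔ Z) hRU hUle]; exact dvd_mul_right _ _
    have h2 : Nat.card R * R.relIndex (K ⊔ Z) = Nat.card ↥(K ⊔ Z) := by
      have := Subgroup.relIndex_mul_relIndex ⊥ R (K ⊔ Z) bot_le (hRU.trans hUle)
      rwa [Subgroup.relIndex_bot_left, Subgroup.relIndex_bot_left] at this
    have h3 : Nat.card ↥(K ⊔ Z) ∣ Nat.card K * Nat.card Z := card_sup_dvd hZK
    rw [← h2, hR, hcZ, mul_comm] at h3
    have h4 : R.relIndex (K ⊔ Z) ∣ Nat.card K := Nat.dvd_of_mul_dvd_mul_right hp.out.pos h3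
    exact hK ((hd.trans h1).trans h4)
  have hS1 : IsSyl p Z U := isSyl_of_not_dvd hZp le_sup_left (hnd Z hcZ le_sup_left)
  have hS2 : IsSyl p (cj w Z) U := isSyl_of_not_dvd (isPGroup_cj hZp) le_sup_right
    (hnd _ (by rw [card_cj, hcZ]) le_sup_right)
  obtain ⟨v, hvU, hv⟩ := hS1.exists_cj hS2
  obtain ⟨k, hk, ζ, hζ, hkz⟩ := (mem_sup_iff hZK).1 (hUle hvU)
  have hkU : k ∈ U := by
    have : k = v * ζ⁻¹ := by rw [← hkz]; group
    rw [this]
    exact Subgroup.mul_mem _ hvU (Subgroup.inv_mem _ ((le_sup_left : Z ≤ U) hζ))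
  have hkZ : cj k Z = cj w Z := by
    rw [← hv, ← hkz, cj_mul, cj_eq_of_mem hζ]
  refine ⟨k, hk, ?_, ?_⟩
  · have h1 : U = Subgroup.closure ({z, k * z * k⁻¹} : Set G) := by
      rw [hU, ← hkZ, hZ, cj_zpowers, Subgroup.zpowers_eq_closure, Subgroup.zpowers_eq_closure,
        ← Subgroup.closure_union]
      rfl
    rw [← h1]; exact hkU
  · set e := k⁻¹ * w with he
    have heK : e ∈ K := Subgroup.mul_mem _ (Subgroup.inv_mem _ hk) hw
    have h1 : cj e Z = Z := by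
      rw [he, cj_mul, ← hkZ, cj_inv_cj]
    have h2 : e * z * e⁻¹ ∈ Z := by
      rw [← h1]; exact conj_mem_cj (Subgroup.mem_zpowers z)
    have h3 : e * z * e⁻¹ * z⁻¹ ∈ K ⊓ Z := by
      refine ⟨?_, Subgroup.mul_mem _ h2 (Subgroup.inv_mem _ (Subgroup.mem_zpowers z))⟩
      have h4 : z * e⁻¹ * z⁻¹ ∈ K := (Subgroup.mem_normalizer_iff.1 hzK _).1 (Subgroup.inv_mem _ heK)
      have h5 : e * z * e⁻¹ * z⁻¹ = e * (z * e⁻¹ * z⁻¹) := by group
      rw [h5]; exact Subgroup.mul_mem _ heK h4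
    rw [hKZ, Subgroup.mem_bot] at h3
    calc e * z = (e * z * e⁻¹ * z⁻¹) * z * e := by group
      _ = z * e := by rw [h3, one_mul]

/-- the pair trick -/
theorem pair_trick {z b k x : G} (hz : z ^ p = 1) (hzb : b * z = z * b) (hzx : Commute z x)
    (hx : ¬ p ∣ orderOf x) (hk : k ∈ Subgroup.closure ({z, k * z * k⁻¹} : Set G)) :
    z ∈ Subgroup.closure ({z * x, k * b} : Set G) ∧ x ∈ Subgroup.closure ({z * x, k * b} : Set G) ∧
    k ∈ Subgroup.closure ({z * x, k * b} : Set G) ∧ b ∈ Subgroup.closure ({z * x, k * b} : Set G) := by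
  set V := Subgroup.closure ({z * x, k * b} : Set G) with hV
  have h1 : z * x ∈ V := Subgroup.subset_closure (by simp)
  have h2 : k * b ∈ V := Subgroup.subset_closure (by simp)
  have h3 : Subgroup.zpowers (z * x) ≤ V := by rwa [Subgroup.zpowers_le]
  have hzV : z ∈ V := h3 (mem_zpowers_left hzx hz hx)
  have hxV : x ∈ V := h3 (mem_zpowers_right hzx hz hx)
  have h4 : k * z * k⁻¹ = (k * b) * z * (k * b)⁻¹ := by
    have : (k * b) * z * (k * b)⁻¹ = k * (b * z) * b⁻¹ * k⁻¹ := by group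
    rw [this, hzb]; group
  have h5 : k * z * k⁻¹ ∈ V := by
    rw [h4]; exact Subgroup.mul_mem _ (Subgroup.mul_mem _ h2 hzV) (Subgroup.inv_mem _ h2)
  have h6 : Subgroup.closure ({z, k * z * k⁻¹} : Set G) ≤ V := by
    rw [Subgroup.closure_le]
    rintro y (rfl | rfl)
    · exact hzV
    · exact h5
  have hkV : k ∈ V := h6 hk
  refine ⟨hzV, hxV, hkV, ?_⟩
  have : b = k⁻¹ * (k * b) := by group
  rw [this]
  exact Subgroup.mul_mem _ (Subgroup.inv_mem _ hkV) h2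

/-! ### solvable groups with abelian Sylow subgroups of exponent `p` -/

theorem normal_core {V S : Subgroup G} (hs : Group.IsSolvable V) (hS : IsSyl p S V)
    (hab : ∀ x ∈ S, ∀ y ∈ S, x * y = y * x) : V ≤ Subgroup.normalizer ((Oq p V ⊔ S : Subgroup G) : Set G) := by
  obtain ⟨T, rfl⟩ := hS
  haveI := hs
  have hT : IsMulCommutative (T : Subgroup V) := ⟨⟨fun a b => by
    ext
    exact hab _ ⟨a, a.2, rfl⟩ _ ⟨b, b.2, rfl⟩⟩⟩
  have h1 := S0018.result p T hT
  have h2 : (Oq p V ⊔ (T : Subgroup V).map V.subtype) = ((T : Subgroup V) ⊔ Cfsg.pPrimeCore p V).map V.subtype := by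
    rw [Subgroup.map_sup, sup_comm]; rfl
  rw [h2]
  intro v hv
  rw [Subgroup.mem_normalizer_iff]
  intro x
  constructor
  · rintro ⟨y, hy, rfl⟩
    exact ⟨⟨v, hv⟩ * y * ⟨v, hv⟩⁻¹, h1.conj_mem y hy _, rfl⟩
  · rintro ⟨y, hy, hyx⟩
    have h3 := h1.conj_mem y hy ⟨v, hv⟩⁻¹
    refine ⟨_, h3, ?_⟩
    have : (V.subtype y : G) = v * x * v⁻¹ := hyx
    simp only [map_mul, map_inv, inv_inv, this]
    change v⁻¹ * (v * x * v⁻¹) * v = x
    group

theorem le_core {V S R : Subgroup G} (hs : Group.IsSolvable V) (hS : IsSyl p S V)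
    (hab : ∀ x ∈ S, ∀ y ∈ S, x * y = y * x) (hR : IsPGroup p R) (hRV : R ≤ V) : R ≤ Oq p V ⊔ S := by
  obtain ⟨Q, hQ, hRQ⟩ := exists_isSyl_ge hR hRV
  obtain ⟨v, hv, hvQ⟩ := hS.exists_cj hQ
  have h1 := normal_core hs hS hab hv
  rw [mem_normalizer_iff_cj] at h1
  refine hRQ.trans ?_
  rw [← hvQ, ← h1]
  exact cj_mono le_sup_right

theorem mem_Oq_of_mem_core {V S : Subgroup G} (hS : IsSyl p S V)
    (hel : ∀ x ∈ S, x ^ p = 1) {x : G} (hx : x ∈ Oq p V ⊔ S) (hox : ¬ p ∣ orderOf x) : x ∈ Oq p V := by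
  have hn : S ≤ Subgroup.normalizer ((Oq p V : Subgroup G) : Set G) := hS.le.trans (le_normalizer_Oq V)
  obtain ⟨k, hk, s, hs, rfl⟩ := (mem_sup_iff hn).1 hx
  have h1 : ∀ j : ℕ, ∃ k' ∈ Oq p V, (k * s) ^ j = k' * s ^ j := by
    intro j
    induction j with
    | zero => exact ⟨1, Subgroup.one_mem _, by simp⟩
    | succ j ih =>
      obtain ⟨k', hk', he⟩ := ih
      refine ⟨k' * (s ^ j * k * (s ^ j)⁻¹), Subgroup.mul_mem _ hk' ?_, ?_⟩
      · exact (Subgroup.mem_normalizer_iff.1 (hn (Subgroup.pow_mem _ hs j)) _).1 hk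
      · rw [pow_succ, he, pow_succ]; group
  obtain ⟨k', hk', he⟩ := h1 p
  rw [hel s hs, mul_one] at he
  have hc : Nat.Coprime p (orderOf (k * s)) := (Nat.Prime.coprime_iff_not_dvd hp.out).2 hox
  obtain ⟨m, hm⟩ := exists_pow_eq_self_of_coprime hc
  rw [← hm, he]
  exact Subgroup.pow_mem _ hk' m

/-- Frattini -/
theorem frattini {V S : Subgroup G} (hs : Group.IsSolvable V) (hS : IsSyl p S V)
    (hab : ∀ x ∈ S, ∀ y ∈ S, x * y = y * x) {v : G} (hv : v ∈ V) :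
    ∃ t ∈ Oq p V, t⁻¹ * v ∈ Subgroup.normalizer (S : Set G) := by
  have hn : S ≤ Subgroup.normalizer ((Oq p V : Subgroup G) : Set G) := hS.le.trans (le_normalizer_Oq V)
  have hNV : Oq p V ⊔ S ≤ V := sup_le (Oq_le V) hS.le
  have h1 := normal_core hs hS hab hv
  rw [mem_normalizer_iff_cj] at h1
  have hS1 : IsSyl p S (Oq p V ⊔ S) := hS.of_le le_sup_right hNV
  have hS2 : IsSyl p (cj v S) (Oq p V ⊔ S) := by
    have := hS1.cj v
    rwa [h1] at this
  obtain ⟨n, hn', hnS⟩ := hS1.exists_cj hS2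
  obtain ⟨t, ht, s, hs', rfl⟩ := (mem_sup_iff hn).1 hn'
  refine ⟨t, ht, ?_⟩
  rw [mem_normalizer_iff_cj, cj_mul, ← hnS, cj_mul, cj_inv_cj, cj_eq_of_mem hs']

end Cfsg.Agent.H33.TG
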