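import Mathlib
import Cfsg.Agent.H33.TG1

set_option autoImplicit false
set_option linter.all false

/-! Groups in which every two elements generate a proper subgroup, all proper subgroups solvable, with an
elementary abelian noncyclic Sylow `p`-subgroup: there are none, part 2 (helper33). -/

namespace Cfsg.Agent.H33.TG

open Cfsg.Agent.SigF Cfsg.Agent.SigO

universe u

variable {G : Type u} [Group G] [Finite G] {p : ℕ} [hp : Fact p.Prime]

structure Ctx (p : ℕ) (P : Subgroup G) : Prop where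
  hs : ∀ H : Subgroup G, H ≠ ⊤ → Group.IsSolvable H
  h2 : ∀ a b : G, Subgroup.closure ({a, b} : Set G) ≠ ⊤
  syl : IsSyl p P ⊤
  comm : ∀ x ∈ P, ∀ y ∈ P, x * y = y * x
  el : ∀ x ∈ P, x ^ p = 1
  cen : ∀ z : G, z ≠ 1 → Subgroup.centralizer ({z} : Set G) ≠ ⊤

theorem B_le {B V : Subgroup G} (hBc : Nat.card B = p ^ 2) {z b : G} (hz : z ∈ B) (hz1 : z ≠ 1) (hzp : z ^ p = 1)
    (hb : b ∈ B) (hbz : b ∉ Subgroup.zpowers z) (hzV : z ∈ V) (hbV : b ∈ V) : B ≤ V := by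
  have h1 : Nat.card ↥(B ⊓ V) ∣ p ^ 2 := hBc ▸ Subgroup.card_dvd_of_le inf_le_left
  obtain ⟨j, hj, hjc⟩ := (Nat.dvd_prime_pow hp.out).1 h1
  have hZ : Subgroup.zpowers z ≤ B ⊓ V := by rw [Subgroup.zpowers_le]; exact ⟨hz, hzV⟩
  have hcZ : Nat.card (Subgroup.zpowers z) = p := by rw [Nat.card_zpowers, orderOf_eq_prime hzp hz1]
  have h2 : p ∣ Nat.card ↥(B ⊓ V) := hcZ ▸ Subgroup.card_dvd_of_le hZ
  have hj2 : j = 2 := by
    interval_cases j
    · rw [hjc, pow_zero] at h2; exact absurd (Nat.dvd_one.1 h2) hp.out.one_lt.ne'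
    · exfalso
      have : Subgroup.zpowers z = B ⊓ V := Subgroup.eq_of_le_of_card_ge hZ (by rw [hcZ, hjc, pow_one])
      exact hbz (this ▸ ⟨hb, hbV⟩)
    · rfl
  have : B ⊓ V = B := Subgroup.eq_of_le_of_card_ge inf_le_left (by rw [hjc, hj2, hBc])
  exact inf_eq_left.1 this

theorem exists_not_mem {B : Subgroup G} (hBc : Nat.card B = p ^ 2) {z : G} (hz1 : z ≠ 1) (hzp : z ^ p = 1) :
    ∃ b ∈ B, b ∉ Subgroup.zpowers z := by
  by_contra hcon
  push Not at hcon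
  have h1 : B ≤ Subgroup.zpowers z := hcon
  have h2 := Subgroup.card_dvd_of_le h1
  rw [hBc, Nat.card_zpowers, orderOf_eq_prime hzp hz1] at h2
  have h3 := Nat.le_of_dvd hp.out.pos h2
  have h4 := hp.out.one_lt
  nlinarith

def TS (p : ℕ) (B : Subgroup G) (w : G) : Prop :=
  ∃ K : Subgroup G, ¬ p ∣ Nat.card K ∧ B ≤ Subgroup.normalizer (K : Set G) ∧ w ∈ K

def WB (p : ℕ) (B : Subgroup G) : Subgroup G :=
  Subgroup.closure {g | ∃ z ∈ B, z ≠ 1 ∧ g ∈ Oq p (Subgroup.centralizer ({z} : Set G))}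

namespace Ctx

variable {P : Subgroup G} (h : Ctx p P)

include h

theorem exists_cj_ge {R : Subgroup G} (hR : IsPGroup p R) : ∃ g, R ≤ cj g P := by
  obtain ⟨Q, hQ, hRQ⟩ := exists_isSyl_ge hR (le_top : R ≤ ⊤)
  obtain ⟨g, -, hg⟩ := h.syl.exists_cj hQ
  exact ⟨g, hg ▸ hRQ⟩

theorem ab {R : Subgroup G} (hR : IsPGroup p R) : ∀ x ∈ R, ∀ y ∈ R, x * y = y * x := by
  obtain ⟨g, hg⟩ := h.exists_cj_ge hR
  intro x hx y hy
  have h1 := h.comm _ (mem_cj.1 (hg hx)) _ (mem_cj.1 (hg hy))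
  have h2 : g⁻¹ * (x * y) * g = g⁻¹ * (y * x) * g := by
    calc g⁻¹ * (x * y) * g = (g⁻¹ * x * g) * (g⁻¹ * y * g) := by group
      _ = (g⁻¹ * y * g) * (g⁻¹ * x * g) := h1
      _ = g⁻¹ * (y * x) * g := by group
  exact mul_left_cancel (mul_right_cancel h2)

theorem ex {R : Subgroup G} (hR : IsPGroup p R) : ∀ x ∈ R, x ^ p = 1 := by
  obtain ⟨g, hg⟩ := h.exists_cj_ge hR
  intro x hx
  have h1 := h.el _ (mem_cj.1 (hg hx))
  have h2 : (g⁻¹ * x * g⁻¹⁻¹) ^ p = g⁻¹ * x ^ p * g⁻¹⁻¹ := conj_pow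
  rw [inv_inv, h1] at h2
  have h3 : x ^ p = g * (g⁻¹ * x ^ p * g) * g⁻¹ := by group
  rw [h3, ← h2]; group

theorem P_le_cen {z : G} (hz : z ∈ P) : P ≤ Subgroup.centralizer ({z} : Set G) := by
  intro x hx
  rw [Subgroup.mem_centralizer_singleton_iff]
  exact h.comm x hx z hz

theorem syl_cen {z : G} (hz : z ∈ P) : IsSyl p P (Subgroup.centralizer ({z} : Set G)) :=
  h.syl.of_le (h.P_le_cen hz) le_top

theorem isPGroup_zp {z : G} (hz : z ^ p = 1) : IsPGroup p (Subgroup.zpowers z) := by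
  rintro ⟨x, m, rfl⟩
  refine ⟨1, ?_⟩
  ext
  simp only [pow_one, Subgroup.coe_pow, Subgroup.coe_one]
  rw [← zpow_natCast, ← zpow_mul, mul_comm, zpow_mul, zpow_natCast, hz, one_zpow]

theorem mem_Oq {V : Subgroup G} (hV : V ≠ ⊤) {z k : G} (hzp : z ^ p = 1) (hzV : z ∈ V) (hkV : k ∈ V)
    (hk : k ∈ Subgroup.closure ({z, k * z * k⁻¹} : Set G)) (hok : ¬ p ∣ orderOf k) : k ∈ Oq p V := by
  obtain ⟨S, hS⟩ := exists_isSyl p V
  have hs := h.hs V hV
  have hab := h.ab hS.isPGroup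
  have hel := h.ex hS.isPGroup
  refine mem_Oq_of_mem_core hS hel ?_ hok
  have h1 : ∀ y : G, y ^ p = 1 → y ∈ V → y ∈ Oq p V ⊔ S := fun y hy hyV =>
    le_core hs hS hab (h.isPGroup_zp hy) ((Subgroup.zpowers_le).2 hyV) (Subgroup.mem_zpowers y)
  have : Subgroup.closure ({z, k * z * k⁻¹} : Set G) ≤ Oq p V ⊔ S := by
    rw [Subgroup.closure_le]
    rintro y (rfl | rfl)
    · exact h1 _ hzp hzV
    · refine h1 _ ?_ (Subgroup.mul_mem _ (Subgroup.mul_mem _ hkV hzV) (Subgroup.inv_mem _ hkV))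
      rw [conj_pow, hzp]; group
  exact this hk

/-- the pair subgroup -/
theorem pair {B : Subgroup G} (hB : B ≤ P) (hBc : Nat.card B = p ^ 2) {z x k : G} (hz : z ∈ B) (hz1 : z ≠ 1)
    (hzx : Commute z x) (hx : ¬ p ∣ orderOf x) (hk : k ∈ Subgroup.closure ({z, k * z * k⁻¹} : Set G)) :
    ∃ V : Subgroup G, V ≠ ⊤ ∧ B ≤ V ∧ x ∈ V ∧ k ∈ V := by
  have hzp := h.el z (hB hz)
  obtain ⟨b, hb, hbz⟩ := exists_not_mem hBc hz1 hzp
  obtain ⟨hzV, hxV, hkV, hbV⟩ := pair_trick hzp (h.comm b (hB hb) z (hB hz)) hzx hx hk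
  exact ⟨_, h.h2 _ _, B_le hBc hz hz1 hzp hb hbz hzV hbV, hxV, hkV⟩

theorem TS_mul {B : Subgroup G} (hB : B ≤ P) (hBc : Nat.card B = p ^ 2) {w g z : G} (hw : TS p B w) (hz : z ∈ B)
    (hz1 : z ≠ 1) (hg : g ∈ Oq p (Subgroup.centralizer ({z} : Set G))) : TS p B (w * g) := by
  obtain ⟨K, hK, hBK, hwK⟩ := hw
  have hzp := h.el z (hB hz)
  obtain ⟨k, hk, hkc, hkw⟩ := exists_rep hK hzp hz1 (hBK hz) hwK
  have heC : k⁻¹ * w ∈ K ⊓ Subgroup.centralizer ({z} : Set G) :=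
    ⟨Subgroup.mul_mem _ (Subgroup.inv_mem _ hk) hwK, Subgroup.mem_centralizer_singleton_iff.2 hkw⟩
  have hn : K ⊓ Subgroup.centralizer ({z} : Set G) ≤
      Subgroup.normalizer ((Oq p (Subgroup.centralizer ({z} : Set G)) : Subgroup G) : Set G) :=
    inf_le_right.trans (le_normalizer_Oq _)
  have hX0 : ¬ p ∣ Nat.card ↥(Oq p (Subgroup.centralizer ({z} : Set G)) ⊔ (K ⊓ Subgroup.centralizer ({z} : Set G))) :=
    not_dvd_sup (Oq_not_dvd _) (not_dvd_of_le hK inf_le_left) hn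
  have hBC : B ≤ Subgroup.centralizer ({z} : Set G) := hB.trans (h.P_le_cen (hB hz))
  have hBX0 : B ≤ Subgroup.normalizer ((Oq p (Subgroup.centralizer ({z} : Set G)) ⊔
      (K ⊓ Subgroup.centralizer ({z} : Set G)) : Subgroup G) : Set G) :=
    le_normalizer_sup (hBC.trans (le_normalizer_Oq _)) (le_normalizer_inf hBK (hBC.trans Subgroup.le_normalizer))
  have hX0C : Oq p (Subgroup.centralizer ({z} : Set G)) ⊔ (K ⊓ Subgroup.centralizer ({z} : Set G)) ≤
    Subgroup.centralizer ({z} : Set G) := sup_le (Oq_le _) inf_le_right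
  set X0 := Oq p (Subgroup.centralizer ({z} : Set G)) ⊔ (K ⊓ Subgroup.centralizer ({z} : Set G)) with hX0d
  have hxX0 : k⁻¹ * w * g ∈ X0 := Subgroup.mul_mem _ ((le_sup_right : _ ≤ X0) heC) ((le_sup_left : _ ≤ X0) hg)
  have hzx : Commute z (k⁻¹ * w * g) := (Subgroup.mem_centralizer_singleton_iff.1 (hX0C hxX0)).symm
  obtain ⟨V, hV, hBV, hxV, hkV⟩ := h.pair hB hBc hz hz1 hzx (not_dvd_orderOf hX0 hxX0) hkc
  have hkO : k ∈ Oq p V := h.mem_Oq hV hzp (hBV hz) hkV hkc (not_dvd_orderOf hK hk)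
  refine ⟨Oq p V ⊔ (V ⊓ X0), not_dvd_sup (Oq_not_dvd _) (not_dvd_of_le hX0 inf_le_right)
    (inf_le_left.trans (le_normalizer_Oq _)), le_normalizer_sup (hBV.trans (le_normalizer_Oq _))
    (le_normalizer_inf (hBV.trans Subgroup.le_normalizer) hBX0), ?_⟩
  have h3 : w * g = k * (k⁻¹ * w * g) := by group
  rw [h3]
  exact Subgroup.mul_mem _ ((le_sup_left : Oq p V ≤ Oq p V ⊔ (V ⊓ X0)) hkO)
    ((le_sup_right : V ⊓ X0 ≤ Oq p V ⊔ (V ⊓ X0)) ⟨hxV, hxX0⟩)

theorem TS_of_mem_WB {B : Subgroup G} (hB : B ≤ P) (hBc : Nat.card B = p ^ 2) {w : G} (hw : w ∈ WB p B) :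
    TS p B w := by
  unfold WB at hw
  induction hw using Subgroup.closure_induction_right with
  | one =>
    refine ⟨⊥, ?_, ?_, Subgroup.mem_bot.2 rfl⟩
    · rw [Subgroup.card_bot]; exact hp.out.not_dvd_one
    · intro b _
      rw [mem_normalizer_iff_cj, cj_def, Subgroup.map_bot]
  | mul_right x hx y hy ih =>
    obtain ⟨z, hz, hz1, hg⟩ := hy
    exact h.TS_mul hB hBc ih hz hz1 hg
  | mul_inv_cancel x hx y hy ih =>
    obtain ⟨z, hz, hz1, hg⟩ := hy
    exact h.TS_mul hB hBc ih hz hz1 (Subgroup.inv_mem _ hg)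

theorem WB_not_dvd {B : Subgroup G} (hB : B ≤ P) (hBc : Nat.card B = p ^ 2) : ¬ p ∣ Nat.card (WB p B) := by
  intro hd
  obtain ⟨x, hx⟩ := exists_prime_orderOf_dvd_card' p hd
  obtain ⟨K, hK, -, hxK⟩ := h.TS_of_mem_WB hB hBc x.2
  have h1 := not_dvd_orderOf hK hxK
  rw [Subgroup.orderOf_coe, hx] at h1
  exact h1 dvd_rfl

theorem elemB {B : Subgroup G} (hB : B ≤ P) : Cfsg.IsElementaryAbelian p B := by
  refine ⟨⟨⟨fun a b => ?_⟩⟩, fun a ha => h.el a (hB ha)⟩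
  ext
  exact h.comm _ (hB a.2) _ (hB b.2)

theorem theta_le_WB {B : Subgroup G} (hB : B ≤ P) (hBc : Nat.card B = p ^ 2) {a : G} (ha : a ∈ P) (ha1 : a ≠ 1) :
    Oq p (Subgroup.centralizer ({a} : Set G)) ≤ WB p B := by
  have hPn : ∀ c ∈ P, P ≤ Subgroup.normalizer ((Oq p (Subgroup.centralizer ({c} : Set G)) : Subgroup G) : Set G) :=
    fun c hc => (h.P_le_cen hc).trans (le_normalizer_Oq _)
  have h1 : Oq p (Subgroup.centralizer ({a} : Set G)) ⊓ WB p B = Oq p (Subgroup.centralizer ({a} : Set G)) := by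
    refine eq_of_fixed_le (h.elemB hB) (by rw [hBc]) (Oq_not_dvd _) (hB.trans (hPn a ha)) inf_le_left ?_
    intro b hb hb1
    have h2 : Oq p (Subgroup.centralizer ({a} : Set G)) ⊓ Subgroup.centralizer ({b} : Set G) ≤
        Oq p (Subgroup.centralizer ({b} : Set G)) := by
      refine le_Oq_of_syl (h.hs _ (h.cen b hb1)) (h.syl_cen (hB hb)) inf_le_right
        (not_dvd_of_le (Oq_not_dvd _) inf_le_left) ?_
      exact le_normalizer_inf (hPn a ha) ((h.P_le_cen (hB hb)).trans Subgroup.le_normalizer)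
    refine le_inf inf_le_left (h2.trans ?_)
    intro g hg
    exact Subgroup.subset_closure ⟨b, hb, hb1, hg⟩
  exact inf_eq_left.1 h1

theorem WP_not_dvd {B : Subgroup G} (hB : B ≤ P) (hBc : Nat.card B = p ^ 2) : ¬ p ∣ Nat.card (WB p P) := by
  refine not_dvd_of_le (h.WB_not_dvd hB hBc) ?_
  unfold WB
  rw [Subgroup.closure_le]
  rintro g ⟨a, ha, ha1, hg⟩
  exact h.theta_le_WB hB hBc ha ha1 hg

theorem normalizer_le_WP : Subgroup.normalizer (P : Set G) ≤ Subgroup.normalizer ((WB p P : Subgroup G) : Set G) := by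
  refine le_normalizer_of_conj ?_
  intro n hn x hx
  unfold WB at hx
  induction hx using Subgroup.closure_induction with
  | one => simpa using Subgroup.one_mem _
  | mul x y _ _ hx hy =>
    have : n * (x * y) * n⁻¹ = (n * x * n⁻¹) * (n * y * n⁻¹) := by group
    rw [this]; exact Subgroup.mul_mem _ hx hy
  | inv x _ hx =>
    have : n * x⁻¹ * n⁻¹ = (n * x * n⁻¹)⁻¹ := by group
    rw [this]; exact Subgroup.inv_mem _ hx
  | mem x hx =>
    obtain ⟨a, ha, ha1, hg⟩ := hx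
    refine Subgroup.subset_closure ⟨n * a * n⁻¹, (Subgroup.mem_normalizer_iff.1 hn a).1 ha, ?_, ?_⟩
    · intro he
      apply ha1
      have : a = n⁻¹ * (n * a * n⁻¹) * n := by group
      rw [this, he]; group
    · have h1 : cj n (Oq p (Subgroup.centralizer ({a} : Set G))) =
          Oq p (Subgroup.centralizer ({n * a * n⁻¹} : Set G)) := by
        rw [cj_Oq]
        congr 1
        ext y
        rw [mem_cj, Subgroup.mem_centralizer_singleton_iff, Subgroup.mem_centralizer_singleton_iff]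
        constructor
        · intro hy
          calc y * (n * a * n⁻¹) = n * ((n⁻¹ * y * n) * a) * n⁻¹ := by group
            _ = n * (a * (n⁻¹ * y * n)) * n⁻¹ := by rw [hy]
            _ = n * a * n⁻¹ * y := by group
        · intro hy
          calc n⁻¹ * y * n * a = n⁻¹ * (y * (n * a * n⁻¹)) * n := by group
            _ = n⁻¹ * (n * a * n⁻¹ * y) * n := by rw [hy]
            _ = a * (n⁻¹ * y * n) := by group
      rw [← h1]
      exact conj_mem_cj hg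

end Ctx

end Cfsg.Agent.H33.TG
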