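import Mathlib
import Cfsg.Agent.H33.TG2

set_option autoImplicit false
set_option linter.all false

/-! Groups in which every two elements generate a proper subgroup, all proper subgroups solvable, with an
elementary abelian noncyclic Sylow `p`-subgroup: there are none, part 3 (helper33). -/

namespace Cfsg.Agent.H33.TG

open Cfsg.Agent.SigF Cfsg.Agent.SigO

universe u

variable {G : Type u} [Group G] [Finite G] {p : ℕ} [hp : Fact p.Prime]

structure Ctx2 (p : ℕ) (P M : Subgroup G) : Prop extends Ctx p P where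
  ntop : M ≠ ⊤
  nP : Subgroup.normalizer (P : Set G) ≤ M
  th : ∀ a ∈ P, a ≠ 1 → Oq p (Subgroup.centralizer ({a} : Set G)) ≤ M

namespace Ctx2

variable {P M : Subgroup G} (h : Ctx2 p P M)

include h

theorem P_le : P ≤ M := Subgroup.le_normalizer.trans h.nP

theorem cen_le {a : G} (ha : a ∈ P) (ha1 : a ≠ 1) : Subgroup.centralizer ({a} : Set G) ≤ M := by
  intro v hv
  obtain ⟨t, ht, htn⟩ := frattini (h.hs _ (h.cen a ha1)) (h.syl_cen ha) h.comm hv
  have h1 : v = t * (t⁻¹ * v) := by group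
  rw [h1]
  exact Subgroup.mul_mem _ (h.th a ha ha1 ht) (h.nP htn)

theorem fusion {z g : G} (hz : z ∈ P) (hz1 : z ≠ 1) (hg : g * z * g⁻¹ ∈ P) : g ∈ M := by
  have h1 : z ∈ cj g⁻¹ P := by rw [mem_cj, inv_inv]; exact hg
  have h2 : cj g⁻¹ P ≤ Subgroup.centralizer ({z} : Set G) := by
    intro x hx
    rw [Subgroup.mem_centralizer_singleton_iff]
    exact h.ab (isPGroup_cj h.syl.isPGroup) x hx z h1
  have h3 : IsSyl p (cj g⁻¹ P) ⊤ := by
    have := h.syl.cj g⁻¹
    have ht : cj g⁻¹ (⊤ : Subgroup G) = ⊤ := cj_eq_of_mem (Subgroup.mem_top _)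
    rwa [ht] at this
  obtain ⟨c, hc, hcP⟩ := (h.syl_cen hz).exists_cj (h3.of_le h2 le_top)
  have h4 : g * c ∈ Subgroup.normalizer (P : Set G) := by
    rw [mem_normalizer_iff_cj, cj_mul, hcP, cj_cj_inv]
  have h5 : g = (g * c) * c⁻¹ := by group
  rw [h5]
  exact Subgroup.mul_mem _ (h.nP h4) (Subgroup.inv_mem _ (h.cen_le hz hz1 hc))

theorem sub_le {B V : Subgroup G} (hB : B ≤ P) (hBc : Nat.card B = p ^ 2) (hV : V ≠ ⊤) (hBV : B ≤ V) : V ≤ M := by
  have hOM : Oq p V ≤ M := by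
    have h1 : Oq p V ⊓ M = Oq p V := by
      refine eq_of_fixed_le (h.elemB hB) (by rw [hBc]) (Oq_not_dvd _) (hBV.trans (le_normalizer_Oq _)) inf_le_left ?_
      intro b hb hb1
      exact le_inf inf_le_left (inf_le_right.trans (h.cen_le (hB hb) hb1))
    exact inf_eq_left.1 h1
  obtain ⟨S, hS, hBS⟩ := exists_isSyl_ge (isPGroup_of_elem (h.elemB hB)) hBV
  obtain ⟨z, hz, hz1⟩ := exists_ne_one_of_card (p := p) (B := B) (by
    rw [hBc]; exact Nat.le_self_pow (by norm_num) p)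
  have hzP := hB hz
  have hSC : S ≤ Subgroup.centralizer ({z} : Set G) := by
    intro x hx
    rw [Subgroup.mem_centralizer_singleton_iff]
    exact h.ab hS.isPGroup x hx z (hBS hz)
  obtain ⟨Q, hQ, hSQ⟩ := exists_isSyl_ge hS.isPGroup hSC
  obtain ⟨c, hc, hcQ⟩ := (h.syl_cen hzP).exists_cj hQ
  have hcM := h.cen_le hzP hz1 hc
  intro v hv
  obtain ⟨t, ht, htn⟩ := frattini (h.hs V hV) hS (h.ab hS.isPGroup) hv
  have h1 : v = t * (t⁻¹ * v) := by group
  rw [h1]
  refine Subgroup.mul_mem _ (hOM ht) ?_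
  set n := t⁻¹ * v with hn
  have h2 : n * z * n⁻¹ ∈ S := (Subgroup.mem_normalizer_iff.1 htn z).1 (hBS hz)
  have h3 : c⁻¹ * (n * z * n⁻¹) * c ∈ P := by
    rw [← mem_cj, hcQ]; exact hSQ h2
  have h4 : c * z * c⁻¹ = z := by
    rw [Subgroup.mem_centralizer_singleton_iff.1 hc]; group
  have h5 : (c⁻¹ * n * c) * z * (c⁻¹ * n * c)⁻¹ ∈ P := by
    have : (c⁻¹ * n * c) * z * (c⁻¹ * n * c)⁻¹ = c⁻¹ * (n * (c * z * c⁻¹) * n⁻¹) * c := by group
    rw [this, h4]; exact h3
  have h6 := h.fusion hzP hz1 h5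
  have h7 : n = c * (c⁻¹ * n * c) * c⁻¹ := by group
  rw [h7]
  exact Subgroup.mul_mem _ (Subgroup.mul_mem _ hcM h6) (Subgroup.inv_mem _ hcM)

theorem sub_le' {B H : Subgroup G} (hB : B ≤ P) (hBc : Nat.card B = p ^ 2) {z : G} (hz : z ∈ B) (hz1 : z ≠ 1)
    (hH : H ≠ ⊤) (hzH : z ∈ H)
    (hnc : Subgroup.normalClosure (((Subgroup.zpowers z).subgroupOf H : Subgroup ↥H) : Set ↥H) = ⊤) : H ≤ M := by
  have hzp := h.el z (hB hz)
  have hzM := h.P_le (hB hz)
  obtain ⟨S, hS, hzS⟩ := exists_isSyl_ge (h.isPGroup_zp hzp) ((Subgroup.zpowers_le).2 hzH)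
  have hs := h.hs H hH
  have hab := h.ab hS.isPGroup
  have hSn : S ≤ Subgroup.normalizer ((Oq p H : Subgroup G) : Set G) := hS.le.trans (le_normalizer_Oq H)
  -- `H = O_{p'}(H) S`
  have hN : H ≤ Oq p H ⊔ S := by
    have h1 : ((Oq p H ⊔ S).subgroupOf H).Normal := subgroupOf_normal (sup_le (Oq_le H) hS.le)
      (fun v hv => normal_core hs hS hab hv)
    have h2 : Subgroup.normalClosure (((Subgroup.zpowers z).subgroupOf H : Subgroup ↥H) : Set ↥H) ≤
        (Oq p H ⊔ S).subgroupOf H := by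
      refine Subgroup.normalClosure_le_normal ?_
      intro x hx
      exact (le_sup_right : S ≤ Oq p H ⊔ S) (hzS hx)
    rw [hnc, top_le_iff] at h2
    exact Subgroup.subgroupOf_eq_top.1 h2
  have hcz : ∀ x ∈ H, x * z * x⁻¹ ∈ M := by
    intro x hx
    obtain ⟨k, hk, s, hs', rfl⟩ := (mem_sup_iff hSn).1 (hN hx)
    have h1 : k * s * z * (k * s)⁻¹ = k * z * k⁻¹ := by
      have h2 : s * z = z * s := hab s hs' z (hzS (Subgroup.mem_zpowers z))
      calc k * s * z * (k * s)⁻¹ = k * (s * z) * s⁻¹ * k⁻¹ := by group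
        _ = k * (z * s) * s⁻¹ * k⁻¹ := by rw [h2]
        _ = k * z * k⁻¹ := by group
    rw [h1]
    obtain ⟨k', hk', hkc, hkw⟩ := exists_rep (Oq_not_dvd H) hzp hz1 (le_normalizer_Oq H hzH) hk
    have h3 : k * z * k⁻¹ = k' * z * k'⁻¹ := by
      calc k * z * k⁻¹ = k' * ((k'⁻¹ * k) * z) * (k'⁻¹ * k)⁻¹ * k'⁻¹ := by group
        _ = k' * (z * (k'⁻¹ * k)) * (k'⁻¹ * k)⁻¹ * k'⁻¹ := by rw [hkw]
        _ = k' * z * k'⁻¹ := by group
    rw [h3]
    obtain ⟨V, hV, hBV, -, hkV⟩ := h.pair hB hBc hz hz1 (Commute.one_right z)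
      (by rw [orderOf_one]; exact hp.out.not_dvd_one) hkc
    have hkM := h.sub_le hB hBc hV hBV hkV
    exact Subgroup.mul_mem _ (Subgroup.mul_mem _ hkM hzM) (Subgroup.inv_mem _ hkM)
  have h4 : Subgroup.normalClosure (((Subgroup.zpowers z).subgroupOf H : Subgroup ↥H) : Set ↥H) ≤ M.subgroupOf H := by
    rw [Subgroup.normalClosure, Subgroup.closure_le]
    intro x hx
    obtain ⟨a, ha, hax⟩ := Group.mem_conjugatesOfSet_iff.1 hx
    obtain ⟨c, hc⟩ := isConj_iff.1 hax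
    obtain ⟨m, hm⟩ := Subgroup.mem_zpowers_iff.1 (Subgroup.mem_subgroupOf.1 ha)
    rw [SetLike.mem_coe, Subgroup.mem_subgroupOf, ← hc]
    have h5 : ((c * a * c⁻¹ : ↥H) : G) = ((c : G) * z * (c : G)⁻¹) ^ m := by
      rw [conj_zpow, hm]; rfl
    rw [h5]
    exact Subgroup.zpow_mem _ (hcz c c.2) m
  rw [hnc, top_le_iff] at h4
  exact Subgroup.subgroupOf_eq_top.1 h4

end Ctx2

end Cfsg.Agent.H33.TG

namespace Cfsg.Agent.H33

open Cfsg.Agent.SigF Cfsg.Agent.SigO TG

universe u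

theorem no_two_gen {G : Type u} [Group G] [Finite G] [IsSimpleGroup G] (hnc : ∃ a b : G, a * b ≠ b * a)
    (hs : ∀ H : Subgroup G, H ≠ ⊤ → Group.IsSolvable H) (h2 : ∀ a b : G, Subgroup.closure {a, b} ≠ ⊤)
    {p : ℕ} [hp : Fact p.Prime] (P : Sylow p G) (hcomm : ∀ x ∈ P, ∀ y ∈ P, x * y = y * x)
    (hel : ∀ x ∈ P, x ^ p = 1) (hnc2 : p ^ 2 ∣ Nat.card P) : False := by
  have hne : ∀ N : Subgroup G, (∀ x ∈ N, ∀ y ∈ N, x * y = y * x) → N ≠ ⊤ := by
    intro N hN ht
    obtain ⟨a, b, hab⟩ := hnc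
    exact hab (hN a (ht ▸ Subgroup.mem_top a) b (ht ▸ Subgroup.mem_top b))
  have hcen : ∀ z : G, z ≠ 1 → Subgroup.centralizer ({z} : Set G) ≠ ⊤ := by
    intro z hz ht
    have h1 : z ∈ Subgroup.center G := by
      rw [Subgroup.mem_center_iff]
      intro g
      have := Subgroup.mem_centralizer_singleton_iff.1 (ht ▸ Subgroup.mem_top g : g ∈ Subgroup.centralizer ({z} : Set G))
      exact this
    have h3 : (Subgroup.center G).Normal := inferInstance
    rcases h3.eq_bot_or_eq_top with h4 | h4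
    · rw [h4, Subgroup.mem_bot] at h1; exact hz h1
    · exact hne (Subgroup.center G) (fun x hx y _ => (Subgroup.mem_center_iff.1 hx y).symm) h4
  have hsyl : IsSyl p (P : Subgroup G) ⊤ := by
    refine isSyl_of_not_dvd P.isPGroup' le_top ?_
    rw [Subgroup.relIndex_top_right]
    exact P.not_dvd_index
  have ctx : Ctx p (P : Subgroup G) := ⟨hs, h2, hsyl, hcomm, hel, hcen⟩
  obtain ⟨B0, hB0⟩ := Sylow.exists_subgroup_card_pow_prime p hnc2
  obtain ⟨B, hB, hBc⟩ : ∃ B : Subgroup G, B ≤ (P : Subgroup G) ∧ Nat.card B = p ^ 2 :=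
    ⟨B0.map (P : Subgroup G).subtype, Subgroup.map_subtype_le _, by
      rw [Subgroup.card_map_of_injective (Subgroup.subtype_injective _), hB0]⟩
  obtain ⟨z, hz, hz1⟩ := exists_ne_one_of_card (p := p) (B := B) (by
    rw [hBc]; exact Nat.le_self_pow (by norm_num) p)
  have hPbot : (P : Subgroup G) ≠ ⊥ := fun he => hz1 (by
    have := hB hz; rw [he, Subgroup.mem_bot] at this; exact this)
  have hpG : p ∣ Nat.card (⊤ : Subgroup G) := by
    rw [Subgroup.card_top]
    exact ((dvd_pow_self p (two_ne_zero)).trans hnc2).trans (Subgroup.card_subgroup_dvd_card _)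
  obtain ⟨M, hM⟩ : ∃ M : Subgroup G, Ctx2 p (P : Subgroup G) M := by
    by_cases hW : WB p (P : Subgroup G) = ⊥
    · refine ⟨Subgroup.normalizer ((P : Subgroup G) : Set G), ctx, ?_, le_rfl, ?_⟩
      · intro ht
        have h3 : (P : Subgroup G).Normal := Subgroup.normalizer_eq_top_iff.1 ht
        rcases h3.eq_bot_or_eq_top with h4 | h4
        · exact hPbot h4
        · exact hne _ hcomm h4
      · intro a ha ha1 g hg
        have h3 : g ∈ WB p (P : Subgroup G) := Subgroup.subset_closure ⟨a, ha, ha1, hg⟩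
        rw [hW, Subgroup.mem_bot] at h3
        rw [h3]; exact Subgroup.one_mem _
    · refine ⟨Subgroup.normalizer ((WB p (P : Subgroup G) : Subgroup G) : Set G), ctx, ?_, ctx.normalizer_le_WP, ?_⟩
      · intro ht
        have h3 : (WB p (P : Subgroup G)).Normal := Subgroup.normalizer_eq_top_iff.1 ht
        rcases h3.eq_bot_or_eq_top with h4 | h4
        · exact hW h4
        · exact ctx.WP_not_dvd hB hBc (h4 ▸ hpG)
      · intro a ha ha1 g hg
        exact Subgroup.le_normalizer (Subgroup.subset_closure ⟨a, ha, ha1, hg⟩ : g ∈ WB p (P : Subgroup G))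
  -- Zipper lemma
  have hZt : Subgroup.zpowers z ≠ ⊤ := hne _ (by
    intro x hx y hy
    obtain ⟨m, rfl⟩ := Subgroup.mem_zpowers_iff.1 hx
    obtain ⟨n, rfl⟩ := Subgroup.mem_zpowers_iff.1 hy
    rw [← zpow_add, ← zpow_add, add_comm])
  have hnC : Subgroup.normalClosure ((Subgroup.zpowers z : Subgroup G) : Set G) = ⊤ := by
    have h3 : (Subgroup.normalClosure ((Subgroup.zpowers z : Subgroup G) : Set G)).Normal := inferInstance
    rcases h3.eq_bot_or_eq_top with h4 | h4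
    · exfalso
      have h5 : z ∈ Subgroup.normalClosure ((Subgroup.zpowers z : Subgroup G) : Set G) :=
        Subgroup.subset_normalClosure (Subgroup.mem_zpowers z)
      rw [h4, Subgroup.mem_bot] at h5
      exact hz1 h5
    · exact h4
  rcases S3947.result (Subgroup.zpowers z) hnC hZt with h3 | ⟨M', ⟨hM', hzM'⟩, hu⟩
  · apply hM.ntop
    rw [eq_top_iff, ← h3]
    refine sSup_le ?_
    rintro H ⟨hH1, hH2, hH3⟩
    exact hM.sub_le' hB hBc hz hz1 hH2 (hH1 (Subgroup.mem_zpowers z)) hH3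
  · apply hM'.1
    rw [eq_top_iff]
    intro g _
    obtain ⟨L, hL, hL'⟩ := (eq_top_or_exists_le_coatom (Subgroup.closure ({z, g} : Set G))).resolve_left (h2 z g)
    have h4 : Subgroup.zpowers z ≤ L := by
      rw [Subgroup.zpowers_le]
      exact hL' (Subgroup.subset_closure (by simp))
    have h5 : L = M' := hu L ⟨hL, h4⟩
    rw [← h5]
    exact hL' (Subgroup.subset_closure (by simp))

end Cfsg.Agent.H33
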