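import Cfsg.Agent.H33.CycSimple
import Cfsg.Agent.H69.PChain

set_option autoImplicit false
set_option linter.all false

/-! Cyclic Sylow subgroups: `p`-solvability is detected on pairs of elements of order `p` (helper33). -/

namespace Cfsg.Agent.H33

open Cfsg

universe u

theorem isPSolvable_of_coprime_normal {G : Type u} [Group G] {p : ℕ} (N : Subgroup G) [hN : N.Normal]
    (hc : (Nat.card N).Coprime p) (h : IsPSolvable p (G ⧸ N)) : IsPSolvable p G := by
  obtain ⟨n, H, h0, hn, hmono, hnorm, hfac⟩ := h
  have hs : Function.Surjective (QuotientGroup.mk' N) := QuotientGroup.mk'_surjective N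
  have h1 : ∀ i : Fin (n + 1), H69.PChain p ((H i).comap (QuotientGroup.mk' N)) := by
    intro i
    induction i using Fin.induction with
    | zero =>
      rw [h0]
      have h2 : (⊥ : Subgroup (G ⧸ N)).comap (QuotientGroup.mk' N) = N := by
        rw [MonoidHom.comap_bot, QuotientGroup.ker_mk']
      rw [h2]
      refine (H69.PChain.bot p).step bot_le hN (Or.inr ?_)
      rwa [Subgroup.relIndex_bot_left]
    | succ i ih =>
      haveI := hnorm i.succ
      refine ih.step (Subgroup.comap_mono (hmono (Fin.castSucc_lt_succ).le)) inferInstance ?_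
      have h2 : ((H i.castSucc).comap (QuotientGroup.mk' N)).relIndex
          ((H i.succ).comap (QuotientGroup.mk' N)) = (H i.castSucc).relIndex (H i.succ) := by
        rw [Subgroup.relIndex_comap, Subgroup.map_comap_eq_self_of_surjective hs]
      rw [h2]
      exact hfac i
  have h2 := h1 (Fin.last n)
  rw [hn, Subgroup.comap_top] at h2
  exact h2

theorem isPSolvable_of_npc {G : Type u} [Group G] [Finite G] {p : ℕ} [hp : Fact p.Prime]
    (h : Cfsg.HasNormalPComplement p G) : IsPSolvable p G := by
  obtain ⟨N, hN, hcop, k, hk⟩ := Transfer.hasNPC_iff_exists.1 h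
  refine H69.PChain.step (N := N) ?_ le_top inferInstance (Or.inl ⟨k, by rw [Subgroup.relIndex_top_right, hk]⟩)
  refine (H69.PChain.bot p).step bot_le hN (Or.inr ?_)
  rwa [Subgroup.relIndex_bot_left]

theorem exists_lift_order {G : Type u} [Group G] [Finite G] {p : ℕ} [hp : Fact p.Prime] (N : Subgroup G)
    [hN : N.Normal] (hc : (Nat.card N).Coprime p) {z : G ⧸ N} (hz : orderOf z = p) :
    ∃ x : G, (QuotientGroup.mk x : G ⧸ N) = z ∧ orderOf x = p := by
  obtain ⟨g, rfl⟩ := QuotientGroup.mk_surjective z
  obtain ⟨u, c, huc, -, ⟨k, hk⟩, hcr, -, hcz⟩ := BlkInd.exists_decomp hp.out g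
  have h1 : (QuotientGroup.mk c : G ⧸ N) = 1 := by
    have h2 : orderOf (QuotientGroup.mk c : G ⧸ N) ∣ orderOf c := orderOf_map_dvd (QuotientGroup.mk' N) c
    have h3 : orderOf (QuotientGroup.mk c : G ⧸ N) ∣ p := by
      rw [← hz]
      obtain ⟨i, hi⟩ := hcz
      apply orderOf_dvd_of_mem_zpowers
      refine ⟨i, ?_⟩
      rw [← hi]; rfl
    rcases (Nat.dvd_prime hp.out).1 h3 with h4 | h4
    · exact orderOf_eq_one_iff.1 h4
    · rw [h4] at h2; exact absurd h2 hcr
  have h2 : (QuotientGroup.mk u : G ⧸ N) = QuotientGroup.mk g := by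
    rw [← huc]
    have : (QuotientGroup.mk (u * c) : G ⧸ N) = QuotientGroup.mk u * QuotientGroup.mk c := rfl
    rw [this, h1, mul_one]
  refine ⟨u, h2, ?_⟩
  have h3 : u ^ p ∈ N := by
    rw [← QuotientGroup.eq_one_iff]
    have : ((u ^ p : G) : G ⧸ N) = (QuotientGroup.mk u : G ⧸ N) ^ p := rfl
    rw [this, h2, ← hz, pow_orderOf_eq_one]
  have h4 : (u ^ p) ^ Nat.card N = 1 := by
    have h5 : (⟨_, h3⟩ : N) ^ Nat.card N = 1 := pow_card_eq_one'
    exact congrArg Subtype.val h5
  have h5 : (u ^ p) ^ p ^ k = 1 := by
    rw [← pow_mul, mul_comm, pow_mul, ← hk, pow_orderOf_eq_one, one_pow]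
  have h6 : u ^ p = 1 := orderOf_eq_one_iff.1 (Nat.eq_one_of_dvd_coprimes (hc.pow_right k)
    (orderOf_dvd_of_pow_eq_one h4) (orderOf_dvd_of_pow_eq_one h5))
  refine orderOf_eq_prime h6 ?_
  rintro rfl
  rw [← h2] at hz
  have h7 : orderOf (QuotientGroup.mk (1 : G) : G ⧸ N) = 1 := orderOf_one
  rw [h7] at hz
  exact hp.out.one_lt.ne hz

theorem cyc_pSolvable (p : ℕ) [hp : Fact p.Prime] : ∀ (n : ℕ) (G : Type u) [Group G] [Finite G],
    Nat.card G = n → (∀ P : Sylow p G, IsCyclic (P : Subgroup G)) →
    (∀ x y : G, orderOf x = p → orderOf y = p → IsPSolvable p ↥(Subgroup.closure ({x, y} : Set G))) →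
    IsPSolvable p G := by
  intro n
  induction n using Nat.strong_induction_on with
  | _ n ih =>
  intro G _ _ hcard hcyc hpair
  by_cases hpG : p ∣ Nat.card G
  swap
  · refine (H69.PChain.bot p).step bot_le inferInstance (Or.inr ?_)
    rw [Subgroup.relIndex_bot_left, Subgroup.card_top]
    exact (Nat.coprime_comm.1 ((Nat.Prime.coprime_iff_not_dvd hp.out).2 hpG))
  -- a nontrivial proper normal `p'`-subgroup
  have hstep : ∀ N : Subgroup G, N.Normal → N ≠ ⊥ → (Nat.card N).Coprime p → IsPSolvable p G := by
    intro N hN hNb hNc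
    refine isPSolvable_of_coprime_normal N hNc ?_
    have hs : Function.Surjective (QuotientGroup.mk' N) := QuotientGroup.mk'_surjective N
    refine ih (Nat.card (G ⧸ N)) ?_ (G ⧸ N) rfl ?_ ?_
    · rw [← hcard, ← Subgroup.card_mul_index N, ← Subgroup.index_eq_card]
      have h1 : 1 < Nat.card N := by
        by_contra h
        exact hNb ((Subgroup.card_le_one_iff_eq_bot N).1 (by omega))
      have h2 : 0 < N.index := Nat.pos_of_ne_zero Subgroup.index_ne_zero_of_finite
      nlinarith
    · intro Q
      set S : Sylow p G := default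
      haveI := hcyc S
      have h1 : IsCyclic ((S.mapSurjective hs : Sylow p (G ⧸ N)) : Subgroup (G ⧸ N)) := by
        rw [Sylow.coe_mapSurjective]
        exact isCyclic_of_surjective _ ((QuotientGroup.mk' N).subgroupMap_surjective (S : Subgroup G))
      have e := Sylow.equiv (S.mapSurjective hs) Q
      exact isCyclic_of_surjective e e.surjective
    · intro x y hx hy
      obtain ⟨x', hx', hxo⟩ := exists_lift_order N hNc hx
      obtain ⟨y', hy', hyo⟩ := exists_lift_order N hNc hy
      have h1 := hpair x' y' hxo hyo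
      have h2 : (Subgroup.closure ({x', y'} : Set G)).map (QuotientGroup.mk' N) =
          Subgroup.closure ({x, y} : Set (G ⧸ N)) := by
        rw [MonoidHom.map_closure, Set.image_pair, ← hx', ← hy']
        rfl
      rw [← h2]
      exact H76.isPSolvable_of_surjective _
        ((QuotientGroup.mk' N).subgroupMap_surjective (Subgroup.closure ({x', y'} : Set G))) h1
  by_cases hcore : pPrimeCore p G = ⊥
  swap
  · exact hstep _ inferInstance hcore (Solv.pPrimeCore_card_coprime p)
  by_cases hnorm : ∃ N : Subgroup G, N.Normal ∧ N ≠ ⊥ ∧ N ≠ ⊤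
  · obtain ⟨N, hN, hNb, hNt⟩ := hnorm
    -- `N` is `p`-solvable
    have hNs : IsPSolvable p N := by
      refine ih (Nat.card N) ?_ N rfl ?_ ?_
      · rw [← hcard]
        exact lt_of_le_of_ne (Nat.le_of_dvd Nat.card_pos (Subgroup.card_subgroup_dvd_card N))
          (fun h => hNt (Subgroup.eq_top_of_card_eq N h))
      · intro Q
        have hRp : IsPGroup p ↥((Q : Subgroup N).map N.subtype) := Q.isPGroup'.map _
        obtain ⟨P', hP'⟩ := hRp.exists_le_sylow
        haveI := hcyc P'
        have h1 : Function.Injective ((Subgroup.inclusion hP').comp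
            (((Q : Subgroup N).equivMapOfInjective N.subtype N.subtype_injective).toMonoidHom)) :=
          (Subgroup.inclusion_injective hP').comp
            ((Q : Subgroup N).equivMapOfInjective N.subtype N.subtype_injective).injective
        exact isCyclic_of_injective _ h1
      · intro x y hx hy
        have h1 := hpair x y (by rw [Subgroup.orderOf_coe, hx]) (by rw [Subgroup.orderOf_coe, hy])
        have h2 : (Subgroup.closure ({x, y} : Set N)).map N.subtype =
            Subgroup.closure ({(x : G), (y : G)} : Set G) := by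
          rw [MonoidHom.map_closure, Set.image_pair]
          rfl
        rw [← h2] at h1
        exact H76.isPSolvable_of_injective
          ((Subgroup.closure ({x, y} : Set N)).equivMapOfInjective N.subtype
            N.subtype_injective).toMonoidHom
          ((Subgroup.closure ({x, y} : Set N)).equivMapOfInjective N.subtype
            N.subtype_injective).injective h1
    have hNcore : pPrimeCore p N = ⊥ := by
      haveI : ((pPrimeCore p N).map N.subtype).Normal := inferInstance
      have h1 : (pPrimeCore p N).map N.subtype ≤ pPrimeCore p G := by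
        refine Solv.le_pPrimeCore inferInstance ?_
        rw [Subgroup.card_map_of_injective N.subtype_injective]
        exact Solv.pPrimeCore_card_coprime p
      rw [hcore, le_bot_iff, Subgroup.map_eq_bot_iff_of_injective _ N.subtype_injective] at h1
      exact h1
    have hNp : pCore p N ≠ ⊥ := by
      intro h
      have h1 := H76.centralizer_pCore_le hNs hNcore
      rw [h] at h1
      apply hNb
      rw [Subgroup.eq_bot_iff_forall]
      intro z hz
      have h2 : (⟨z, hz⟩ : N) ∈ (⊥ : Subgroup N) := by
        apply h1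
        rw [Subgroup.mem_centralizer_iff]
        intro w hw
        have : w = 1 := hw
        rw [this, one_mul, mul_one]
      exact congrArg Subtype.val (Subgroup.mem_bot.1 h2)
    have hGp : pCore p G ≠ ⊥ := by
      intro h
      apply hNp
      haveI : ((pCore p N).map N.subtype).Normal := inferInstance
      have h1 : (pCore p N).map N.subtype ≤ pCore p G := by
        refine Solv.le_pCore inferInstance ?_
        exact (Solv.pCore_isPGroup p).map _
      rw [h, le_bot_iff, Subgroup.map_eq_bot_iff_of_injective _ N.subtype_injective] at h1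
      exact h1
    -- an element of order `p` in `O_p(G)`
    have hdv : p ∣ Nat.card (pCore p G) := by
      obtain ⟨k, hk⟩ := IsPGroup.iff_card.1 (Solv.pCore_isPGroup (G := G) p)
      rw [hk]
      apply dvd_pow_self
      rintro rfl
      rw [pow_zero] at hk
      exact hGp (Subgroup.card_eq_one.1 hk)
    obtain ⟨⟨x, hxR⟩, hx'⟩ := exists_prime_orderOf_dvd_card' p hdv
    have hx : orderOf x = p := by rwa [Subgroup.orderOf_mk] at hx'
    have hx1 : x ≠ 1 := by
      rintro rfl
      rw [orderOf_one] at hx
      exact hp.out.one_lt.ne hx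
    set P : Sylow p G := default
    have hPc := hcyc P
    have hRP : pCore p G ≤ (P : Subgroup G) := Fus.pCore_le_sylow P
    have hxP := hRP hxR
    have hconj : ∀ g : G, g * x * g⁻¹ ∈ Subgroup.zpowers x := by
      intro g
      have h1 : g * x * g⁻¹ ∈ pCore p G := (inferInstance : (pCore p G).Normal).conj_mem x hxR g
      have h2 : g * x * g⁻¹ ∈ (P : Subgroup G) := hRP h1
      haveI := hPc
      have h4 : (⟨g * x * g⁻¹, h2⟩ : (P : Subgroup G)) ∈
          Subgroup.zpowers (⟨x, hxP⟩ : (P : Subgroup G)) := by
        refine mem_zpowers_of_cyclic hp.out.pos (by rw [Subgroup.orderOf_mk, hx]) ?_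
        apply Subtype.ext
        show (g * x * g⁻¹) ^ p = 1
        rw [conj_pow, ← hx, pow_orderOf_eq_one]; group
      obtain ⟨i, hi⟩ := h4
      exact ⟨i, congrArg Subtype.val hi⟩
    set K := Subgroup.centralizer ({x} : Set G) with hK
    have hKn : K.Normal := by
      refine ⟨fun k hk g => ?_⟩
      rw [hK, Subgroup.mem_centralizer_singleton_iff] at hk ⊢
      obtain ⟨i, hi⟩ := hconj g⁻¹
      have h1 : x ^ i = g⁻¹ * x * g := by rw [inv_inv] at hi; exact hi
      have h2 : k * (x ^ i) = x ^ i * k := (Commute.zpow_right (show Commute k x from hk) i).eq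
      rw [h1] at h2
      calc g * k * g⁻¹ * x = g * (k * (g⁻¹ * x * g)) * g⁻¹ := by group
        _ = g * ((g⁻¹ * x * g) * k) * g⁻¹ := by rw [h2]
        _ = x * (g * k * g⁻¹) := by group
    obtain ⟨k, hk⟩ := core_of_cyclic P hPc hxP hx1
    have hKcore : pPrimeCore p K = ⊥ := by
      haveI : ((pPrimeCore p K).map K.subtype).Normal := inferInstance
      have h1 : (pPrimeCore p K).map K.subtype ≤ pPrimeCore p G := by
        refine Solv.le_pPrimeCore inferInstance ?_
        rw [Subgroup.card_map_of_injective K.subtype_injective]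
        exact Solv.pPrimeCore_card_coprime p
      rw [hcore, le_bot_iff, Subgroup.map_eq_bot_iff_of_injective _ K.subtype_injective] at h1
      exact h1
    have hKcard : Nat.card K = p ^ k := by
      rw [← hk, hKcore, Subgroup.index_bot]
    have hPK : (P : Subgroup G) ≤ K := by
      intro z hz
      rw [hK, Subgroup.mem_centralizer_singleton_iff]
      exact comm_of_cyclic hPc z hz x hxP
    refine H69.PChain.step (N := K) ?_ le_top inferInstance (Or.inr ?_)
    · refine (H69.PChain.bot p).step bot_le hKn (Or.inl ⟨k, ?_⟩)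
      rw [Subgroup.relIndex_bot_left, hKcard]
    · rw [Subgroup.relIndex_top_right]
      refine Nat.Coprime.coprime_dvd_left (Subgroup.index_dvd_of_le hPK) ?_
      rw [Nat.coprime_comm, Nat.Prime.coprime_iff_not_dvd hp.out]
      exact P.not_dvd_index
  · -- simple
    push Not at hnorm
    haveI : Nontrivial G := by
      rw [← Finite.one_lt_card_iff_nontrivial]
      exact lt_of_lt_of_le hp.out.one_lt (Nat.le_of_dvd Nat.card_pos hpG)
    haveI : IsSimpleGroup G := ⟨fun N hN => by
      by_cases h : N = ⊥
      · exact Or.inl h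
      · exact Or.inr (hnorm N hN h)⟩
    by_cases hnpc : Cfsg.HasNormalPComplement p G
    · exact isPSolvable_of_npc hnpc
    · exfalso
      set P : Sylow p G := default
      refine cyc_simple_false ?_ P (hcyc P) hpG hnpc hpair
      rintro rfl
      apply hnpc
      refine Transfer.hasNPC_of_normalizer_le_centralizer P ?_
      refine IsCyclic.normalizer_le_centralizer ?_ (hcyc P)
      exact (Nat.minFac_eq_two_iff _).2 hpG

end Cfsg.Agent.H33
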