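import Cfsg.Agent.H76.PSolvable
import Cfsg.Agent.Fus.Alperin
import Cfsg.Agent.Solv.Core
import Cfsg.Agent.H4.BlkQuot

set_option autoImplicit false
set_option linter.all false

/-! `p`-solvable groups generated by two elements of order `p`, abelian Sylow subgroups (helper33). -/

namespace Cfsg.Agent.H33

open Cfsg

universe u

theorem exists_sylow_of_pow {H : Type u} [Group H] [Finite H] {p : ℕ} [hp : Fact p.Prime] {z : H} {k : ℕ}
    (h : z ^ p ^ k = 1) : ∃ S : Sylow p H, z ∈ (S : Subgroup H) := by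
  have h1 : IsPGroup p (Subgroup.zpowers z) := by
    intro g
    refine ⟨k, ?_⟩
    obtain ⟨g, n, hn⟩ := g
    apply Subtype.ext
    simp only [SubgroupClass.coe_pow, OneMemClass.coe_one]
    rw [← hn]
    show (z ^ n) ^ p ^ k = 1
    rw [← zpow_natCast, ← zpow_mul, mul_comm, zpow_mul, zpow_natCast, h, one_zpow]
  obtain ⟨S, hS⟩ := h1.exists_le_sylow
  exact ⟨S, hS (Subgroup.mem_zpowers z)⟩

theorem index_of_pSolvable {H : Type u} [Group H] [Finite H] {p : ℕ} [hp : Fact p.Prime]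
    (h : IsPSolvable p H)
    (hab : ∀ Q : Sylow p H, ∀ a ∈ (Q : Subgroup H), ∀ b ∈ (Q : Subgroup H), a * b = b * a)
    (hgen : ∀ N : Subgroup H, N.Normal → (∀ z : H, (∃ k, orderOf z = p ^ k) → z ∈ N) → N = ⊤) :
    ∃ k, (pPrimeCore p H).index = p ^ k := by
  set N := pPrimeCore p H with hN
  set R := pCore p (H ⧸ N) with hR
  have hcent := H76.centralizer_pCore_le (H76.isPSolvable_quotient N h)
    (Solv.pPrimeCore_quotient_pPrimeCore (G := H) p)
  have hπs : Function.Surjective (QuotientGroup.mk' N) := QuotientGroup.mk'_surjective N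
  have hmem : ∀ z : H, (∃ k, orderOf z = p ^ k) → z ∈ R.comap (QuotientGroup.mk' N) := by
    rintro z ⟨k, hk⟩
    obtain ⟨S, hS⟩ := exists_sylow_of_pow (p := p) (z := z) (k := k) (by rw [← hk]; exact pow_orderOf_eq_one z)
    rw [Subgroup.mem_comap]
    apply hcent
    rw [Subgroup.mem_centralizer_iff]
    intro r hr
    have h1 : r ∈ ((S.mapSurjective hπs : Sylow p (H ⧸ N)) : Subgroup (H ⧸ N)) :=
      Fus.pCore_le_sylow _ hr
    rw [Sylow.coe_mapSurjective] at h1
    obtain ⟨s, hs, rfl⟩ := h1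
    rw [← map_mul, hab S s hs z hS, map_mul]
  have htop := hgen _ inferInstance hmem
  have hRtop : R = ⊤ := by
    rw [eq_top_iff]
    intro r _
    obtain ⟨s, rfl⟩ := hπs r
    have : s ∈ R.comap (QuotientGroup.mk' N) := by rw [htop]; exact Subgroup.mem_top s
    exact this
  have hRp : IsPGroup p R := Solv.pCore_isPGroup p
  obtain ⟨k, hk⟩ := IsPGroup.iff_card.1 hRp
  refine ⟨k, ?_⟩
  rw [hRtop, Subgroup.card_top] at hk
  rw [Subgroup.index_eq_card, hk]

/-- A subgroup of a group with abelian Sylow `p`-subgroups has abelian Sylow `p`-subgroups. -/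
theorem comm_sylow_subgroup {G : Type u} [Group G] [Finite G] {p : ℕ} [hp : Fact p.Prime] (P : Sylow p G)
    (hP : ∀ a ∈ (P : Subgroup G), ∀ b ∈ (P : Subgroup G), a * b = b * a) (H : Subgroup G)
    (Q : Sylow p H) : ∀ a ∈ (Q : Subgroup H), ∀ b ∈ (Q : Subgroup H), a * b = b * a := by
  intro a ha b hb
  have hRp : IsPGroup p ↥((Q : Subgroup H).map H.subtype) := Q.isPGroup'.map _
  obtain ⟨P', hP'⟩ := hRp.exists_le_sylow
  obtain ⟨h, hh⟩ := MulAction.exists_smul_eq G P' P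
  have hconj : ∀ x ∈ (P' : Subgroup G), h * x * h⁻¹ ∈ (P : Subgroup G) := by
    intro x hx
    rw [← hh]
    exact ⟨x, hx, by simp⟩
  have h1 := hP _ (hconj a (hP' ⟨a, ha, rfl⟩)) _ (hconj b (hP' ⟨b, hb, rfl⟩))
  apply Subtype.ext
  have h2 : h * ((a : G) * b) * h⁻¹ = h * ((b : G) * a) * h⁻¹ := by
    calc h * ((a : G) * b) * h⁻¹ = (h * a * h⁻¹) * (h * b * h⁻¹) := by group
      _ = (h * b * h⁻¹) * (h * a * h⁻¹) := h1
      _ = _ := by group
  exact mul_left_cancel (mul_right_cancel h2)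

/-- a group generated by two elements of order `p` has no proper normal subgroup containing all
`p`-elements -/
theorem gen_of_pair {G : Type u} [Group G] [Finite G] {p : ℕ} [hp : Fact p.Prime] {x z : G}
    (hx : orderOf x = p) (hz : orderOf z = p) (N : Subgroup ↥(Subgroup.closure ({x, z} : Set G)))
    (hN : N.Normal) (hp' : ∀ y : ↥(Subgroup.closure ({x, z} : Set G)), (∃ k, orderOf y = p ^ k) → y ∈ N) :
    N = ⊤ := by
  have hxH : x ∈ Subgroup.closure ({x, z} : Set G) := Subgroup.subset_closure (by simp)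
  have hzH : z ∈ Subgroup.closure ({x, z} : Set G) := Subgroup.subset_closure (by simp)
  have hx' : (⟨x, hxH⟩ : Subgroup.closure ({x, z} : Set G)) ∈ N :=
    hp' _ ⟨1, by rw [Subgroup.orderOf_mk, hx, pow_one]⟩
  have hz' : (⟨z, hzH⟩ : Subgroup.closure ({x, z} : Set G)) ∈ N :=
    hp' _ ⟨1, by rw [Subgroup.orderOf_mk, hz, pow_one]⟩
  rw [eq_top_iff]
  rintro ⟨g, hg⟩ -
  have h3 : Subgroup.closure ({x, z} : Set G) ≤ N.map (Subgroup.closure ({x, z} : Set G)).subtype := by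
    rw [Subgroup.closure_le]
    rintro y (rfl | rfl)
    · exact ⟨_, hx', rfl⟩
    · exact ⟨_, hz', rfl⟩
  obtain ⟨n, hn, hng⟩ := h3 hg
  have : n = ⟨g, hg⟩ := Subtype.ext hng
  rw [← this]; exact hn

/-- Two elements of order `p` generating a `p`-solvable group: `x * z ^ i` is `p`-regular for at most
one power. -/
theorem pow_eq_pow_of_regular {G : Type u} [Group G] [Finite G] {p : ℕ} [hp : Fact p.Prime] (P : Sylow p G)
    (hP : ∀ a ∈ (P : Subgroup G), ∀ b ∈ (P : Subgroup G), a * b = b * a) {x z : G}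
    (hx : orderOf x = p) (hz : orderOf z = p)
    (hs : IsPSolvable p ↥(Subgroup.closure ({x, z} : Set G))) {a b c : G}
    (ha : a ∈ Subgroup.closure ({x, z} : Set G)) (hbz : b ∈ Subgroup.zpowers z)
    (hcz : c ∈ Subgroup.zpowers z)
    (h1 : ¬ p ∣ orderOf (a * b)) (h2 : ¬ p ∣ orderOf (a * c)) : b = c := by
  set H := Subgroup.closure ({x, z} : Set G) with hH
  have hxH : x ∈ H := Subgroup.subset_closure (by simp)
  have hzH : z ∈ H := Subgroup.subset_closure (by simp)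
  have hzz : Subgroup.zpowers z ≤ H := by rwa [Subgroup.zpowers_le]
  have hbH : b ∈ H := hzz hbz
  have hcH : c ∈ H := hzz hcz
  obtain ⟨k, hk⟩ := index_of_pSolvable hs (comm_sylow_subgroup P hP H) (gen_of_pair hx hz)
  have h3 : (⟨a * b, H.mul_mem ha hbH⟩ : H) ∈ pPrimeCore p H :=
    H4.mem_of_regular_of_index hk (by rwa [Subgroup.orderOf_mk])
  have h4 : (⟨a * c, H.mul_mem ha hcH⟩ : H) ∈ pPrimeCore p H :=
    H4.mem_of_regular_of_index hk (by rwa [Subgroup.orderOf_mk])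
  have h5 : (⟨b⁻¹ * c, H.mul_mem (H.inv_mem hbH) hcH⟩ : H) ∈ pPrimeCore p H := by
    have h6 := (pPrimeCore p H).mul_mem ((pPrimeCore p H).inv_mem h3) h4
    have h7 : (⟨b⁻¹ * c, H.mul_mem (H.inv_mem hbH) hcH⟩ : H) =
        (⟨a * b, H.mul_mem ha hbH⟩ : H)⁻¹ * ⟨a * c, H.mul_mem ha hcH⟩ := by
      apply Subtype.ext
      simp only [Subgroup.coe_mul, Subgroup.coe_inv]
      group
    rw [h7]
    exact h6
  have hcop := Solv.pPrimeCore_card_coprime (G := H) p
  have h6 : (b⁻¹ * c) ^ p = 1 := by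
    obtain ⟨n, hn⟩ := (Subgroup.zpowers z).mul_mem ((Subgroup.zpowers z).inv_mem hbz) hcz
    rw [← hn]
    show (z ^ n) ^ p = 1
    rw [← zpow_natCast, ← zpow_mul, mul_comm, zpow_mul, zpow_natCast, ← hz, pow_orderOf_eq_one, one_zpow]
  have h7 : (b⁻¹ * c) ^ Nat.card (pPrimeCore p H) = 1 := by
    have h8 : (⟨_, h5⟩ : pPrimeCore p H) ^ Nat.card (pPrimeCore p H) = 1 := pow_card_eq_one'
    exact congrArg (fun w : pPrimeCore p H => ((w : H) : G)) h8
  have h8 : orderOf (b⁻¹ * c) = 1 := Nat.eq_one_of_dvd_coprimes hcop (orderOf_dvd_of_pow_eq_one h7)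
    (orderOf_dvd_of_pow_eq_one h6)
  rw [orderOf_eq_one_iff] at h8
  exact inv_mul_eq_one.1 h8

/-- a product of two elements of order `p` generating a `p`-solvable group has `p`-part of order
dividing `p` -/
theorem ppart_pow_eq_one {G : Type u} [Group G] [Finite G] {p : ℕ} [hp : Fact p.Prime] (P : Sylow p G)
    (hP : ∀ a ∈ (P : Subgroup G), ∀ b ∈ (P : Subgroup G), a * b = b * a) {x z : G}
    (hx : orderOf x = p) (hz : orderOf z = p)
    (hs : IsPSolvable p ↥(Subgroup.closure ({x, z} : Set G))) {a b : G}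
    (ha : a ∈ Subgroup.zpowers x) (hb : b ∈ Subgroup.zpowers z) {u : G}
    (hu : u ∈ Subgroup.zpowers (a * b)) (hup : ∃ k, orderOf u = p ^ k) : u ^ p = 1 := by
  set H := Subgroup.closure ({x, z} : Set G) with hH
  have hxH : x ∈ H := Subgroup.subset_closure (by simp)
  have hzH : z ∈ H := Subgroup.subset_closure (by simp)
  have haH : a ∈ H := (Subgroup.zpowers_le.2 hxH) ha
  have hbH : b ∈ H := (Subgroup.zpowers_le.2 hzH) hb
  obtain ⟨k, hk⟩ := index_of_pSolvable hs (comm_sylow_subgroup P hP H) (gen_of_pair hx hz)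
  set N := pPrimeCore p H with hN
  have hπs : Function.Surjective (QuotientGroup.mk' N) := QuotientGroup.mk'_surjective N
  have hcomm : ∀ g h : H ⧸ N, g * h = h * g := by
    intro g h
    have hpg : IsPGroup p (H ⧸ N) := IsPGroup.of_card (n := k) (by rw [← hk, Subgroup.index_eq_card])
    set S : Sylow p H := default
    have htop : ((S.mapSurjective hπs : Sylow p (H ⧸ N)) : Subgroup (H ⧸ N)) = ⊤ := by
      have h1 : IsPGroup p (⊤ : Subgroup (H ⧸ N)) := hpg.of_injective (Subgroup.subtype ⊤)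
        (Subgroup.subtype_injective ⊤)
      exact ((S.mapSurjective hπs).3 h1 le_top).symm
    have hmem : ∀ g : H ⧸ N, ∃ s ∈ (S : Subgroup H), QuotientGroup.mk' N s = g := by
      intro g
      have h1 : g ∈ ((S.mapSurjective hπs : Sylow p (H ⧸ N)) : Subgroup (H ⧸ N)) := by
        rw [htop]; exact Subgroup.mem_top g
      rw [Sylow.coe_mapSurjective] at h1
      exact h1
    obtain ⟨s, hs, rfl⟩ := hmem g
    obtain ⟨t, ht, rfl⟩ := hmem h
    rw [← map_mul, ← map_mul, comm_sylow_subgroup P hP H S s hs t ht]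
  have hap : a ^ p = 1 := by
    obtain ⟨n, rfl⟩ := ha
    show (x ^ n) ^ p = 1
    rw [← zpow_natCast, ← zpow_mul, mul_comm, zpow_mul, zpow_natCast, ← hx, pow_orderOf_eq_one,
      one_zpow]
  have hbp : b ^ p = 1 := by
    obtain ⟨n, rfl⟩ := hb
    show (z ^ n) ^ p = 1
    rw [← zpow_natCast, ← zpow_mul, mul_comm, zpow_mul, zpow_natCast, ← hz, pow_orderOf_eq_one,
      one_zpow]
  have hab : (⟨a * b, H.mul_mem haH hbH⟩ : H) ^ p ∈ N := by
    rw [← QuotientGroup.eq_one_iff]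
    have h1 : (⟨a * b, H.mul_mem haH hbH⟩ : H) = ⟨a, haH⟩ * ⟨b, hbH⟩ := rfl
    rw [h1]
    have h2 : (((⟨a, haH⟩ * ⟨b, hbH⟩ : H) ^ p : H) : H ⧸ N) =
        ((⟨a, haH⟩ : H) : H ⧸ N) ^ p * ((⟨b, hbH⟩ : H) : H ⧸ N) ^ p := by
      rw [← Commute.mul_pow (hcomm _ _)]; rfl
    rw [h2]
    have h3 : ((⟨a, haH⟩ : H) : H ⧸ N) ^ p = ((((⟨a, haH⟩ : H) ^ p : H)) : H ⧸ N) := rfl
    have h4 : ((⟨b, hbH⟩ : H) : H ⧸ N) ^ p = ((((⟨b, hbH⟩ : H) ^ p : H)) : H ⧸ N) := rfl
    have h5 : (⟨a, haH⟩ : H) ^ p = 1 := Subtype.ext hap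
    have h6 : (⟨b, hbH⟩ : H) ^ p = 1 := Subtype.ext hbp
    rw [h3, h4, h5, h6]
    simp
  obtain ⟨n, hn⟩ := hu
  have huN : (⟨u ^ p, H.pow_mem (by
      rw [← hn]; exact H.zpow_mem (H.mul_mem haH hbH) n) p⟩ : H) ∈ N := by
    have h1 := N.zpow_mem hab n
    have h2 : (⟨u ^ p, H.pow_mem (by
      rw [← hn]; exact H.zpow_mem (H.mul_mem haH hbH) n) p⟩ : H) =
        ((⟨a * b, H.mul_mem haH hbH⟩ : H) ^ p) ^ n := by
      apply Subtype.ext
      show u ^ p = ((a * b) ^ p) ^ n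
      rw [← hn]
      show ((a * b) ^ n) ^ p = _
      rw [← zpow_natCast, ← zpow_natCast, ← zpow_mul, ← zpow_mul, mul_comm]
    rw [h2]; exact h1
  have hcop := Solv.pPrimeCore_card_coprime (G := H) p
  have h7 : (u ^ p) ^ Nat.card (pPrimeCore p H) = 1 := by
    have h8 : (⟨_, huN⟩ : pPrimeCore p H) ^ Nat.card (pPrimeCore p H) = 1 := pow_card_eq_one'
    exact congrArg (fun w : pPrimeCore p H => ((w : H) : G)) h8
  obtain ⟨j, hj⟩ := hup
  have h8 : (u ^ p) ^ p ^ j = 1 := by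
    rw [← pow_mul, mul_comm, pow_mul, ← hj, pow_orderOf_eq_one, one_pow]
  exact orderOf_eq_one_iff.1 (Nat.eq_one_of_dvd_coprimes (hcop.pow_right j)
    (orderOf_dvd_of_pow_eq_one h7) (orderOf_dvd_of_pow_eq_one h8))

open Classical in
/-- the number of `t` with `x * x ^ t` `p`-regular is at most `|G| / (p - 1)` -/
theorem card_regular_le {G : Type u} [Group G] [Fintype G] {p : ℕ} [hp : Fact p.Prime] (P : Sylow p G)
    (hP : ∀ a ∈ (P : Subgroup G), ∀ b ∈ (P : Subgroup G), a * b = b * a) {x : G}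
    (hx : orderOf x = p) (hconj : ∀ y : G, orderOf y = p → IsConj x y)
    (hs : ∀ y : G, orderOf y = p → IsPSolvable p ↥(Subgroup.closure ({x, y} : Set G))) :
    (p - 1) * (Finset.univ.filter (fun t : G => ¬ p ∣ orderOf (x * (t * x * t⁻¹)))).card ≤ Nat.card G := by
  set T := Finset.univ.filter (fun t : G => ¬ p ∣ orderOf (x * (t * x * t⁻¹))) with hT
  have horder : ∀ i ∈ Finset.Icc 1 (p - 1), orderOf (x ^ i) = p := by
    intro i hi
    rw [Finset.mem_Icc] at hi
    rw [orderOf_pow, hx]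
    have : Nat.gcd p i = 1 := (Nat.Prime.coprime_iff_not_dvd hp.out).2 (fun h => by
      have := Nat.le_of_dvd (by omega) h
      have := hp.out.pos
      omega)
    rw [this, Nat.div_one]
  have hs' : ∀ i ∈ Finset.Icc 1 (p - 1), ∃ s : G, s * x * s⁻¹ = x ^ i := fun i hi =>
    isConj_iff.1 (hconj _ (horder i hi))
  choose! s hss using hs'
  have h1 : ∀ i ∈ Finset.Icc 1 (p - 1),
      (Finset.univ.filter (fun u : G => ¬ p ∣ orderOf (x * (u * x ^ i * u⁻¹)))).card = T.card := by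
    intro i hi
    refine Finset.card_bij (fun u _ => u * s i) ?_ ?_ ?_
    · intro u hu
      rw [hT, Finset.mem_filter]
      rw [Finset.mem_filter] at hu
      refine ⟨Finset.mem_univ _, ?_⟩
      have : u * s i * x * (u * s i)⁻¹ = u * x ^ i * u⁻¹ := by
        rw [← hss i hi]; group
      rw [this]; exact hu.2
    · intro u _ v _ h
      exact mul_right_cancel h
    · intro t ht
      rw [hT, Finset.mem_filter] at ht
      refine ⟨t * (s i)⁻¹, ?_, by group⟩
      rw [Finset.mem_filter]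
      refine ⟨Finset.mem_univ _, ?_⟩
      have : t * (s i)⁻¹ * x ^ i * (t * (s i)⁻¹)⁻¹ = t * x * t⁻¹ := by
        rw [← hss i hi]; group
      rw [this]; exact ht.2
  have h2 : (p - 1) * T.card = ∑ i ∈ Finset.Icc 1 (p - 1),
      (Finset.univ.filter (fun u : G => ¬ p ∣ orderOf (x * (u * x ^ i * u⁻¹)))).card := by
    rw [Finset.sum_congr rfl h1, Finset.sum_const, Nat.card_Icc, smul_eq_mul]
    congr 1
  have h3 : ∑ i ∈ Finset.Icc 1 (p - 1),
      (Finset.univ.filter (fun u : G => ¬ p ∣ orderOf (x * (u * x ^ i * u⁻¹)))).card =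
      ∑ u : G, ((Finset.Icc 1 (p - 1)).filter (fun i => ¬ p ∣ orderOf (x * (u * x ^ i * u⁻¹)))).card := by
    simp only [Finset.card_filter]
    exact Finset.sum_comm
  rw [h2, h3, Nat.card_eq_fintype_card, ← Finset.card_univ, Finset.card_eq_sum_ones]
  refine Finset.sum_le_sum fun u _ => ?_
  rw [Finset.card_le_one]
  intro i hi j hj
  rw [Finset.mem_filter] at hi hj
  have hz : orderOf (u * x * u⁻¹) = p := by
    rw [← hx]
    exact orderOf_injective (MulAut.conj u).toMonoidHom (MulAut.conj u).injective x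
  have hpow : ∀ i : ℕ, u * x ^ i * u⁻¹ = (u * x * u⁻¹) ^ i := fun i => by rw [conj_pow]
  have h4 := pow_eq_pow_of_regular P hP hx hz (hs _ hz) (a := x) (b := (u * x * u⁻¹) ^ i)
    (c := (u * x * u⁻¹) ^ j) (Subgroup.subset_closure (by simp)) (Subgroup.npow_mem_zpowers _ i)
    (Subgroup.npow_mem_zpowers _ j) (by rw [← hpow]; exact hi.2) (by rw [← hpow]; exact hj.2)
  rw [pow_eq_pow_iff_modEq, hz] at h4
  have hi1 := Finset.mem_Icc.1 hi.1
  have hj1 := Finset.mem_Icc.1 hj.1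
  have := hp.out.pos
  exact Nat.ModEq.eq_of_lt_of_lt h4 (by omega) (by omega)

end Cfsg.Agent.H33
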