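import Cfsg.Agent.H33.PairCount
import Cfsg.Agent.H33.PairSolv
import Cfsg.Agent.H4.BSuz
import Cfsg.Agent.Glaub.PGroup

set_option autoImplicit false
set_option linter.all false

/-! A finite simple group with elementary abelian Sylow subgroups, one class of elements of order `p`,
`p`-nilpotent centralizers (helper33). -/

namespace Cfsg.Agent.H33

open scoped ComplexConjugate
open Cfsg Cfsg.Agent.CharBase

universe u

theorem int_of_rat_integral {z : ℂ} (hz : IsIntegral ℤ z) {m : ℤ} {k : ℕ} (hk : k ≠ 0)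
    (h : (k : ℂ) * z = m) : ∃ a : ℤ, z = a ∧ (k : ℤ) * a = m := by
  have hk' : (k : ℂ) ≠ 0 := Nat.cast_ne_zero.2 hk
  have h1 : z = algebraMap ℚ ℂ ((m : ℚ) / k) := by
    have : z = (m : ℂ) / k := by field_simp; rw [← h]; ring
    rw [this]; simp
  rw [h1] at hz
  have h2 : IsIntegral ℤ ((m : ℚ) / k) := (isIntegral_algebraMap_iff (algebraMap ℚ ℂ).injective).mp hz
  obtain ⟨a, ha⟩ := IsIntegrallyClosed.isIntegral_iff.mp h2
  have ha' : (a : ℚ) = (m : ℚ) / k := ha
  have hz' : z = (a : ℂ) := by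
    rw [h1, ← ha']; simp
  refine ⟨a, hz', ?_⟩
  rw [hz'] at h
  exact_mod_cast h

/-- Character values constant on the nonidentity elements of a subgroup. -/
theorem int_val_of_const {G : Type u} [Group G] [Finite G] (P : Subgroup G) {x : G}
    (hP : 1 < Nat.card P) {χ : G → ℂ} (hχ : IsCharacter G χ) {d : ℕ} (hd : χ 1 = d)
    (hc : ∀ y ∈ P, y ≠ 1 → χ y = χ x) :
    ∃ a : ℤ, χ x = a ∧ (Nat.card P : ℤ) ∣ d - a := by
  classical
  haveI := Fintype.ofFinite G
  haveI := Fintype.ofFinite P
  have hres := isCharacter_restrict hχ P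
  obtain ⟨n, hn⟩ := classInner_natCast hres
    (isCharacter_of_isIrr (isIrrCharacter_one (G := P)))
  have hsum : ∑ y : P, χ y = d + (Nat.card P - 1 : ℕ) * χ x := by
    rw [← Finset.add_sum_erase Finset.univ _ (Finset.mem_univ (1 : P))]
    have h1 : ∀ y ∈ Finset.univ.erase (1 : P), χ y = χ x := by
      intro y hy
      have hy1 : (y : G) ≠ 1 := by
        intro h
        exact (Finset.mem_erase.mp hy).1 (Subtype.ext h)
      exact hc y y.2 hy1
    rw [Finset.sum_congr rfl h1, Finset.sum_const, Finset.card_erase_of_mem (Finset.mem_univ _),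
      Finset.card_univ, ← Nat.card_eq_fintype_card, Subgroup.coe_one, hd, nsmul_eq_mul]
  have hq : (Nat.card P : ℂ) ≠ 0 := by exact_mod_cast (by omega : Nat.card P ≠ 0)
  have h2 : ((Nat.card P - 1 : ℕ) : ℂ) * χ x = (((Nat.card P : ℤ) * n - d : ℤ) : ℂ) := by
    have h3 : ∑ y : P, χ y = (Nat.card P : ℂ) * n := by
      rw [← hn]
      unfold classInner
      rw [mul_inv_cancel_left₀ hq]
      simp
    push_cast
    rw [← h3, hsum]; ring
  obtain ⟨a, ha, ha2⟩ := int_of_rat_integral (isIntegral_of_isCharacter hχ x) (by omega) h2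
  refine ⟨a, ha, n - a, ?_⟩
  have h4 : ((Nat.card P - 1 : ℕ) : ℤ) = (Nat.card P : ℤ) - 1 := by
    rw [Nat.cast_sub hP.le]; simp
  rw [h4] at ha2
  linear_combination ha2

theorem ineq_one_class {ι : Type*} [DecidableEq ι] (B : Finset ι) {i₀ : ι} (hi₀ : i₀ ∈ B) (a d : ι → ℤ)
    {q : ℤ} (hq : 2 < q) (hd : ∀ i ∈ B, 0 < d i) (ha0 : a i₀ = 1) (hd0 : d i₀ = 1)
    (h1 : ∑ i ∈ B, a i ^ 2 = q) (h2 : ∑ i ∈ B, d i * a i = 0)
    (h3 : ∀ i ∈ B, i ≠ i₀ → a i ≠ d i) (h4 : ∀ i ∈ B, q ∣ d i - a i) :
    ∑ i ∈ B, (a i : ℝ) ^ 3 / d i < q / 2 := by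
  obtain ⟨j, hj, hja⟩ : ∃ j ∈ B, a j < 0 := by
    by_contra hcon
    push Not at hcon
    have h5 : d i₀ * a i₀ ≤ ∑ i ∈ B, d i * a i :=
      Finset.single_le_sum (f := fun i => d i * a i)
        (fun i hi => mul_nonneg (hd i hi).le (hcon i hi)) hi₀
    rw [h2, ha0, hd0] at h5
    omega
  have hji : j ≠ i₀ := by rintro rfl; omega
  have hle : ∀ i ∈ B, a i ^ 2 ≤ q := by
    intro i hi
    rw [← h1]
    exact Finset.single_le_sum (f := fun i => a i ^ 2) (fun i _ => sq_nonneg _) hi
  set f : ι → ℝ := fun i => (a i : ℝ) ^ 2 / 2 + (if i = i₀ then 1 / 2 else 0) -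
    (if i = j then 1 / 2 else 0) with hf
  have hfs : ∑ i ∈ B, f i = q / 2 := by
    rw [hf, Finset.sum_sub_distrib, Finset.sum_add_distrib, ← Finset.sum_div,
      Finset.sum_ite_eq', Finset.sum_ite_eq', if_pos hi₀, if_pos hj]
    have : (∑ i ∈ B, (a i : ℝ) ^ 2) = q := by exact_mod_cast h1
    rw [this]; ring
  have hlt : ∀ i ∈ B, a i < 0 → (a i : ℝ) ^ 3 / d i < 0 := by
    intro i hi ha
    have hd' : (0 : ℝ) < d i := by exact_mod_cast hd i hi
    have ha' : (a i : ℝ) < 0 := by exact_mod_cast ha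
    exact div_neg_of_neg_of_pos (by
      have : (a i : ℝ) ^ 3 = (a i) * a i * a i := by ring
      rw [this]
      exact mul_neg_of_pos_of_neg (mul_pos_of_neg_of_neg ha' ha') ha') hd'
  rw [← hfs]
  refine Finset.sum_lt_sum ?_ ⟨j, hj, ?_⟩
  · intro i hi
    rcases eq_or_ne i i₀ with rfl | hne
    · rw [hf]
      simp only [if_true, if_neg hji.symm, ha0, hd0]
      norm_num
    · have hd' : (0 : ℝ) < d i := by exact_mod_cast hd i hi
      rcases lt_trichotomy (a i) 0 with h | h | h
      · have h5 := hlt i hi h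
        have h6 : (1 : ℝ) ≤ (a i : ℝ) ^ 2 := by
          have : (1 : ℤ) ≤ a i ^ 2 := by nlinarith
          exact_mod_cast this
        rw [hf]
        simp only [if_neg hne]
        split_ifs <;> linarith
      · have hij : i ≠ j := by rintro rfl; omega
        rw [hf]
        simp only [if_neg hne, if_neg hij, h]
        norm_num
      · have hij : i ≠ j := by rintro rfl; omega
        rw [hf]
        simp only [if_neg hne, if_neg hij, add_zero, sub_zero]
        have h5 : a i < q := by
          have := hle i hi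
          nlinarith
        have h6 : a i + q ≤ d i := by
          obtain ⟨c, hc⟩ := h4 i hi
          have h7 : c ≠ 0 := by
            rintro rfl
            exact h3 i hi hne (by linarith)
          have h8 := hd i hi
          have h9 : 0 < c := by
            by_contra h10
            have : c ≤ -1 := by omega
            nlinarith
          nlinarith
        have h7 : (2 : ℝ) * a i ≤ d i := by
          have : 2 * a i ≤ d i := by omega
          exact_mod_cast this
        rw [div_le_div_iff₀ hd' (by norm_num)]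
        have h8 : (0 : ℝ) ≤ (a i : ℝ) ^ 2 := by positivity
        nlinarith
  · have h5 := hlt j hj hja
    have h6 : (1 : ℝ) ≤ (a j : ℝ) ^ 2 := by
      have : (1 : ℤ) ≤ a j ^ 2 := by nlinarith
      exact_mod_cast this
    rw [hf]
    simp only [if_neg hji, if_true]
    linarith

open Classical in
/-- No finite simple group has an elementary abelian Sylow `p`-subgroup, `p` odd, one class of elements
of order `p` with `p`-nilpotent centralizers, and all pairs of elements of order `p` generating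
`p`-solvable subgroups. -/
theorem one_class_false {G : Type u} [Group G] [Finite G] [IsSimpleGroup G] {p : ℕ} [hp : Fact p.Prime]
    (hp2 : p ≠ 2) (P : Sylow p G)
    (hP : ∀ a ∈ (P : Subgroup G), ∀ b ∈ (P : Subgroup G), a * b = b * a)
    (hPe : ∀ a ∈ (P : Subgroup G), a ^ p = 1) {x : G} (hxP : x ∈ (P : Subgroup G))
    (hx : orderOf x = p) (hconj : ∀ y : G, orderOf y = p → IsConj x y)
    (hC : ∃ k, (Cfsg.pPrimeCore p (Subgroup.centralizer ({x} : Set G))).index = p ^ k)
    (hs : ∀ y : G, orderOf y = p → IsPSolvable p ↥(Subgroup.closure ({x, y} : Set G))) : False := by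
  haveI := Fintype.ofFinite G
  haveI := Fintype.ofFinite (IrrCharacter G)
  obtain ⟨M, hM⟩ := Glaub.exists_isPModular (p := p) hp.out
  haveI := hM.2.1.isPrime
  have hx1 : x ≠ 1 := by
    rintro rfl
    rw [orderOf_one] at hx
    exact hp.out.one_lt.ne hx
  have hp3 : 3 ≤ p := by
    have := hp.out.two_le
    omega
  -- elements of order a power of `p`
  have hexp : ∀ z : G, (∃ k, orderOf z = p ^ k) → z ≠ 1 → orderOf z = p := by
    rintro z ⟨k, hk⟩ hz
    obtain ⟨S, hS⟩ := exists_sylow_of_pow (p := p) (z := z) (k := k)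
      (by rw [← hk]; exact pow_orderOf_eq_one z)
    obtain ⟨g, hg⟩ := MulAction.exists_smul_eq G S P
    have h1 : g * z * g⁻¹ ∈ (P : Subgroup G) := by
      rw [← hg]; exact ⟨z, hS, by simp⟩
    have h2 := hPe _ h1
    rw [conj_pow, conj_eq_one_iff] at h2
    exact orderOf_eq_prime h2 hz
  have hPc : ∀ y ∈ (P : Subgroup G), y ≠ 1 → IsConj x y := fun y hy hy1 =>
    hconj y (orderOf_eq_prime (hPe y hy) hy1)
  have hqdef := Sylow.card_eq_multiplicity P
  set q := Nat.card (P : Subgroup G) with hq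
  have hPC : (P : Subgroup G) ≤ Subgroup.centralizer ({x} : Set G) := by
    intro y hy
    rw [Subgroup.mem_centralizer_singleton_iff]
    exact hP y hy x hxP
  have hqC : p ^ (Nat.card (Subgroup.centralizer ({x} : Set G))).factorization p = q := by
    apply le_antisymm
    · rw [hqdef]
      refine Nat.pow_le_pow_right hp.out.pos ?_
      exact (Nat.factorization_le_iff_dvd Nat.card_pos.ne' Nat.card_pos.ne').2
        (Subgroup.card_subgroup_dvd_card _) p
    · refine Nat.le_of_dvd (pow_pos hp.out.pos _) ?_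
      have h1 : p ^ (Nat.card G).factorization p ∣
          Nat.card (Subgroup.centralizer ({x} : Set G)) := by
        rw [← hqdef]
        exact Subgroup.card_dvd_of_le hPC
      rw [hqdef]
      exact pow_dvd_pow _ ((hp.out.pow_dvd_iff_le_factorization Nat.card_pos.ne').1 h1)
  have hpq : p ≤ q := by
    have h1 : orderOf (⟨x, hxP⟩ : (P : Subgroup G)) ∣ q := orderOf_dvd_natCard _
    rw [Subgroup.orderOf_mk, hx] at h1
    exact Nat.le_of_dvd Nat.card_pos h1
  have hq1 : 1 < q := by omega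
  -- integrality
  have hint : ∀ χ : IrrCharacter G, ∃ a : ℤ, (χ : G → ℂ) x = a ∧ (q : ℤ) ∣ H75.deg χ - a :=
    fun χ => int_val_of_const (P : Subgroup G) hq1 (irr_isCharacter χ) (H75.deg_spec χ)
      (fun y hy hy1 => (classFun_eq_of_isConj (irr_isClassFunction χ) (hPc y hy hy1)).symm)
  choose a ha hqa using hint
  set B : Finset (IrrCharacter G) := Finset.univ.filter (fun χ => χ ∈ principalBlock M G) with hB
  have hxk : ∃ k, orderOf x = p ^ k := ⟨1, by rw [hx, pow_one]⟩
  have hone : oneIrr G ∈ B := by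
    rw [hB, Finset.mem_filter]
    exact ⟨Finset.mem_univ _, Blk.oneIrr_mem_principalBlock⟩
  have ha1 : a (oneIrr G) = 1 := by
    have := ha (oneIrr G)
    rw [oneIrr_apply] at this
    exact_mod_cast this.symm
  have hd1 : H75.deg (oneIrr G) = 1 := by
    have := H75.deg_spec (oneIrr G)
    rw [oneIrr_apply] at this
    exact_mod_cast this.symm
  have h1 : ∑ χ ∈ B, a χ ^ 2 = (q : ℤ) := by
    have h := beta_one hM hxk hx1 hC
    unfold beta at h
    rw [Blk.finsum_mem_eq_sum_ite, ← Finset.sum_filter, hqC] at h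
    have h' : ((∑ χ ∈ B, a χ ^ 2 : ℤ) : ℂ) = ((q : ℤ) : ℂ) := by
      push_cast
      rw [← h]
      refine Finset.sum_congr rfl fun χ _ => ?_
      rw [ha χ, map_intCast]; ring
    exact_mod_cast h'
  have h2 : ∑ χ ∈ B, (H75.deg χ : ℤ) * a χ = 0 := by
    have h := beta_zero hM (w := x) (z := 1) (a := 1) hxk
      ⟨1, mul_one 1, Commute.one_right 1, ⟨0, by rw [orderOf_one, pow_zero]⟩, by
        rw [orderOf_one]; exact fun h => hp.out.one_lt.ne' (Nat.dvd_one.1 h)⟩
      (fun h => hx1 (isConj_one_right.1 h))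
    unfold beta at h
    rw [Blk.finsum_mem_eq_sum_ite, ← Finset.sum_filter] at h
    have h' : ((∑ χ ∈ B, (H75.deg χ : ℤ) * a χ : ℤ) : ℂ) = ((0 : ℤ) : ℂ) := by
      push_cast
      rw [← h]
      refine Finset.sum_congr rfl fun χ _ => ?_
      rw [ha χ, map_intCast, H75.deg_spec]
    exact_mod_cast h'
  have h3 : ∀ χ ∈ B, χ ≠ oneIrr G → a χ ≠ (H75.deg χ : ℤ) := by
    intro χ _ hχ hcon
    have h4 : x ∈ H4.charKer χ := by
      rw [H4.mem_charKer, ha, H75.deg_spec, hcon]; simp
    rcases (inferInstance : (H4.charKer χ).Normal).eq_bot_or_eq_top with h5 | h5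
    · rw [h5, Subgroup.mem_bot] at h4
      exact hx1 h4
    · exact H4.charKer_ne_top hχ h5
  have h5 := ineq_one_class B hone a (fun χ => (H75.deg χ : ℤ)) (q := q) (by omega)
    (fun χ _ => by exact_mod_cast H75.deg_pos χ) ha1 (by rw [hd1]; rfl) h1 h2 h3 (fun χ _ => hqa χ)
  -- counting
  have h6 := count_section hM hxk hx1 hC x x
  rw [hqC] at h6
  set S := Finset.univ.filter (fun t : G => ∃ a, IsPPart p (x * (t * x * t⁻¹)) a ∧ IsConj a x) with hS
  have h7 := card_regular_le P hP hx hconj hs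
  set T := Finset.univ.filter (fun t : G => ¬ p ∣ orderOf (x * (t * x * t⁻¹))) with hT
  have h8 : Nat.card G ≤ S.card + T.card := by
    rw [Nat.card_eq_fintype_card, ← Finset.card_univ]
    refine (Finset.card_le_card (s := Finset.univ) (t := S ∪ T) ?_).trans (Finset.card_union_le _ _)
    intro t _
    rw [Finset.mem_union]
    by_cases ht : p ∣ orderOf (x * (t * x * t⁻¹))
    · left
      rw [hS, Finset.mem_filter]
      refine ⟨Finset.mem_univ _, ?_⟩
      obtain ⟨b, hb⟩ := BlkInd.exists_isPPart hp.out (x * (t * x * t⁻¹))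
      refine ⟨b, hb, ?_⟩
      have hb1 : b ≠ 1 := by
        rintro rfl
        obtain ⟨y, hy, -, -, hyr⟩ := hb
        rw [one_mul] at hy
        rw [← hy] at ht
        exact hyr ht
      obtain ⟨y, hy, hcomm, hbk, hyr⟩ := hb
      exact (hconj b (hexp b hbk hb1)).symm
    · right
      rw [hT, Finset.mem_filter]
      exact ⟨Finset.mem_univ _, ht⟩
  have h9 : (q : ℝ) * S.card = Nat.card G * ∑ χ ∈ B, (a χ : ℝ) ^ 3 / (H75.deg χ : ℤ) := by
    have h10 : (((q : ℝ) * S.card : ℝ) : ℂ) =
        ((Nat.card G * ∑ χ ∈ B, (a χ : ℝ) ^ 3 / (H75.deg χ : ℤ) : ℝ) : ℂ) := by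
      push_cast
      rw [h6, ← Finset.sum_filter]
      congr 1
      refine Finset.sum_congr rfl fun χ _ => ?_
      rw [ha χ, map_intCast, H75.deg_spec]
      ring
    exact_mod_cast h10
  have hG : (0 : ℝ) < Nat.card G := by exact_mod_cast Nat.card_pos
  have h10 : (Nat.card G : ℝ) ≤ S.card + T.card := by exact_mod_cast h8
  have h11 : (2 : ℝ) * T.card ≤ Nat.card G := by
    have : 2 * T.card ≤ Nat.card G := le_trans (Nat.mul_le_mul_right _ (by omega)) h7
    exact_mod_cast this
  have h12 : (q : ℝ) * S.card < Nat.card G * (q / 2) := by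
    rw [h9]
    refine mul_lt_mul_of_pos_left ?_ hG
    simpa using h5
  have hq0 : (0 : ℝ) < q := by exact_mod_cast (by omega : 0 < q)
  nlinarith

end Cfsg.Agent.H33
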