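import Cfsg.Agent.H33.CycStruct
import Cfsg.Agent.H33.OneClass
import Cfsg.Agent.S4709

set_option autoImplicit false
set_option linter.all false

/-! Bounds for the values of the principal block, cyclic Sylow subgroups (helper33). -/

namespace Cfsg.Agent.H33

open scoped ComplexConjugate
open Cfsg Cfsg.Agent.CharBase

universe u

theorem final_ineq {ι : Type*} [DecidableEq ι] (B : Finset ι) {i₀ : ι} (hi₀ : i₀ ∈ B) (t D : ι → ℝ)
    {p Q κ : ℝ} (hp : 1 < p) (hκ : 0 < κ) (hD : ∀ i ∈ B, 0 < D i) (ht0 : t i₀ = p - 1) (hD0 : D i₀ = 1)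
    (h1 : ∑ i ∈ B, t i ^ 2 = Q * (p - 1)) (h2 : Q * (p - 1) * (p - 2) ≤ ∑ i ∈ B, t i ^ 3 / D i)
    (h3 : ∀ i ∈ B, i ≠ i₀ → κ * t i ≤ (p - 1) * D i) :
    κ * Q * (p - 2) ≤ (κ - 1) * (p - 1) ^ 2 + Q * (p - 1) := by
  have hp' : 0 < p - 1 := by linarith
  have h4 : ∀ i ∈ B, t i ^ 3 / D i ≤ (p - 1) / κ * t i ^ 2 +
      (if i = i₀ then (p - 1) ^ 3 * (1 - 1 / κ) else 0) := by
    intro i hi
    split_ifs with h
    · rw [h, ht0, hD0, div_one]
      have : (p - 1) / κ * (p - 1) ^ 2 + (p - 1) ^ 3 * (1 - 1 / κ) = (p - 1) ^ 3 := by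
        field_simp; ring
      rw [this]
    · rw [add_zero]
      have h5 := h3 i hi h
      have h6 := hD i hi
      rw [div_le_iff₀ h6]
      have h7 : t i ≤ (p - 1) / κ * D i := by
        rw [div_mul_eq_mul_div, le_div_iff₀ hκ]; linarith
      calc t i ^ 3 = t i ^ 2 * t i := by ring
        _ ≤ t i ^ 2 * ((p - 1) / κ * D i) := mul_le_mul_of_nonneg_left h7 (sq_nonneg _)
        _ = _ := by ring
  have h5 := Finset.sum_le_sum h4
  rw [Finset.sum_add_distrib, ← Finset.mul_sum, h1, Finset.sum_ite_eq', if_pos hi₀] at h5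
  have h6 := h2.trans h5
  have h7 : (p - 1) / κ * (Q * (p - 1)) + (p - 1) ^ 3 * (1 - 1 / κ) =
      (p - 1) * ((Q * (p - 1) + (κ - 1) * (p - 1) ^ 2) / κ) := by
    field_simp
  rw [h7] at h6
  have h8 : (p - 1) * (Q * (p - 2)) ≤ (p - 1) * ((Q * (p - 1) + (κ - 1) * (p - 1) ^ 2) / κ) := by
    linarith
  have h9 := le_of_mul_le_mul_left h8 hp'
  rw [le_div_iff₀ hκ] at h9
  linarith

theorem sum_units_root {p : ℕ} [hp : Fact p.Prime] {z : ℂ} (hz : z ^ p = 1) :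
    ∑ c : (ZMod p)ˣ, z ^ ((c : ZMod p).val) = if z = 1 then ((p - 1 : ℕ) : ℂ) else -1 := by
  classical
  split_ifs with h
  · rw [h]
    simp only [one_pow, Finset.sum_const, Finset.card_univ, ZMod.card_units p, nsmul_eq_mul, mul_one]
  · have h1 : ∑ a : ZMod p, z ^ a.val = 0 := by
      have h2 : z * ∑ a : ZMod p, z ^ a.val = ∑ a : ZMod p, z ^ a.val := by
        rw [Finset.mul_sum, ← Equiv.sum_comp (Equiv.addRight (1 : ZMod p)) (fun a => z ^ a.val)]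
        refine Finset.sum_congr rfl fun a _ => ?_
        simp only [Equiv.coe_addRight]
        rw [ZMod.val_add, ZMod.val_one, ← pow_eq_pow_mod _ hz, pow_succ, mul_comm]
      have h3 : (z - 1) * ∑ a : ZMod p, z ^ a.val = 0 := by linear_combination h2
      rcases mul_eq_zero.1 h3 with h4 | h4
      · exact absurd (sub_eq_zero.1 h4) h
      · exact h4
    have h2 : ∑ c : (ZMod p)ˣ, z ^ ((c : ZMod p).val) =
        ∑ a ∈ Finset.univ.erase (0 : ZMod p), z ^ a.val := by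
      refine Finset.sum_bij (fun c _ => (c : ZMod p)) ?_ ?_ ?_ ?_
      · intro c _
        rw [Finset.mem_erase]
        exact ⟨c.ne_zero, Finset.mem_univ _⟩
      · intro a _ b _ h
        exact Units.ext h
      · intro a ha
        rw [Finset.mem_erase] at ha
        exact ⟨Units.mk0 a ha.1, Finset.mem_univ _, rfl⟩
      · intro a _; rfl
    rw [h2]
    rw [← Finset.add_sum_erase Finset.univ _ (Finset.mem_univ (0 : ZMod p)), ZMod.val_zero,
      pow_zero] at h1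
    linear_combination h1

/-- the `N_G(P)`-conjugates of a character of `P` -/
def cSet {G : Type u} [Group G] (P : Subgroup G) (ψ : P →* ℂˣ) : Set (P →* ℂˣ) :=
  {ψ' | ∃ n : G, n ∈ Subgroup.normalizer (P : Set G) ∧ ∀ w w' : P, (w' : G) = n * w * n⁻¹ → ψ' w' = ψ w}

theorem mem_cSet_self {G : Type u} [Group G] (P : Subgroup G) (ψ : P →* ℂˣ) : ψ ∈ cSet P ψ :=
  ⟨1, Subgroup.one_mem _, fun w w' h => by
    have : w' = w := Subtype.ext (by rw [h]; group)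
    rw [this]⟩

theorem cSet_finite {G : Type u} [Group G] [Finite G] (P : Subgroup G) (ψ : P →* ℂˣ) :
    (cSet P ψ).Finite ∧ (cSet P ψ).ncard ≤
      (Subgroup.centralizer (P : Set G)).relIndex (Subgroup.normalizer (P : Set G)) := by
  set N := Subgroup.normalizer (P : Set G) with hN
  set C := Subgroup.centralizer (P : Set G) with hC
  have h1 : ∀ ψ' : cSet P ψ, ∃ n : N, ∀ w w' : P, (w' : G) = n * w * (n : G)⁻¹ → (ψ' : P →* ℂˣ) w' = ψ w := by
    rintro ⟨ψ', n, hn, h⟩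
    exact ⟨⟨n, hn⟩, h⟩
  choose f hf using h1
  have hinj : Function.Injective (fun ψ' : cSet P ψ => (QuotientGroup.mk (f ψ') : N ⧸ C.subgroupOf N)) := by
    intro ψ₁ ψ₂ h
    have h2 : (f ψ₁)⁻¹ * f ψ₂ ∈ C.subgroupOf N := QuotientGroup.eq.1 h
    rw [Subgroup.mem_subgroupOf, hC, Subgroup.mem_centralizer_iff] at h2
    apply Subtype.ext
    ext w'
    have hmem : ∀ n : N, (n : G)⁻¹ * w' * n ∈ P := by
      intro n
      have := ((Subgroup.mem_normalizer_iff.1 (N.inv_mem n.2)) (w' : G)).1 w'.2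
      rwa [inv_inv] at this
    have e1 := hf ψ₁ ⟨_, hmem (f ψ₁)⟩ w' (by group)
    have e2 := hf ψ₂ ⟨_, hmem (f ψ₂)⟩ w' (by group)
    have e3 : ((f ψ₁ : N) : G)⁻¹ * w' * (f ψ₁ : N) = ((f ψ₂ : N) : G)⁻¹ * w' * (f ψ₂ : N) := by
      have h3 := h2 _ (hmem (f ψ₁))
      simp only [Subgroup.coe_mul, Subgroup.coe_inv] at h3
      calc ((f ψ₁ : N) : G)⁻¹ * w' * (f ψ₁ : N)
          = ((f ψ₂ : N) : G)⁻¹ * (f ψ₁ : N) * ((((f ψ₁ : N) : G)⁻¹ * w' * (f ψ₁ : N)) *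
            (((f ψ₁ : N) : G)⁻¹ * (f ψ₂ : N))) := by rw [h3]; group
        _ = _ := by group
    have e4 : (⟨_, hmem (f ψ₁)⟩ : P) = ⟨_, hmem (f ψ₂)⟩ := Subtype.ext e3
    rw [e1, e2, e4]
  have hfin : Finite (cSet P ψ) := Finite.of_injective _ hinj
  refine ⟨Set.toFinite _, ?_⟩
  rw [← Nat.card_coe_set_eq]
  exact Nat.card_le_card_of_injective _ hinj

theorem eq_one_of_cSet {G : Type u} [Group G] {P : Subgroup G} {ψ ψ' : P →* ℂˣ} (h : ψ' ∈ cSet P ψ)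
    (h1 : ψ' = 1) : ψ = 1 := by
  obtain ⟨n, hn, hw⟩ := h
  ext w
  have h2 : n * (w : G) * n⁻¹ ∈ P := ((Subgroup.mem_normalizer_iff.1 hn) (w : G)).1 w.2
  rw [← hw w ⟨_, h2⟩ rfl, h1]
  rfl

theorem sum_char_eq_zero {Z : Type u} [Group Z] [Fintype Z] {ψ : Z →* ℂˣ} (h : ψ ≠ 1) :
    ∑ y : Z, ((ψ y : ℂˣ) : ℂ) = 0 := by
  obtain ⟨a, ha⟩ : ∃ a, ψ a ≠ 1 := by
    by_contra hcon
    push Not at hcon
    exact h (MonoidHom.ext hcon)
  have h1 : ((ψ a : ℂˣ) : ℂ) * ∑ y : Z, ((ψ y : ℂˣ) : ℂ) = ∑ y : Z, ((ψ y : ℂˣ) : ℂ) := by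
    rw [Finset.mul_sum, ← Equiv.sum_comp (Equiv.mulLeft a) (fun y => ((ψ y : ℂˣ) : ℂ))]
    refine Finset.sum_congr rfl fun y _ => ?_
    simp only [Equiv.coe_mulLeft, map_mul, Units.val_mul]
  have h3 : (((ψ a : ℂˣ) : ℂ) - 1) * ∑ y : Z, ((ψ y : ℂˣ) : ℂ) = 0 := by linear_combination h1
  rcases mul_eq_zero.1 h3 with h4 | h4
  · exact absurd (Units.ext (sub_eq_zero.1 h4)) ha
  · exact h4

noncomputable def cFin {G : Type u} [Group G] [Finite G] (P : Subgroup G) (ψ : P →* ℂˣ) :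
    Finset (P →* ℂˣ) := (cSet_finite P ψ).1.toFinset

theorem mem_cFin {G : Type u} [Group G] [Finite G] {P : Subgroup G} {ψ ψ' : P →* ℂˣ} :
    ψ' ∈ cFin P ψ ↔ ψ' ∈ cSet P ψ := Set.Finite.mem_toFinset _

theorem card_cFin_le {G : Type u} [Group G] [Finite G] (P : Subgroup G) (ψ : P →* ℂˣ) :
    (cFin P ψ).card ≤
      (Subgroup.centralizer (P : Set G)).relIndex (Subgroup.normalizer (P : Set G)) := by
  have := (cSet_finite P ψ).2
  rwa [Set.ncard_eq_toFinset_card _ (cSet_finite P ψ).1] at this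

theorem one_le_card_cFin {G : Type u} [Group G] [Finite G] (P : Subgroup G) (ψ : P →* ℂˣ) :
    1 ≤ (cFin P ψ).card :=
  Finset.card_pos.2 ⟨ψ, mem_cFin.2 (mem_cSet_self P ψ)⟩

theorem finsum_cSet {G : Type u} [Group G] [Finite G] (P : Subgroup G) (ψ : P →* ℂˣ)
    (f : (P →* ℂˣ) → ℂ) : ∑ᶠ ψ' ∈ cSet P ψ, f ψ' = ∑ ψ' ∈ cFin P ψ, f ψ' :=
  finsum_mem_eq_finite_toFinset_sum f _

open Classical in
theorem TT_eta {G : Type u} [Group G] [Finite G] {p : ℕ} [hp : Fact p.Prime] (P : Subgroup G) {x : G}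
    (hxP : x ∈ P) (hx : orderOf x = p) (ψ : P →* ℂˣ) {η : G → ℂ} {d δ : ℤ}
    (hv : ∀ y : P, (y : G) ≠ 1 → (∃ k, orderOf (y : G) = p ^ k) →
      η y = (d : ℂ) + (δ : ℂ) * ∑ᶠ ψ' ∈ cSet P ψ, ((ψ' y : ℂˣ) : ℂ)) :
    TT p x η = ((((p : ℤ) - 1) * d + δ * (p *
      ((cFin P ψ).filter (fun ψ' => ψ' ⟨x, hxP⟩ = 1)).card -
      (cFin P ψ).card) : ℤ) : ℂ) := by
  have h1 : ∀ c : (ZMod p)ˣ, η (xp x c) = (d : ℂ) + (δ : ℂ) *
      ∑ ψ' ∈ cFin P ψ, (((ψ' ⟨x, hxP⟩ : ℂˣ) : ℂ)) ^ ((c : ZMod p).val) := by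
    intro c
    have hc : xp x c ∈ P := P.pow_mem hxP _
    have h2 := hv ⟨xp x c, hc⟩ (fun h => by
      have h3 := orderOf_xp hx c
      have h4 : xp x c = 1 := h
      rw [h4, orderOf_one] at h3
      exact hp.out.one_lt.ne h3) ⟨1, by
        show orderOf (xp x c) = _
        rw [orderOf_xp hx, pow_one]⟩
    rw [finsum_cSet] at h2
    rw [show η (xp x c) = η ((⟨xp x c, hc⟩ : P) : G) from rfl, h2]
    congr 2
    refine Finset.sum_congr rfl fun ψ' _ => ?_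
    have h3 : (⟨xp x c, hc⟩ : P) = ⟨x, hxP⟩ ^ ((c : ZMod p).val) := rfl
    rw [h3, map_pow]
    push_cast
    rfl
  unfold TT
  rw [Finset.sum_congr rfl fun c _ => h1 c, Finset.sum_add_distrib, Finset.sum_const,
    Finset.card_univ, ZMod.card_units p, ← Finset.mul_sum, Finset.sum_comm, nsmul_eq_mul]
  have h2 : ∀ ψ' : P →* ℂˣ, ∑ c : (ZMod p)ˣ, (((ψ' ⟨x, hxP⟩ : ℂˣ) : ℂ)) ^ ((c : ZMod p).val) =
      (if ψ' ⟨x, hxP⟩ = 1 then (p : ℂ) else 0) - 1 := by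
    intro ψ'
    have h3 : (((ψ' ⟨x, hxP⟩ : ℂˣ) : ℂ)) ^ p = 1 := by
      rw [← Units.val_pow_eq_pow_val, ← map_pow]
      have : (⟨x, hxP⟩ : P) ^ p = 1 := Subtype.ext (by rw [← hx]; exact pow_orderOf_eq_one x)
      rw [this, map_one, Units.val_one]
    rw [sum_units_root h3]
    by_cases h4 : ψ' ⟨x, hxP⟩ = 1
    · rw [if_pos (by rw [h4, Units.val_one]), if_pos h4, Nat.cast_sub hp.out.one_lt.le, Nat.cast_one]
    · rw [if_neg (fun h => h4 (Units.ext (by rw [h, Units.val_one]))), if_neg h4, zero_sub]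
  rw [Finset.sum_congr rfl fun ψ' _ => h2 ψ', Finset.sum_sub_distrib, ← Finset.sum_filter,
    Finset.sum_const, Finset.sum_const, Nat.cast_sub hp.out.one_lt.le]
  push_cast
  simp only [nsmul_eq_mul]
  ring

theorem eta_dvd {G : Type u} [Group G] [Finite G] {p : ℕ} [hp : Fact p.Prime] (P : Subgroup G)
    (hPp : IsPGroup p P) (ψ : P →* ℂˣ) (hψ : ψ ≠ 1) {η : G → ℂ} (hη : IsCharacter G η) {D : ℕ}
    (hD : η 1 = D) {d δ : ℤ}
    (hv : ∀ y : P, (y : G) ≠ 1 → (∃ k, orderOf (y : G) = p ^ k) →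
      η y = (d : ℂ) + (δ : ℂ) * ∑ᶠ ψ' ∈ cSet P ψ, ((ψ' y : ℂˣ) : ℂ)) :
    (Nat.card P : ℤ) ∣ D + ((Nat.card P : ℤ) - 1) * d - δ * (cFin P ψ).card := by
  classical
  haveI := Fintype.ofFinite G
  haveI := Fintype.ofFinite P
  have hres := isCharacter_restrict hη P
  obtain ⟨n, hn⟩ := classInner_natCast hres
    (isCharacter_of_isIrr (isIrrCharacter_one (G := P)))
  have hq : (Nat.card P : ℂ) ≠ 0 := by exact_mod_cast Nat.card_pos.ne'
  have h3 : ∑ y : P, η y = (Nat.card P : ℂ) * n := by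
    rw [← hn]
    unfold classInner
    rw [mul_inv_cancel_left₀ hq]
    simp
  have hsum : ∑ y : P, η y = (D : ℂ) + ((Nat.card P : ℂ) - 1) * d - δ * (cFin P ψ).card := by
    rw [← Finset.add_sum_erase Finset.univ _ (Finset.mem_univ (1 : P))]
    have h1 : ∀ y ∈ Finset.univ.erase (1 : P), η y = (d : ℂ) + (δ : ℂ) *
        ∑ ψ' ∈ cFin P ψ, ((ψ' y : ℂˣ) : ℂ) := by
      intro y hy
      have hy1 : (y : G) ≠ 1 := by
        intro h
        exact (Finset.mem_erase.mp hy).1 (Subtype.ext h)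
      obtain ⟨k, hk⟩ := IsPGroup.iff_orderOf.1 hPp y
      rw [hv y hy1 ⟨k, by rw [Subgroup.orderOf_coe]; exact hk⟩, finsum_cSet]
    rw [Finset.sum_congr rfl h1, Finset.sum_add_distrib, Finset.sum_const,
      Finset.card_erase_of_mem (Finset.mem_univ _), Finset.card_univ, ← Nat.card_eq_fintype_card,
      ← Finset.mul_sum, Finset.sum_comm, Subgroup.coe_one, hD, nsmul_eq_mul,
      Nat.cast_sub Nat.card_pos]
    have h2 : ∀ ψ' ∈ cFin P ψ,
        ∑ y ∈ Finset.univ.erase (1 : P), ((ψ' y : ℂˣ) : ℂ) = -1 := by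
      intro ψ' hψ'
      rw [mem_cFin] at hψ'
      have h4 := sum_char_eq_zero (ψ := ψ') (fun h => hψ (eq_one_of_cSet hψ' h))
      rw [← Finset.add_sum_erase Finset.univ _ (Finset.mem_univ (1 : P)), map_one, Units.val_one] at h4
      linear_combination h4
    rw [Finset.sum_congr rfl h2, Finset.sum_const, nsmul_eq_mul]
    push_cast
    ring
  refine ⟨n, ?_⟩
  rw [hsum] at h3
  exact_mod_cast h3

end Cfsg.Agent.H33
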