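import Cfsg.Agent.H33.PairCount
import Cfsg.Agent.H33.PairSolv

set_option autoImplicit false
set_option linter.all false

/-! Cubic identity for the values of the principal block on the elements of order `p` (helper33). -/

namespace Cfsg.Agent.H33

open scoped ComplexConjugate
open Cfsg Cfsg.Agent.CharBase

universe u

section Pow

variable {G : Type u} [Group G] {p : ℕ} [hp : Fact p.Prime]

/-- powers indexed by the units modulo `p` -/
def xp (x : G) (c : (ZMod p)ˣ) : G := x ^ ((c : ZMod p).val)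

theorem xp_eq_of_nat {x : G} (hx : orderOf x = p) (n : ℕ) (c : (ZMod p)ˣ) (h : (n : ZMod p) = c) :
    x ^ n = xp x c := by
  unfold xp
  rw [pow_eq_pow_iff_modEq, hx, ← ZMod.natCast_eq_natCast_iff, ZMod.natCast_val, ZMod.cast_id', id, h]

theorem xp_one {x : G} (hx : orderOf x = p) : xp x (1 : (ZMod p)ˣ) = x := by
  rw [← xp_eq_of_nat hx 1 1 (by simp), pow_one]

theorem orderOf_xp {x : G} (hx : orderOf x = p) (c : (ZMod p)ˣ) : orderOf (xp x c) = p := by
  have hx0 : orderOf x ≠ 0 := by rw [hx]; exact hp.out.ne_zero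
  unfold xp
  have h1 : ((c : ZMod p).val) ≠ 0 := by
    rw [Ne, ZMod.val_eq_zero]
    exact c.ne_zero
  rw [orderOf_pow' x h1, hx]
  have h2 : Nat.Coprime p ((c : ZMod p).val) := by
    rw [Nat.Prime.coprime_iff_not_dvd hp.out]
    intro h
    have := ZMod.val_lt (c : ZMod p)
    exact absurd (Nat.le_of_dvd (Nat.pos_of_ne_zero h1) h) (by omega)
  rw [h2, Nat.div_one]

theorem xp_xp {x : G} (hx : orderOf x = p) (b c : (ZMod p)ˣ) : xp (xp x b) c = xp x (b * c) := by
  rw [← xp_eq_of_nat hx (((b : ZMod p).val) * ((c : ZMod p).val)) (b * c) (by simp)]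
  unfold xp
  rw [pow_mul]

theorem xp_inv {x : G} (hx : orderOf x = p) (c : (ZMod p)ˣ) : (xp x c)⁻¹ = xp x (-c) := by
  rw [inv_eq_iff_mul_eq_one]
  unfold xp
  rw [← pow_add, ← orderOf_dvd_iff_pow_eq_one, hx, ← ZMod.natCast_eq_zero_iff]
  simp

theorem xp_conj (x t : G) (c : (ZMod p)ˣ) : xp (t * x * t⁻¹) c = t * xp x c * t⁻¹ := by
  unfold xp
  rw [conj_pow]

theorem isConj_xp {x y : G} (h : IsConj x y) (c : (ZMod p)ˣ) : IsConj (xp x c) (xp y c) := by
  obtain ⟨t, rfl⟩ := isConj_iff.1 h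
  rw [xp_conj]
  exact isConj_iff.2 ⟨t, rfl⟩

theorem xp_inj {x : G} (hx : orderOf x = p) {b c : (ZMod p)ˣ} (h : xp x b = xp x c) : b = c := by
  unfold xp at h
  rw [pow_eq_pow_iff_modEq, hx, ← ZMod.natCast_eq_natCast_iff, ZMod.natCast_val, ZMod.natCast_val,
    ZMod.cast_id', id, id] at h
  exact Units.ext h

theorem xp_mem_zpowers (x : G) (c : (ZMod p)ˣ) : xp x c ∈ Subgroup.zpowers x :=
  Subgroup.npow_mem_zpowers x _

open Classical in
theorem card_conj_xp {x : G} (hx : orderOf x = p) (a : (ZMod p)ˣ) :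
    (Finset.univ.filter (fun b : (ZMod p)ˣ => IsConj (xp x a) (xp x b))).card =
    (Finset.univ.filter (fun b : (ZMod p)ˣ => IsConj x (xp x b))).card := by
  refine Finset.card_bij (fun b _ => b * a⁻¹) ?_ ?_ ?_
  · intro b hb
    rw [Finset.mem_filter] at hb ⊢
    refine ⟨Finset.mem_univ _, ?_⟩
    have := isConj_xp hb.2 a⁻¹
    rwa [xp_xp hx, xp_xp hx, mul_inv_cancel, xp_one hx] at this
  · intro b _ c _ h
    exact mul_right_cancel h
  · intro c hc
    rw [Finset.mem_filter] at hc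
    refine ⟨c * a, ?_, by group⟩
    rw [Finset.mem_filter]
    refine ⟨Finset.mem_univ _, ?_⟩
    have := isConj_xp hc.2 a
    rwa [xp_xp hx] at this

end Pow

variable {G : Type u} [Group G] [Finite G] {p : ℕ} [hp : Fact p.Prime] {M : Ideal AlgInt}

open Classical in
/-- `|E|` -/
noncomputable def ee (p : ℕ) [Fact p.Prime] (x : G) : ℕ :=
  (Finset.univ.filter (fun b : (ZMod p)ˣ => IsConj x (xp x b))).card

/-- sum over the nonidentity powers -/
noncomputable def TT (p : ℕ) [Fact p.Prime] (x : G) (χ : G → ℂ) : ℂ := ∑ c : (ZMod p)ˣ, χ (xp x c)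

/-- sum of the `β` -/
noncomputable def AA (p : ℕ) [Fact p.Prime] (M : Ideal AlgInt) (x z : G) : ℂ :=
  ∑ c : (ZMod p)ˣ, beta M (xp x c) z

theorem conj_TT {x : G} (hx : orderOf x = p) (χ : IrrCharacter G) :
    conj (TT p x (χ : G → ℂ)) = TT p x (χ : G → ℂ) := by
  unfold TT
  rw [map_sum]
  have h1 : ∀ c : (ZMod p)ˣ, conj ((χ : G → ℂ) (xp x c)) = (χ : G → ℂ) (xp x (-c)) := by
    intro c
    rw [← xp_inv hx, irr_inv]
  rw [Finset.sum_congr rfl fun c _ => h1 c]
  exact Fintype.sum_equiv (Equiv.neg _) _ _ (fun c => rfl)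

/-- hypotheses on `x` -/
structure CHyp (p : ℕ) [Fact p.Prime] (x : G) : Prop where
  ord : orderOf x = p
  cov : ∀ y : G, orderOf y = p → ∃ a : (ZMod p)ˣ, IsConj y (xp x a)
  core : ∃ k, (Cfsg.pPrimeCore p (Subgroup.centralizer ({x} : Set G))).index = p ^ k

theorem centralizer_xp {x : G} (hx : orderOf x = p) (c : (ZMod p)ˣ) :
    Subgroup.centralizer ({xp x c} : Set G) = Subgroup.centralizer ({x} : Set G) := by
  ext g
  rw [Subgroup.mem_centralizer_singleton_iff, Subgroup.mem_centralizer_singleton_iff]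
  constructor
  · intro h
    have h1 : Commute g (xp x c) := h
    have h2 : Commute g (xp (xp x c) c⁻¹) := h1.pow_right _
    rw [xp_xp hx, mul_inv_cancel, xp_one hx] at h2
    exact h2
  · intro h
    have h1 : Commute g x := h
    exact h1.pow_right _

theorem AA_val (hM : IsPModular p M) {x : G} (h : CHyp p x) {z u : G} (hz : IsPPart p z u)
    (hu : orderOf u = p) :
    AA p M x z = ((p ^ (Nat.card (Subgroup.centralizer ({x} : Set G))).factorization p : ℕ) : ℂ) *
      (ee p x : ℂ) := by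
  classical
  obtain ⟨a, ha⟩ := h.cov u hu
  unfold AA
  have h1 : ∀ c : (ZMod p)ˣ, beta M (xp x c) z = if IsConj (xp x a) (xp x c) then
      ((p ^ (Nat.card (Subgroup.centralizer ({x} : Set G))).factorization p : ℕ) : ℂ) else 0 := by
    intro c
    have hck : ∃ k, orderOf (xp x c) = p ^ k := ⟨1, by rw [orderOf_xp h.ord, pow_one]⟩
    split_ifs with hc
    · have h2 := beta_val hM hck (fun h1 => by
        have := orderOf_xp h.ord c
        rw [h1, orderOf_one] at this
        exact hp.out.one_lt.ne this) (by rw [centralizer_xp h.ord]; exact h.core) hz (ha.trans hc)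
      rw [h2, centralizer_xp h.ord]
    · exact beta_zero hM hck hz (fun h2 => hc (ha.symm.trans h2))
  rw [Finset.sum_congr rfl fun c _ => h1 c, ← Finset.sum_filter, Finset.sum_const, nsmul_eq_mul,
    card_conj_xp h.ord, mul_comm]
  rfl

theorem AA_zero (hM : IsPModular p M) {x : G} (h : CHyp p x) {z u : G} (hz : IsPPart p z u)
    (hu : orderOf u ≠ p) : AA p M x z = 0 := by
  unfold AA
  refine Finset.sum_eq_zero fun c _ => ?_
  have hck : ∃ k, orderOf (xp x c) = p ^ k := ⟨1, by rw [orderOf_xp h.ord, pow_one]⟩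
  refine beta_zero hM hck hz (fun h2 => hu ?_)
  obtain ⟨t, ht⟩ := isConj_iff.1 h2
  rw [← orderOf_xp h.ord c, ← ht]
  exact (orderOf_injective (MulAut.conj t).toMonoidHom (MulAut.conj t).injective u).symm

open Classical in
theorem AA_eq [Fintype (IrrCharacter G)] {x : G} (hx : orderOf x = p) (z : G) :
    AA p M x z = ∑ χ : IrrCharacter G, if χ ∈ principalBlock M G then
      (χ : G → ℂ) z * TT p x (χ : G → ℂ) else 0 := by
  unfold AA
  have h0 : ∀ c : (ZMod p)ˣ, beta M (xp x c) z = ∑ χ : IrrCharacter G,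
      if χ ∈ principalBlock M G then (χ : G → ℂ) z * conj ((χ : G → ℂ) (xp x c)) else 0 := by
    intro c
    haveI := Fintype.ofFinite G
    unfold beta
    rw [Blk.finsum_mem_eq_sum_ite]
  rw [Finset.sum_congr rfl fun c _ => h0 c, Finset.sum_comm]
  refine Finset.sum_congr rfl fun χ _ => ?_
  by_cases h : χ ∈ principalBlock M G
  · simp only [if_pos h]
    rw [← Finset.mul_sum, ← map_sum]
    congr 1
    exact conj_TT hx χ
  · simp only [if_neg h, Finset.sum_const_zero]

open Classical in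
/-- the sum of squares -/
theorem sum_sq [Fintype (IrrCharacter G)] (hM : IsPModular p M) {x : G} (h : CHyp p x) :
    (∑ χ : IrrCharacter G, if χ ∈ principalBlock M G then TT p x (χ : G → ℂ) ^ 2 else 0) =
    ((p ^ (Nat.card (Subgroup.centralizer ({x} : Set G))).factorization p : ℕ) : ℂ) *
      (ee p x : ℂ) * ((p - 1 : ℕ) : ℂ) := by
  have h1 : ∑ a : (ZMod p)ˣ, AA p M x (xp x a) =
      ∑ χ : IrrCharacter G, if χ ∈ principalBlock M G then TT p x (χ : G → ℂ) ^ 2 else 0 := by
    simp only [AA_eq h.ord]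
    rw [Finset.sum_comm]
    refine Finset.sum_congr rfl fun χ _ => ?_
    by_cases hχ : χ ∈ principalBlock M G
    · simp only [if_pos hχ]
      rw [← Finset.sum_mul, pow_two]
      rfl
    · simp only [if_neg hχ, Finset.sum_const_zero]
  rw [← h1]
  have h2 : ∀ a : (ZMod p)ˣ, AA p M x (xp x a) =
      ((p ^ (Nat.card (Subgroup.centralizer ({x} : Set G))).factorization p : ℕ) : ℂ) *
      (ee p x : ℂ) := by
    intro a
    refine AA_val hM h (u := xp x a) ⟨1, mul_one _, Commute.one_right _, ⟨1, by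
      rw [orderOf_xp h.ord, pow_one]⟩, by
        rw [orderOf_one]; exact fun h => hp.out.one_lt.ne' (Nat.dvd_one.1 h)⟩ (orderOf_xp h.ord a)
  rw [Finset.sum_congr rfl fun a _ => h2 a, Finset.sum_const, Finset.card_univ, ZMod.card_units p,
    nsmul_eq_mul]
  ring

open Classical in
/-- the cubic inequality -/
theorem cubic_le [Fintype G] [Fintype (IrrCharacter G)] (hM : IsPModular p M) {x : G} (h : CHyp p x)
    (P : Sylow p G)
    (hP : ∀ a ∈ (P : Subgroup G), ∀ b ∈ (P : Subgroup G), a * b = b * a)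
    (hs : ∀ y : G, orderOf y = p → IsPSolvable p ↥(Subgroup.closure ({x, y} : Set G)))
    (t : IrrCharacter G → ℝ)
    (ht : ∀ χ : IrrCharacter G, χ ∈ principalBlock M G → TT p x (χ : G → ℂ) = t χ)
    (d : IrrCharacter G → ℝ) (hd : ∀ χ : IrrCharacter G, (χ : G → ℂ) 1 = d χ) :
    (p ^ (Nat.card (Subgroup.centralizer ({x} : Set G))).factorization p : ℕ) *
      (ee p x : ℝ) * ((p : ℝ) - 1) * ((p : ℝ) - 2) ≤
    ∑ χ : IrrCharacter G, if χ ∈ principalBlock M G then t χ ^ 3 / d χ else 0 := by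
  set Q : ℝ := ((p ^ (Nat.card (Subgroup.centralizer ({x} : Set G))).factorization p : ℕ) : ℝ) *
      (ee p x : ℝ) with hQ
  have hQ0 : 0 ≤ Q := by positivity
  have hQC : (Q : ℂ) = ((p ^ (Nat.card (Subgroup.centralizer ({x} : Set G))).factorization p : ℕ) : ℂ) *
      (ee p x : ℂ) := by rw [hQ]; push_cast; rfl
  have h1 : ∑ a : (ZMod p)ˣ, ∑ b : (ZMod p)ˣ, ∑ g : G, AA p M x (xp x a * (g * xp x b * g⁻¹)) =
      (Nat.card G : ℂ) * ∑ χ : IrrCharacter G, if χ ∈ principalBlock M G then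
        TT p x (χ : G → ℂ) ^ 3 / (χ : G → ℂ) 1 else 0 := by
    simp only [AA_eq h.ord]
    have h2 : ∀ a b : (ZMod p)ˣ, ∑ g : G, ∑ χ : IrrCharacter G, (if χ ∈ principalBlock M G then
        (χ : G → ℂ) (xp x a * (g * xp x b * g⁻¹)) * TT p x (χ : G → ℂ) else 0) =
        ∑ χ : IrrCharacter G, if χ ∈ principalBlock M G then (Nat.card G : ℂ) *
          ((χ : G → ℂ) (xp x a) * (χ : G → ℂ) (xp x b) * TT p x (χ : G → ℂ) / (χ : G → ℂ) 1) else 0 := by
      intro a b
      rw [Finset.sum_comm]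
      refine Finset.sum_congr rfl fun χ _ => ?_
      by_cases hχ : χ ∈ principalBlock M G
      · simp only [if_pos hχ]
        rw [← Finset.sum_mul, sum_conj_mul χ.2]
        ring
      · simp only [if_neg hχ, Finset.sum_const_zero]
    rw [Finset.sum_congr rfl fun a _ => Finset.sum_congr rfl fun b _ => h2 a b]
    rw [Finset.sum_congr rfl fun a _ => Finset.sum_comm, Finset.sum_comm, Finset.mul_sum]
    refine Finset.sum_congr rfl fun χ _ => ?_
    by_cases hχ : χ ∈ principalBlock M G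
    · simp only [if_pos hχ]
      simp only [← Finset.mul_sum, ← Finset.sum_div, ← Finset.sum_mul]
      unfold TT
      ring
    · simp only [if_neg hχ, Finset.sum_const_zero, mul_zero]
  have h3 : ∀ (g : G) (a b : (ZMod p)ˣ), AA p M x (xp x a * (g * xp x b * g⁻¹)) =
      ((if p ∣ orderOf (xp x a * (g * xp x b * g⁻¹)) then Q else 0 : ℝ) : ℂ) := by
    intro g a b
    have hz : orderOf (g * x * g⁻¹) = p := by
      rw [← h.ord]
      exact orderOf_injective (MulAut.conj g).toMonoidHom (MulAut.conj g).injective x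
    obtain ⟨u, hu⟩ := BlkInd.exists_isPPart hp.out (xp x a * (g * xp x b * g⁻¹))
    have hup : u ^ p = 1 := by
      refine ppart_pow_eq_one P hP h.ord hz (hs _ hz) (a := xp x a) (b := g * xp x b * g⁻¹)
        (xp_mem_zpowers x a) ?_ (BlkInd.isPPart_mem_zpowers hp.out hu) ?_
      · rw [← xp_conj]; exact xp_mem_zpowers _ b
      · obtain ⟨y, -, -, hk, -⟩ := hu
        exact hk
    split_ifs with hdv
    · rw [hQC]
      refine AA_val hM h hu (orderOf_eq_prime hup ?_)
      rintro rfl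
      obtain ⟨y, hy, -, -, hyr⟩ := hu
      rw [one_mul] at hy
      rw [← hy] at hdv
      exact hyr hdv
    · rw [Complex.ofReal_zero]
      refine AA_zero hM h hu (fun h4 => hdv ?_)
      have h5 := orderOf_dvd_of_mem_zpowers (BlkInd.isPPart_mem_zpowers hp.out hu)
      rwa [h4] at h5
  have h4 : ∀ (g : G) (a : (ZMod p)ˣ), Q * ((p : ℝ) - 2) ≤
      ∑ b : (ZMod p)ˣ, (if p ∣ orderOf (xp x a * (g * xp x b * g⁻¹)) then Q else 0 : ℝ) := by
    intro g a
    have hz : orderOf (g * x * g⁻¹) = p := by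
      rw [← h.ord]
      exact orderOf_injective (MulAut.conj g).toMonoidHom (MulAut.conj g).injective x
    have h5 : (Finset.univ.filter (fun b : (ZMod p)ˣ =>
        ¬ p ∣ orderOf (xp x a * (g * xp x b * g⁻¹)))).card ≤ 1 := by
      rw [Finset.card_le_one]
      intro b hb c hc
      rw [Finset.mem_filter] at hb hc
      have h6 := pow_eq_pow_of_regular P hP h.ord hz (hs _ hz) (a := xp x a)
        (b := g * xp x b * g⁻¹) (c := g * xp x c * g⁻¹)
        ((Subgroup.zpowers_le.2 (Subgroup.subset_closure (by simp))) (xp_mem_zpowers x a))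
        (by rw [← xp_conj]; exact xp_mem_zpowers _ b) (by rw [← xp_conj]; exact xp_mem_zpowers _ c)
        hb.2 hc.2
      exact xp_inj h.ord (mul_left_cancel (mul_right_cancel h6))
    rw [← Finset.sum_filter, Finset.sum_const, nsmul_eq_mul]
    have h6 := Finset.card_filter_add_card_filter_not (s := (Finset.univ : Finset (ZMod p)ˣ))
      (fun b : (ZMod p)ˣ => p ∣ orderOf (xp x a * (g * xp x b * g⁻¹)))
    rw [Finset.card_univ, ZMod.card_units p] at h6
    have h7 : (p : ℝ) - 2 ≤ (Finset.univ.filter (fun b : (ZMod p)ˣ =>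
        p ∣ orderOf (xp x a * (g * xp x b * g⁻¹)))).card := by
      have h8 : p ≤ (Finset.univ.filter (fun b : (ZMod p)ˣ =>
        p ∣ orderOf (xp x a * (g * xp x b * g⁻¹)))).card + 2 := by
        have := hp.out.one_lt
        omega
      have h9 : (p : ℝ) ≤ (Finset.univ.filter (fun b : (ZMod p)ˣ =>
        p ∣ orderOf (xp x a * (g * xp x b * g⁻¹)))).card + 2 := by exact_mod_cast h8
      linarith
    rw [mul_comm]
    exact mul_le_mul_of_nonneg_right h7 hQ0
  have h5 : (Nat.card G : ℝ) * (Q * ((p : ℝ) - 1) * ((p : ℝ) - 2)) ≤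
      ∑ a : (ZMod p)ˣ, ∑ b : (ZMod p)ˣ, ∑ g : G,
        (if p ∣ orderOf (xp x a * (g * xp x b * g⁻¹)) then Q else 0 : ℝ) := by
    have h6 : ∀ a : (ZMod p)ˣ, (Nat.card G : ℝ) * (Q * ((p : ℝ) - 2)) ≤
        ∑ b : (ZMod p)ˣ, ∑ g : G,
        (if p ∣ orderOf (xp x a * (g * xp x b * g⁻¹)) then Q else 0 : ℝ) := by
      intro a
      rw [Finset.sum_comm, Nat.card_eq_fintype_card, ← Finset.card_univ, ← nsmul_eq_mul,
        ← Finset.sum_const]
      exact Finset.sum_le_sum fun g _ => h4 g a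
    have h7 : (Finset.univ : Finset (ZMod p)ˣ).card • ((Nat.card G : ℝ) * (Q * ((p : ℝ) - 2))) ≤
        ∑ a : (ZMod p)ˣ, ∑ b : (ZMod p)ˣ, ∑ g : G,
        (if p ∣ orderOf (xp x a * (g * xp x b * g⁻¹)) then Q else 0 : ℝ) := by
      rw [← Finset.sum_const]
      exact Finset.sum_le_sum fun a _ => h6 a
    rw [Finset.card_univ, ZMod.card_units p, nsmul_eq_mul, Nat.cast_sub hp.out.one_lt.le] at h7
    refine le_trans (le_of_eq ?_) h7
    push_cast
    ring
  have h6 : (((∑ a : (ZMod p)ˣ, ∑ b : (ZMod p)ˣ, ∑ g : G,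
        (if p ∣ orderOf (xp x a * (g * xp x b * g⁻¹)) then Q else 0 : ℝ)) : ℝ) : ℂ) =
      (((Nat.card G : ℝ) * ∑ χ : IrrCharacter G, if χ ∈ principalBlock M G then
        t χ ^ 3 / d χ else 0 : ℝ) : ℂ) := by
    rw [Complex.ofReal_sum]
    simp only [Complex.ofReal_sum, ← h3]
    rw [h1]
    push_cast
    congr 1
    refine Finset.sum_congr rfl fun χ _ => ?_
    by_cases hχ : χ ∈ principalBlock M G
    · rw [if_pos hχ, if_pos hχ, ht χ hχ, hd χ]
      push_cast
      rfl
    · rw [if_neg hχ, if_neg hχ]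
      simp
  have h7 := Complex.ofReal_injective h6
  rw [h7] at h5
  have hG : (0 : ℝ) < Nat.card G := by exact_mod_cast Nat.card_pos
  exact le_of_mul_le_mul_left h5 hG

end Cfsg.Agent.H33
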