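import Cfsg.Agent.H33.CycBound

set_option autoImplicit false
set_option linter.all false

/-! Simple groups with cyclic Sylow subgroups and `p`-solvable pairs (helper33). -/

namespace Cfsg.Agent.H33

open scoped ComplexConjugate
open Cfsg Cfsg.Agent.CharBase

universe u

theorem arith_dvd {q m r d δ SX SXd D : ℤ} (hδ : δ ^ 2 = 1) (hr : r * m = q - 1)
    (hsq : (d - δ) ^ 2 + (r - 1) * d ^ 2 + SX = m + 1) (hrel : (r * d - δ) * D + SXd = 0)
    (hdvd : q ∣ SXd - SX) : q ∣ (d + m * δ) * (D - (d + m * δ)) := by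
  obtain ⟨j, hj⟩ := hdvd
  refine ⟨d * D - d ^ 2 + m * j, ?_⟩
  have h1 : SX = m + 1 - (d - δ) ^ 2 - (r - 1) * d ^ 2 := by linarith
  have h2 : SXd = SX + q * j := by linarith
  rw [h2, h1] at hrel
  linear_combination (-m) * hrel + (d * D - d ^ 2) * hr - (m ^ 2 + m) * hδ

theorem dvd_of_small {p n : ℕ} [hp : Fact p.Prime] {f D : ℤ} (hf0 : f ≠ 0) (hf1 : f < p) (hf2 : -(p : ℤ) < f)
    (h : ((p ^ n : ℕ) : ℤ) ∣ f * (D - f)) : ((p ^ n : ℕ) : ℤ) ∣ D - f := by
  have hcop : IsCoprime f ((p ^ n : ℕ) : ℤ) := by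
    push_cast
    refine IsCoprime.pow_right ?_
    rw [isCoprime_comm, Prime.coprime_iff_not_dvd (Nat.prime_iff_prime_int.1 hp.out)]
    rintro ⟨j, rfl⟩
    rcases lt_trichotomy j 0 with h | h | h
    · have : j ≤ -1 := by omega
      nlinarith [hp.out.pos]
    · exact hf0 (by rw [h]; ring)
    · have : 1 ≤ j := by omega
      nlinarith [hp.out.pos]
  exact hcop.symm.dvd_of_dvd_mul_left h

theorem add_le_of_dvd {q f D : ℤ} (hq : 0 < q) (h : q ∣ D - f) (hlt : f < D) : f + q ≤ D := by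
  obtain ⟨j, hj⟩ := h
  have h1 : 0 < j := by
    by_contra h2
    have : j ≤ 0 := by omega
    nlinarith
  nlinarith

/-- case `|P| = p` -/
theorem arithY_one {p m r d δ D s SX : ℤ} (hm : 1 < m) (hmp : m < p - 1) (hr : r * m = p - 1)
    (hδ : δ = 1 ∨ δ = -1) (hsq : (d - δ) ^ 2 + (r - 1) * d ^ 2 + SX = m + 1) (hSX : 1 ≤ SX)
    (hD : 0 < D) (hs1 : 1 ≤ s) (hs2 : s ≤ m)
    (hdvd : ∀ f : ℤ, f = d + m * δ → f ≠ 0 → f < p → -p < f → p ∣ D - f) :
    2 * ((p - 1) * d - δ * s) ≤ (p - 1) * D := by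
  have hr2 : 2 ≤ r := by
    by_contra h
    have : r ≤ 1 := by omega
    nlinarith
  have hd2 : d ^ 2 ≤ (r - 1) * d ^ 2 := by nlinarith [sq_nonneg d]
  have h2m : 2 * m ≤ p - 1 := by nlinarith
  rcases hδ with rfl | rfl
  · rcases le_or_gt d 0 with hd | hd
    · nlinarith
    · have hdm : d ≤ m := by nlinarith [sq_nonneg (d - 1)]
      have h1 := hdvd (d + m * 1) rfl (by omega) (by omega) (by omega)
      have h2 : d + m ≤ D := by
        by_contra h3
        have h4 := add_le_of_dvd (q := p) (f := D) (D := d + m * 1) (by omega)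
          (by obtain ⟨j, hj⟩ := h1; exact ⟨-j, by linarith⟩) (by omega)
        omega
      nlinarith
  · rcases lt_or_ge d 0 with hd | hd
    · nlinarith
    · have hdm : d + 1 ≤ m := by nlinarith [sq_nonneg d]
      have h1 := hdvd (d + m * (-1)) rfl (by omega) (by omega) (by omega)
      have h2 := add_le_of_dvd (q := p) (by omega) h1 (by omega)
      nlinarith

/-- case `|P| ≥ p ^ 2` -/
theorem arithY_two {p q m r d δ SX : ℤ} (hp : 3 ≤ p) (hq : p ^ 2 ≤ q) (hm : 1 < m) (hmp : m ≤ p - 1)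
    (hr : r * m = q - 1)
    (hsq : (d - δ) ^ 2 + (r - 1) * d ^ 2 + SX = m + 1) (hSX : 1 ≤ SX) : d = 0 := by
  have h1 : p + 1 ≤ r := by
    by_contra h
    have h2 : r ≤ p := by omega
    nlinarith
  by_contra hd
  have h2 : 1 ≤ d ^ 2 := by
    have : 0 < d ^ 2 := by positivity
    omega
  nlinarith [sq_nonneg (d - δ)]

theorem arithY_two' {p q m δ D s k : ℤ} (hp : 3 ≤ p) (hq : p ^ 2 ≤ q) (hm : 1 < m) (hmp : m ≤ p - 1)
    (hδ : δ = 1 ∨ δ = -1) (hD : 0 < D) (hs1 : 1 ≤ s) (hs2 : s ≤ m) (hk0 : 0 ≤ k) (hks : k ≤ s)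
    (hne : δ = 1 → D ≠ m) (hdvd : q ∣ D - m * δ) :
    4 * (δ * (p * k - s)) ≤ (p - 1) * D := by
  rcases hδ with rfl | rfl
  · have h1 : m + q ≤ D := by
      have h2 := hne rfl
      rw [mul_one] at hdvd
      refine add_le_of_dvd (by nlinarith) hdvd ?_
      by_contra h3
      have h4 := add_le_of_dvd (q := q) (f := D) (D := m) (by nlinarith)
        (by obtain ⟨j, hj⟩ := hdvd; exact ⟨-j, by linarith⟩) (by omega)
      nlinarith
    have h3 : p * k - s ≤ (p - 1) * m := by nlinarith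
    have h4 : 3 * m ≤ q := by nlinarith
    have h5 : (p - 1) * (4 * m) ≤ (p - 1) * D :=
      mul_le_mul_of_nonneg_left (by linarith) (by linarith)
    linarith
  · have h1 := add_le_of_dvd (q := q) (f := m * (-1)) (by nlinarith) hdvd (by omega)
    nlinarith

theorem arithX {p q m a D κ : ℤ} (hp : 3 ≤ p) (hm : m ≤ p - 1) (ha : a ^ 2 ≤ m)
    (hκ : (κ = 2 ∧ p ≤ q) ∨ (κ = 4 ∧ p ^ 2 ≤ q)) (hD : 0 < D) (hne : D ≠ a) (hdvd : q ∣ D - a) :
    κ * ((p - 1) * a) ≤ (p - 1) * D := by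
  have hq0 : p ≤ q := by
    rcases hκ with ⟨-, h⟩ | ⟨-, h⟩
    · exact h
    · nlinarith
  rcases le_or_gt a 0 with h | h
  · have h1 : (p - 1) * a ≤ 0 := by nlinarith
    have h2 : 0 < (p - 1) * D := by nlinarith
    rcases hκ with ⟨rfl, -⟩ | ⟨rfl, -⟩ <;> linarith
  · have ham : a ≤ m := by nlinarith
    have h1 : a + q ≤ D := by
      refine add_le_of_dvd (by linarith) hdvd ?_
      by_contra h3
      have h4 := add_le_of_dvd (q := q) (f := D) (D := a) (by linarith)
        (by obtain ⟨j, hj⟩ := hdvd; exact ⟨-j, by linarith⟩) (by omega)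
      linarith
    have h2 : κ * a ≤ D := by
      rcases hκ with ⟨rfl, h⟩ | ⟨rfl, h⟩
      · linarith
      · nlinarith
    have h3 : (p - 1) * (κ * a) ≤ (p - 1) * D := mul_le_mul_of_nonneg_left h2 (by linarith)
    linarith

/-- a nontrivial character of a cyclic `p`-group of order at least `p ^ 2` trivial on `Ω₁` -/
theorem exists_char_trivial {Z : Type u} [Group Z] [Finite Z] {p n : ℕ} [hp : Fact p.Prime]
    (hZ : IsCyclic Z) (hn : Nat.card Z = p ^ n) (hn2 : 2 ≤ n) {x : Z} (hx : x ^ p = 1)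
    {ψ : Z →* ℂˣ} (hψ : ψ ≠ 1) : ∃ ψ₀ : Z →* ℂˣ, ψ₀ ≠ 1 ∧ ψ₀ x = 1 := by
  by_cases h : ψ x = 1
  · exact ⟨ψ, hψ, h⟩
  · obtain ⟨y, hy⟩ : ∃ y : Z, y ^ p = x := by
      obtain ⟨c, hc⟩ := hZ.exists_generator
      obtain ⟨k, hk⟩ := hc x
      have hk' : c ^ k = x := hk
      have hoc : orderOf c = p ^ n := by
        rw [← hn]; exact orderOf_eq_card_of_forall_mem_zpowers hc
      rw [← hk', ← zpow_natCast, ← zpow_mul, ← orderOf_dvd_iff_zpow_eq_one, hoc] at hx
      obtain ⟨m, rfl⟩ : ∃ m, n = m + 2 := ⟨n - 2, by omega⟩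
      obtain ⟨j, hj⟩ := hx
      have hp0 : (p : ℤ) ≠ 0 := by exact_mod_cast hp.out.ne_zero
      have h1 : k = p * (p ^ m * j) := by
        have h2 : (p : ℤ) * k = p * (p * (p ^ m * j)) := by
          push_cast at hj
          rw [mul_comm] at hj
          rw [hj]; ring
        exact mul_left_cancel₀ hp0 h2
      refine ⟨c ^ ((p : ℤ) ^ m * j), ?_⟩
      rw [← hk', h1, ← zpow_natCast, ← zpow_mul]
      congr 1
      push_cast
      ring
    refine ⟨ψ ^ p, fun h1 => h ?_, ?_⟩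
    · have h2 := DFunLike.congr_fun h1 y
      rw [MonoidHom.pow_apply, MonoidHom.one_apply, ← map_pow, hy] at h2
      exact h2
    · rw [MonoidHom.pow_apply, ← map_pow, hx, map_one]

set_option maxHeartbeats 4000000 in
theorem cyc_simple_false {G : Type u} [Group G] [Finite G] [IsSimpleGroup G] {p : ℕ} [hp : Fact p.Prime]
    (hp2 : p ≠ 2) (P : Sylow p G) (hPc : IsCyclic (P : Subgroup G))
    (hdvd : p ∣ Nat.card G) (hnpc : ¬ Cfsg.HasNormalPComplement p G)
    (hs : ∀ x y : G, orderOf x = p → orderOf y = p →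
      IsPSolvable p ↥(Subgroup.closure ({x, y} : Set G))) : False := by
  classical
  haveI := Fintype.ofFinite G
  haveI := Fintype.ofFinite (IrrCharacter G)
  obtain ⟨M, hM⟩ := Glaub.exists_isPModular (p := p) hp.out
  haveI := hM.2.1.isPrime
  have hp3 : 3 ≤ p := by
    have := hp.out.two_le
    omega
  have hPab := comm_of_cyclic hPc
  obtain ⟨n, hn⟩ := IsPGroup.iff_card.1 P.isPGroup'
  have hn0 : n ≠ 0 := by
    rintro rfl
    rw [pow_zero] at hn
    have h1 := Sylow.card_eq_multiplicity P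
    rw [hn] at h1
    have h2 : (Nat.card G).factorization p ≠ 0 :=
      (hp.out.factorization_pos_of_dvd Nat.card_pos.ne' hdvd).ne'
    have h3 : p ∣ p ^ (Nat.card G).factorization p := dvd_pow_self p h2
    rw [← h1] at h3
    exact hp.out.one_lt.ne' (Nat.dvd_one.1 h3)
  -- the element `x`
  obtain ⟨⟨x, hxP⟩, hx'⟩ : ∃ x : (P : Subgroup G), orderOf x = p :=
    exists_prime_orderOf_dvd_card' p (by rw [hn]; exact dvd_pow_self p hn0)
  have hx : orderOf x = p := by rwa [Subgroup.orderOf_mk] at hx'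
  have hx1 : x ≠ 1 := by
    rintro rfl
    rw [orderOf_one] at hx
    exact hp.out.one_lt.ne hx
  have hxp : x ^ p = 1 := by rw [← hx]; exact pow_orderOf_eq_one x
  set q := Nat.card (P : Subgroup G) with hq
  have hppart : ∀ z : G, (∃ k, orderOf z = p ^ k) → IsPPart p z z := fun z hz =>
    ⟨1, mul_one z, Commute.one_right z, hz, by
      rw [orderOf_one]; exact fun h => hp.out.one_lt.ne' (Nat.dvd_one.1 h)⟩
  -- hypotheses
  have hcov : ∀ y : G, orderOf y = p → ∃ a : (ZMod p)ˣ, IsConj y (xp x a) := by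
    intro y hy
    obtain ⟨S, hS⟩ := exists_sylow_of_pow (p := p) (z := y) (k := 1)
      (by rw [pow_one, ← hy]; exact pow_orderOf_eq_one y)
    obtain ⟨g, hg⟩ := MulAction.exists_smul_eq G S P
    have h1 : g * y * g⁻¹ ∈ (P : Subgroup G) := by
      rw [← hg]; exact ⟨y, hS, by simp⟩
    have h2 : orderOf (g * y * g⁻¹) = p := by
      rw [← hy]
      exact orderOf_injective (MulAut.conj g).toMonoidHom (MulAut.conj g).injective y
    haveI := hPc
    have h4 : (⟨g * y * g⁻¹, h1⟩ : (P : Subgroup G)) ∈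
        Subgroup.zpowers (⟨x, hxP⟩ : (P : Subgroup G)) := by
      refine mem_zpowers_of_cyclic hp.out.pos (by rw [Subgroup.orderOf_mk, hx]) ?_
      apply Subtype.ext
      show (g * y * g⁻¹) ^ p = 1
      rw [← h2, pow_orderOf_eq_one]
    obtain ⟨i, hi⟩ := h4
    have h5 : x ^ i = g * y * g⁻¹ := congrArg Subtype.val hi
    have h6 : IsUnit ((i : ℤ) : ZMod p) := by
      rw [isUnit_iff_ne_zero, Ne, ZMod.intCast_zmod_eq_zero_iff_dvd]
      rintro ⟨j, rfl⟩
      rw [zpow_mul, zpow_natCast, ← hx, pow_orderOf_eq_one, one_zpow] at h5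
      rw [← h5, orderOf_one] at h2
      exact hp.out.one_lt.ne h2
    refine ⟨h6.unit, isConj_iff.2 ⟨g, ?_⟩⟩
    rw [← h5]
    unfold xp
    rw [← zpow_natCast, zpow_eq_zpow_iff_modEq, hx]
    rw [← ZMod.intCast_eq_intCast_iff]
    simp
  have hH : CHyp p x := ⟨hx, hcov, core_of_cyclic P hPc hxP hx1⟩
  have hqdef := Sylow.card_eq_multiplicity P
  have hPC : (P : Subgroup G) ≤ Subgroup.centralizer ({x} : Set G) := by
    intro y hy
    rw [Subgroup.mem_centralizer_singleton_iff]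
    exact hPab y hy x hxP
  have hqC : p ^ (Nat.card (Subgroup.centralizer ({x} : Set G))).factorization p = q := by
    apply le_antisymm
    · rw [hq, hqdef]
      refine Nat.pow_le_pow_right hp.out.pos ?_
      exact (Nat.factorization_le_iff_dvd Nat.card_pos.ne' Nat.card_pos.ne').2
        (Subgroup.card_subgroup_dvd_card _) p
    · refine Nat.le_of_dvd (pow_pos hp.out.pos _) ?_
      have h1 : p ^ (Nat.card G).factorization p ∣
          Nat.card (Subgroup.centralizer ({x} : Set G)) := by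
        rw [← hqdef]
        exact Subgroup.card_dvd_of_le hPC
      rw [hq, hqdef]
      exact pow_dvd_pow _ ((hp.out.pow_dvd_iff_le_factorization Nat.card_pos.ne').1 h1)
  -- the inertial index
  set m := (Subgroup.centralizer ((P : Subgroup G) : Set G)).relIndex
      (Subgroup.normalizer ((P : Subgroup G) : Set G)) with hm
  have hmdvd : m ∣ p - 1 := relIndex_dvd P hPc
  have hmp : m ≤ p - 1 := Nat.le_of_dvd (by omega) hmdvd
  have hm0 : m ≠ 0 := by
    intro h
    rw [h] at hmdvd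
    have := Nat.eq_zero_of_zero_dvd hmdvd
    omega
  have hm1 : m ≠ 1 := by
    intro h
    exact hnpc (Transfer.hasNPC_of_normalizer_le_centralizer P (Subgroup.relIndex_eq_one.1 h))
  have hee : m ≤ ee p x := relIndex_le_ee P hPc hx hxP
  have hpq : p ≤ q := by
    rw [hn]; exact Nat.le_self_pow hn0 p
  by_cases hmq : m + 1 < q
  swap
  · -- one class
    have h1 : m = p - 1 := by omega
    have h2 : q = p := by omega
    have hn1 : n = 1 := by
      have : p ^ n = p ^ 1 := by rw [← hn, h2, pow_one]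
      exact Nat.pow_right_injective hp.out.two_le this
    have h3 : ∀ c : (ZMod p)ˣ, IsConj x (xp x c) := by
      have h4 : (Finset.univ.filter (fun b : (ZMod p)ˣ => IsConj x (xp x b))) = Finset.univ := by
        apply Finset.eq_univ_of_card
        apply le_antisymm (Finset.card_le_univ _)
        rw [ZMod.card_units p, ← h1]
        refine hee.trans (le_of_eq ?_)
        unfold ee
        congr
      intro c
      have h5 : c ∈ (Finset.univ.filter (fun b : (ZMod p)ˣ => IsConj x (xp x b))) := by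
        rw [h4]; exact Finset.mem_univ c
      exact (Finset.mem_filter.1 h5).2
    refine one_class_false hp2 P hPab ?_ hxP hx ?_ hH.core (fun y hy => hs x y hx hy)
    · intro a ha
      have h4 : (⟨a, ha⟩ : (P : Subgroup G)) ^ q = 1 := pow_card_eq_one'
      rw [h2] at h4
      exact congrArg Subtype.val h4
    · intro y hy
      obtain ⟨c, hc⟩ := hcov y hy
      exact (h3 c).trans hc.symm
  have hmC : IsMulCommutative (P : Subgroup G) :=
    ⟨⟨fun a b => Subtype.ext (hPab a a.2 b b.2)⟩⟩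
  obtain ⟨s, X, Y, hsm, hB, hdisj, hX, hY, ⟨χ₁, hχ₁X, hχ₁⟩, a, d, δ, ζ, hδ, hXa, hζY, hYζ, -, hζv, hsq,
    hreg, hrel⟩ := Cfsg.Agent.S4709.result p M hM P hmC (by omega) m (by omega) hmq rfl
      (exists_gen_normalizer hp2 P hPc) (by
        intro y hy hy1
        ext g
        constructor
        · rintro ⟨h1, h2⟩
          exact mem_centralizer_of_commute P hPc h2 hy hy1
            (Subgroup.mem_centralizer_singleton_iff.1 h1)
        · intro h1
          rw [Subgroup.mem_centralizer_iff] at h1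
          refine ⟨Subgroup.mem_centralizer_singleton_iff.2 (h1 y hy).symm, ?_⟩
          exact (Subgroup.mem_normalizer_iff (H := (P : Subgroup G)) (g := g)).2 (by
            intro z
            constructor
            · intro hz
              rw [← h1 z hz, mul_inv_cancel_right]; exact hz
            · intro hz
              have e1 := h1 _ hz
              have e2 : g * z * g⁻¹ = z := by
                have e3 : g⁻¹ * (g * z * g⁻¹ * g) = g⁻¹ * (g * (g * z * g⁻¹)) := by rw [e1]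
                have e4 : g⁻¹ * (g * z * g⁻¹ * g) = z := by group
                have e5 : g⁻¹ * (g * (g * z * g⁻¹)) = g * z * g⁻¹ := by group
                rw [e4, e5] at e3
                exact e3.symm
              rwa [e2] at hz))
  rw [finsum_mem_eq_finite_toFinset_sum _ X.toFinite] at hsq
  set Xf := X.toFinite.toFinset with hXf
  have hmemX : ∀ χ, χ ∈ Xf ↔ χ ∈ X := fun χ => Set.Finite.mem_toFinset _
  have hχ₁' : χ₁ = oneIrr G := Subtype.ext hχ₁
  rw [hχ₁'] at hχ₁X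
  have hxpP : ∀ c : (ZMod p)ˣ, xp x c ∈ (P : Subgroup G) := fun c => Subgroup.pow_mem _ hxP _
  have hxp1 : ∀ c : (ZMod p)ˣ, xp x c ≠ 1 := by
    intro c h
    have h1 := orderOf_xp hx c
    rw [h, orderOf_one] at h1
    exact hp.out.one_lt.ne h1
  have hxpk : ∀ c : (ZMod p)ˣ, ∃ k, orderOf (xp x c) = p ^ k := fun c => ⟨1, by
    rw [orderOf_xp hx, pow_one]⟩
  have hPk : ∀ y ∈ (P : Subgroup G), ∃ k, orderOf y = p ^ k := by
    intro y hy
    obtain ⟨k, hk⟩ := IsPGroup.iff_orderOf.1 P.isPGroup' ⟨y, hy⟩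
    exact ⟨k, by rwa [Subgroup.orderOf_mk] at hk⟩
  have hTX : ∀ χ ∈ X, TT p x (χ : G → ℂ) = ((((p : ℤ) - 1) * a χ : ℤ) : ℂ) := by
    intro χ hχ
    unfold TT
    rw [Finset.sum_congr rfl fun c _ => (hXa χ hχ).2 (xp x c) (xp x c) (hppart _ (hxpk c)) (hxpP c) (hxp1 c),
      Finset.sum_const, Finset.card_univ, ZMod.card_units p, nsmul_eq_mul, Nat.cast_sub hp.out.one_lt.le]
    push_cast
    ring
  have hdX : ∀ χ ∈ X, (q : ℤ) ∣ H75.deg χ - a χ := by
    intro χ hχ
    have h1 : ∀ y ∈ (P : Subgroup G), y ≠ 1 → (χ : G → ℂ) y = a χ := fun y hy hy1 =>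
      (hXa χ hχ).2 y y (hppart _ (hPk y hy)) hy hy1
    obtain ⟨b, hb, hb2⟩ := int_val_of_const (P : Subgroup G) (by omega) (irr_isCharacter χ)
      (H75.deg_spec χ) (fun y hy hy1 => (h1 y hy hy1).trans (h1 x hxP hx1).symm)
    have h2 : b = a χ := by
      rw [h1 x hxP hx1] at hb
      exact_mod_cast hb.symm
    rwa [h2] at hb2
  have ha1 : a (oneIrr G) = 1 := by
    have h1 := (hXa _ hχ₁X).2 x x (hppart _ ⟨1, by rw [hx, pow_one]⟩) hxP hx1
    rw [oneIrr_apply] at h1
    exact_mod_cast h1.symm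
  have hd1 : H75.deg (oneIrr G) = 1 := by
    have := H75.deg_spec (oneIrr G)
    rw [oneIrr_apply] at this
    exact_mod_cast this.symm
  set SX : ℤ := ∑ χ ∈ Xf, a χ ^ 2 with hSXdef
  have hSX : 1 ≤ SX := by
    have h1 : a (oneIrr G) ^ 2 ≤ SX :=
      Finset.single_le_sum (f := fun χ => a χ ^ 2) (fun χ _ => sq_nonneg _) ((hmemX _).2 hχ₁X)
    rw [ha1] at h1
    linarith
  -- the number `r`
  have hmq' : m ∣ q - 1 := by
    refine hmdvd.trans ?_
    rw [hn]
    exact Nat.sub_one_dvd_pow_sub_one p n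
  obtain ⟨r, hr⟩ := hmq'
  have hrdiv : (q - 1) / m = r := by
    rw [hr]; exact Nat.mul_div_cancel_left r (by omega)
  have hrZ : (r : ℤ) * m = q - 1 := by
    have : ((q - 1 : ℕ) : ℤ) = (q : ℤ) - 1 := by
      rw [Nat.cast_sub (by omega)]; simp
    rw [← this, hr]; push_cast; ring
  have hrdivZ : ((q : ℤ) - 1) / m = r := by
    rw [← hrZ]
    exact Int.mul_ediv_cancel _ (by exact_mod_cast hm0)
  rw [← hq, hrdivZ] at hsq
  rw [← hq, hrdiv] at hY
  rw [← hq, hrdiv] at hrel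
  have hr0 : 0 < r := by
    rcases Nat.eq_zero_or_pos r with h | h
    · rw [h, mul_zero] at hr; omega
    · exact h
  obtain ⟨⟨η₀, hη₀⟩⟩ : Nonempty Y := by
    by_contra h
    rw [not_nonempty_iff] at h
    haveI := h
    rw [Nat.card_of_isEmpty] at hY
    omega
  set D := H75.deg η₀ with hD
  have hDY : ∀ η ∈ Y, H75.deg η = D := by
    intro η hη
    have h1 := hreg η hη η₀ hη₀ 1 (by
      rw [orderOf_one]; exact fun h => hp.out.one_lt.ne' (Nat.dvd_one.1 h))
    rw [H75.deg_spec, H75.deg_spec] at h1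
    exact_mod_cast h1
  have hD0 : 0 < D := H75.deg_pos η₀
  have hrel1 := hrel η₀ hη₀ 1 (by
      rw [orderOf_one]; exact fun h => hp.out.one_lt.ne' (Nat.dvd_one.1 h))
  rw [finsum_mem_eq_finite_toFinset_sum _ X.toFinite, H75.deg_spec] at hrel1
  set SXd : ℤ := ∑ χ ∈ Xf, a χ * H75.deg χ with hSXd
  have hrel2 : ((r : ℤ) * d - δ) * D + SXd = 0 := by
    have h1 : ((((r : ℤ) * d - δ) * D + SXd : ℤ) : ℂ) = ((0 : ℤ) : ℂ) := by
      rw [hSXd]
      push_cast
      rw [← hrel1]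
      congr 1
      refine Finset.sum_congr rfl fun χ _ => ?_
      rw [H75.deg_spec]
    exact_mod_cast h1
  have hSd : (q : ℤ) ∣ SXd - SX := by
    rw [hSXd, hSXdef, ← Finset.sum_sub_distrib]
    refine Finset.dvd_sum fun χ hχ => ?_
    have h1 := hdX χ ((hmemX χ).1 hχ)
    have h2 : a χ * H75.deg χ - a χ ^ 2 = a χ * (H75.deg χ - a χ) := by ring
    rw [h2]
    exact h1.mul_left _
  have hδ2 : δ ^ 2 = 1 := by rcases hδ with rfl | rfl <;> norm_num
  have hmain := arith_dvd hδ2 hrZ hsq hrel2 hSd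
  have hv : ∀ ψ : (P : Subgroup G) →* ℂˣ, ψ ≠ 1 → ∀ y : (P : Subgroup G), (y : G) ≠ 1 →
      (∃ k, orderOf (y : G) = p ^ k) →
      (ζ ψ : G → ℂ) y = (d : ℂ) + (δ : ℂ) * ∑ᶠ ψ' ∈ cSet (P : Subgroup G) ψ, ((ψ' y : ℂˣ) : ℂ) :=
    fun ψ hψ y hy1 hyk => hζv ψ hψ y y (hppart _ hyk) hy1
  have hTY : ∀ η ∈ Y, ∃ (s k : ℕ), 1 ≤ s ∧ s ≤ m ∧ k ≤ s ∧ (n = 1 → k = 0) ∧
      TT p x (η : G → ℂ) = ((((p : ℤ) - 1) * d + δ * (p * k - s) : ℤ) : ℂ) := by
    intro η hη
    obtain ⟨ψ, hψ, rfl⟩ := hYζ η hη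
    refine ⟨(cFin (P : Subgroup G) ψ).card,
      ((cFin (P : Subgroup G) ψ).filter (fun ψ' => ψ' ⟨x, hxP⟩ = 1)).card, one_le_card_cFin _ _,
      card_cFin_le _ _, Finset.card_filter_le _ _, ?_, ?_⟩
    · intro hn1
      rw [Finset.card_eq_zero, Finset.filter_eq_empty_iff]
      intro ψ' hψ' h1
      refine hψ (eq_one_of_cSet (mem_cFin.1 hψ') (MonoidHom.ext fun y => ?_))
      haveI := hPc
      have h4 : y ∈ Subgroup.zpowers (⟨x, hxP⟩ : (P : Subgroup G)) := by
        refine mem_zpowers_of_cyclic hp.out.pos (by rw [Subgroup.orderOf_mk, hx]) ?_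
        have h5 : y ^ Nat.card (P : Subgroup G) = 1 := pow_card_eq_one'
        rwa [← hq, hn, hn1, pow_one] at h5
      obtain ⟨i, hi⟩ := h4
      rw [← hi]
      show ψ' ((⟨x, hxP⟩ : (P : Subgroup G)) ^ i) = _
      rw [map_zpow, h1, one_zpow]
      rfl
    · exact TT_eta (P : Subgroup G) hxP hx ψ (hv ψ hψ)
  have hYne : ∀ η ∈ Y, η ≠ oneIrr G := by
    rintro η hη rfl
    exact Set.disjoint_left.1 hdisj hχ₁X hη
  have hkey : ∃ κ : ℤ, ((κ = 2 ∧ (q : ℤ) = p ∧ 5 ≤ (p : ℤ)) ∨ (κ = 4 ∧ (p : ℤ) ^ 2 ≤ q)) ∧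
      ∀ η ∈ Y, ∃ T : ℤ, TT p x (η : G → ℂ) = (T : ℂ) ∧ κ * T ≤ ((p : ℤ) - 1) * D := by
    by_cases hn1 : n = 1
    · have hqp : q = p := by rw [hn, hn1, pow_one]
      have hmlt : m < p - 1 := by omega
      have hp5 : 5 ≤ p := by
        obtain ⟨j, hj⟩ := hmdvd
        have h1 : 2 ≤ j := by
          by_contra h2
          have h3 : j ≤ 1 := by omega
          interval_cases j <;> omega
        have h2 : 2 * 2 ≤ m * j := Nat.mul_le_mul (by omega) h1
        omega
      refine ⟨2, Or.inl ⟨rfl, by rw [hqp], by exact_mod_cast hp5⟩, fun η hη => ?_⟩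
      obtain ⟨s', k, hs1, hs2, hks, hk0, hT⟩ := hTY η hη
      refine ⟨_, hT, ?_⟩
      rw [hk0 hn1]
      have h1 := arithY_one (p := p) (m := m) (r := r) (d := d) (δ := δ) (D := D) (s := s') (SX := SX)
        (by omega) (by omega) (by rw [hrZ, hqp]) hδ hsq hSX (by exact_mod_cast hD0)
        (by exact_mod_cast hs1) (by exact_mod_cast hs2) (by
          intro f hf hf0 hf1 hf2
          have h2 := dvd_of_small (p := p) (n := 1) (f := f) (D := D) hf0 hf1 hf2 (by
            rw [pow_one, hf, ← hqp]; exact hmain)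
          rwa [pow_one] at h2)
      push_cast
      linarith
    · have hn2 : 2 ≤ n := by omega
      have hq2 : p ^ 2 ≤ q := by
        rw [hn]; exact Nat.pow_le_pow_right hp.out.pos hn2
      have hq2Z : (p : ℤ) ^ 2 ≤ q := by exact_mod_cast hq2
      have hd0 : d = 0 := arithY_two (p := p) (q := q) (m := m) (r := r) (δ := δ) (SX := SX)
        (by omega) hq2Z (by omega) (by omega) hrZ hsq hSX
      have hdvdD : (q : ℤ) ∣ D - m * δ := by
        have h1 := dvd_of_small (p := p) (n := n) (f := m * δ) (D := D)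
          (by rcases hδ with rfl | rfl <;> omega) (by rcases hδ with rfl | rfl <;> omega)
          (by rcases hδ with rfl | rfl <;> omega) (by
            rw [← hn]
            have := hmain
            rw [hd0, zero_add] at this
            exact this)
        rwa [← hn] at h1
      have hne : δ = 1 → (D : ℤ) ≠ m := by
        intro hδ1 hDm
        obtain ⟨ψ, hψ, -⟩ := hYζ η₀ hη₀
        obtain ⟨ψ₀, hψ₀, hψ₀x⟩ := exists_char_trivial hPc hn hn2 (x := ⟨x, hxP⟩)
          (Subtype.ext hxp) hψ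
        have h1 := eta_dvd (P : Subgroup G) P.isPGroup' ψ₀ hψ₀ (irr_isCharacter (ζ ψ₀))
          (H75.deg_spec (ζ ψ₀)) (hv ψ₀ hψ₀)
        rw [hDY _ (hζY ψ₀ hψ₀), hDm, hd0, hδ1, ← hq] at h1
        have h2 := one_le_card_cFin (P : Subgroup G) ψ₀
        have h3 := card_cFin_le (P : Subgroup G) ψ₀
        rw [← hm] at h3
        set c₀ := (cFin (P : Subgroup G) ψ₀).card with hc₀
        have h4 : (c₀ : ℤ) = m := by
          have h5 : (q : ℤ) ∣ m - c₀ := by
            have h6 : (m : ℤ) + ((q : ℤ) - 1) * 0 - 1 * c₀ = m - c₀ := by ring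
            rwa [h6] at h1
          have h6 := Int.eq_zero_of_abs_lt_dvd h5 (by
            rw [abs_lt]
            constructor <;> omega)
          omega
        -- `x` is in the kernel
        have h5 : (ζ ψ₀ : G → ℂ) x = (ζ ψ₀ : G → ℂ) 1 := by
          have h6 := hv ψ₀ hψ₀ ⟨x, hxP⟩ hx1 ⟨1, by rw [pow_one]; exact hx⟩
          rw [H75.deg_spec, hDY _ (hζY ψ₀ hψ₀)]
          show (ζ ψ₀ : G → ℂ) ((⟨x, hxP⟩ : (P : Subgroup G)) : G) = _
          rw [h6, finsum_cSet, hd0, hδ1]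
          have h7 : ∀ ψ' ∈ cFin (P : Subgroup G) ψ₀, ((ψ' ⟨x, hxP⟩ : ℂˣ) : ℂ) = 1 := by
            intro ψ' hψ'
            obtain ⟨g, hg, hw⟩ := mem_cFin.1 hψ'
            have h8 : g⁻¹ * x * g ∈ (P : Subgroup G) := by
              have := ((Subgroup.mem_normalizer_iff.1 (Subgroup.inv_mem _ hg)) x).1 hxP
              rwa [inv_inv] at this
            rw [hw ⟨_, h8⟩ ⟨x, hxP⟩ (by show x = g * (g⁻¹ * x * g) * g⁻¹; group)]
            haveI := hPc
            have h9 : (⟨_, h8⟩ : (P : Subgroup G)) ∈ Subgroup.zpowers (⟨x, hxP⟩ : (P : Subgroup G)) := by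
              refine mem_zpowers_of_cyclic hp.out.pos (by rw [Subgroup.orderOf_mk, hx]) ?_
              apply Subtype.ext
              show (g⁻¹ * x * g) ^ p = 1
              have : g⁻¹ * x * g = g⁻¹ * x * g⁻¹⁻¹ := by rw [inv_inv]
              rw [this, conj_pow, hxp]; group
            obtain ⟨i, hi⟩ := h9
            rw [← hi]
            show ((ψ₀ ((⟨x, hxP⟩ : (P : Subgroup G)) ^ i) : ℂˣ) : ℂ) = 1
            rw [map_zpow, hψ₀x, one_zpow, Units.val_one]
          rw [Finset.sum_congr rfl h7, Finset.sum_const, nsmul_eq_mul, ← hc₀]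
          have h8 : ((c₀ : ℤ) : ℂ) = ((D : ℤ) : ℂ) := by rw [h4, hDm]
          push_cast at h8 ⊢
          rw [h8]; ring
        have h6 : x ∈ H4.charKer (ζ ψ₀) := by rw [H4.mem_charKer, h5]
        rcases (inferInstance : (H4.charKer (ζ ψ₀)).Normal).eq_bot_or_eq_top with h7 | h7
        · rw [h7, Subgroup.mem_bot] at h6
          exact hx1 h6
        · exact H4.charKer_ne_top (hYne _ (hζY ψ₀ hψ₀)) h7
      refine ⟨4, Or.inr ⟨rfl, hq2Z⟩, fun η hη => ?_⟩
      obtain ⟨s', k, hs1, hs2, hks, -, hT⟩ := hTY η hη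
      refine ⟨_, hT, ?_⟩
      rw [hd0]
      have h1 := arithY_two' (p := p) (q := q) (m := m) (δ := δ) (D := D) (s := s') (k := k)
        (by omega) hq2Z (by omega) (by omega) hδ (by exact_mod_cast hD0) (by exact_mod_cast hs1)
        (by exact_mod_cast hs2) (by positivity) (by exact_mod_cast hks) hne hdvdD
      linarith
  obtain ⟨κ, hκ, hκY⟩ := hkey
  have hbound : ∀ χ : IrrCharacter G, χ ∈ principalBlock M G → χ ≠ oneIrr G →
      ∃ T : ℤ, TT p x (χ : G → ℂ) = (T : ℂ) ∧ κ * T ≤ ((p : ℤ) - 1) * H75.deg χ := by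
    intro χ hχ hχ1
    rw [hB] at hχ
    rcases hχ with hχ | hχ
    · refine ⟨_, hTX χ hχ, ?_⟩
      have h1 : a χ ^ 2 + 1 ≤ SX := by
        have h2 : ∑ χ ∈ ({χ, oneIrr G} : Finset (IrrCharacter G)), a χ ^ 2 ≤ SX := by
          refine Finset.sum_le_sum_of_subset_of_nonneg ?_ (fun _ _ _ => sq_nonneg _)
          intro θ hθ
          rw [Finset.mem_insert, Finset.mem_singleton] at hθ
          rcases hθ with rfl | rfl
          · exact (hmemX _).2 hχ
          · exact (hmemX _).2 hχ₁X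
        rw [Finset.sum_pair hχ1, ha1] at h2
        linarith
      have h2 : a χ ^ 2 ≤ m := by
        have h3 : 0 ≤ ((r : ℤ) - 1) * d ^ 2 := mul_nonneg (by omega) (sq_nonneg _)
        nlinarith [sq_nonneg (d - δ)]
      have h3 : (H75.deg χ : ℤ) ≠ a χ := by
        intro h4
        have h5 : x ∈ H4.charKer χ := by
          rw [H4.mem_charKer, (hXa χ hχ).2 x x (hppart _ ⟨1, by rw [hx, pow_one]⟩) hxP hx1,
            H75.deg_spec, ← h4]
          simp
        rcases (inferInstance : (H4.charKer χ).Normal).eq_bot_or_eq_top with h6 | h6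
        · rw [h6, Subgroup.mem_bot] at h5
          exact hx1 h5
        · exact H4.charKer_ne_top hχ1 h6
      exact arithX (p := p) (q := q) (m := m) (by omega) (by omega) h2
        (by
          rcases hκ with ⟨h4, h5, -⟩ | ⟨h4, h5⟩
          · exact Or.inl ⟨h4, h5.ge⟩
          · exact Or.inr ⟨h4, h5⟩) (by exact_mod_cast H75.deg_pos χ) h3 (hdX χ hχ)
    · obtain ⟨T, hT, hT2⟩ := hκY χ hχ
      exact ⟨T, hT, by rw [hDY χ hχ]; exact hT2⟩
  have hT1 : TT p x ((oneIrr G : IrrCharacter G) : G → ℂ) = (((p : ℤ) - 1 : ℤ) : ℂ) := by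
    rw [hTX _ hχ₁X, ha1, mul_one]
  have hTre : ∀ χ : IrrCharacter G, χ ∈ principalBlock M G →
      TT p x (χ : G → ℂ) = (((TT p x (χ : G → ℂ)).re : ℝ) : ℂ) := by
    intro χ hχ
    rcases eq_or_ne χ (oneIrr G) with rfl | hne
    · rw [hT1]; simp
    · obtain ⟨T, hT, -⟩ := hbound χ hχ hne
      rw [hT]; simp
  set B : Finset (IrrCharacter G) := Finset.univ.filter (fun χ => χ ∈ principalBlock M G) with hBdef
  have hone : oneIrr G ∈ B := by
    rw [hBdef, Finset.mem_filter]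
    exact ⟨Finset.mem_univ _, Blk.oneIrr_mem_principalBlock⟩
  have hS2 := sum_sq hM hH
  have hS3 := cubic_le hM hH P hPab (fun y hy => hs x y hx hy)
    (fun χ => (TT p x (χ : G → ℂ)).re) hTre (fun χ => (H75.deg χ : ℝ)) (fun χ => by
      rw [H75.deg_spec]; simp)
  rw [hqC] at hS2 hS3
  rw [← Finset.sum_filter] at hS2 hS3
  have hS2' : ∑ χ ∈ B, (TT p x (χ : G → ℂ)).re ^ 2 = (q : ℝ) * (ee p x : ℝ) * ((p : ℝ) - 1) := by
    have h1 : ((∑ χ ∈ B, (TT p x (χ : G → ℂ)).re ^ 2 : ℝ) : ℂ) =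
        (((q : ℝ) * (ee p x : ℝ) * ((p : ℝ) - 1) : ℝ) : ℂ) := by
      rw [Complex.ofReal_sum]
      push_cast
      rw [Nat.cast_sub hp.out.one_lt.le, Nat.cast_one] at hS2
      rw [← hS2]
      refine Finset.sum_congr rfl fun χ hχ => ?_
      rw [Finset.mem_filter] at hχ
      rw [← hTre χ hχ.2]
    exact_mod_cast h1
  have hpR : (3 : ℝ) ≤ p := by exact_mod_cast hp3
  have hfin := final_ineq B hone (fun χ => (TT p x (χ : G → ℂ)).re) (fun χ => (H75.deg χ : ℝ))
    (p := p) (Q := (q : ℝ) * (ee p x : ℝ)) (κ := κ) (by linarith)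
    (by rcases hκ with ⟨h, -⟩ | ⟨h, -⟩ <;> rw [h] <;> norm_num)
    (fun χ _ => by exact_mod_cast H75.deg_pos χ) (by rw [hT1]; simp) (by rw [hd1]; simp) hS2' hS3
    (by
      intro χ hχ hne
      rw [hBdef, Finset.mem_filter] at hχ
      obtain ⟨T, hT, hT2⟩ := hbound χ hχ.2 hne
      rw [hT]
      simp only [Complex.intCast_re]
      exact_mod_cast hT2)
  have heR : (2 : ℝ) ≤ ee p x := by
    have : 2 ≤ ee p x := by omega
    exact_mod_cast this
  rcases hκ with ⟨h1, h2, h3⟩ | ⟨h1, h2⟩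
  · have h2' : (q : ℝ) = p := by exact_mod_cast h2
    have h3' : (5 : ℝ) ≤ p := by exact_mod_cast h3
    rw [h1, h2'] at hfin
    push_cast at hfin
    have h4 : (p : ℝ) * (ee p x : ℝ) * (p - 3) ≤ (p - 1) ^ 2 := by nlinarith
    have h5 : (p : ℝ) * 2 * (p - 3) ≤ (p : ℝ) * (ee p x : ℝ) * (p - 3) :=
      mul_le_mul_of_nonneg_right (mul_le_mul_of_nonneg_left heR (by linarith)) (by linarith)
    nlinarith
  · have h2' : (p : ℝ) ^ 2 ≤ q := by exact_mod_cast h2
    rw [h1] at hfin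
    push_cast at hfin
    have h4 : (q : ℝ) * (ee p x : ℝ) * (3 * p - 7) ≤ 3 * (p - 1) ^ 2 := by nlinarith
    have h5 : (p : ℝ) ^ 2 * 2 ≤ (q : ℝ) * (ee p x : ℝ) :=
      mul_le_mul h2' heR (by norm_num) (by positivity)
    have h6 : (p : ℝ) ^ 2 * 2 * (3 * p - 7) ≤ (q : ℝ) * (ee p x : ℝ) * (3 * p - 7) :=
      mul_le_mul_of_nonneg_right h5 (by linarith)
    nlinarith

end Cfsg.Agent.H33
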