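import Cfsg.Agent.H33.CycCount
import Mathlib.RingTheory.ZMod.UnitsCyclic
import Mathlib.GroupTheory.Transfer

set_option autoImplicit false
set_option linter.all false

/-! The normalizer of a cyclic Sylow subgroup (helper33). -/

namespace Cfsg.Agent.H33

open Cfsg

universe u

theorem cyc_centralize {G : Type u} [Group G] [Finite G] {p : ℕ} [hp : Fact p.Prime] (P : Subgroup G)
    (hPp : IsPGroup p P) (hPc : IsCyclic P) {g y : G}
    (hg : g ∈ Subgroup.normalizer (P : Set G)) (hgo : ¬ p ∣ orderOf g)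
    (hy : y ∈ P) (hy1 : y ≠ 1) (hc : g * y = y * g) : g ∈ Subgroup.centralizer (P : Set G) := by
  obtain ⟨⟨c, hcP⟩, hgen⟩ := hPc.exists_generator
  have hgen' : ∀ z ∈ P, ∃ k : ℤ, c ^ k = z := by
    intro z hz
    obtain ⟨k, hk⟩ := hgen ⟨z, hz⟩
    exact ⟨k, congrArg Subtype.val hk⟩
  obtain ⟨k, hk⟩ := hgen' _ (((Subgroup.mem_normalizer_iff.1 hg) c).1 hcP)
  obtain ⟨j, rfl⟩ := hgen' y hy
  obtain ⟨n, hn⟩ := IsPGroup.iff_card.1 hPp
  have hcn : c ^ p ^ n = 1 := by
    rw [← hn]
    have : (⟨c, hcP⟩ : P) ^ Nat.card P = 1 := pow_card_eq_one'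
    exact congrArg Subtype.val this
  have hk1 : (p : ℤ) ∣ k - 1 := by
    have h1 : (c ^ j) ^ (k - 1) = 1 := by
      have h2 : g * c ^ j * g⁻¹ = (c ^ j) ^ k := by
        rw [← conj_zpow, ← hk, ← zpow_mul, ← zpow_mul, mul_comm]
      rw [hc, mul_inv_cancel_right] at h2
      rw [zpow_sub, zpow_one, ← h2, mul_inv_cancel]
    rw [← orderOf_dvd_iff_zpow_eq_one] at h1
    have h3 : orderOf (c ^ j) ∣ p ^ n := by
      rw [orderOf_dvd_iff_pow_eq_one, ← zpow_natCast, ← zpow_mul, mul_comm, zpow_mul, zpow_natCast,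
        hcn, one_zpow]
    obtain ⟨i, -, hi⟩ := (Nat.dvd_prime_pow hp.out).1 h3
    have hi0 : i ≠ 0 := by
      rintro rfl
      rw [pow_zero, orderOf_eq_one_iff] at hi
      exact hy1 hi
    rw [hi] at h1
    refine dvd_trans ?_ h1
    exact_mod_cast dvd_pow_self p hi0
  have hconj : ∀ m : ℕ, g ^ m * c * (g ^ m)⁻¹ = c ^ (k ^ m) := by
    intro m
    induction m with
    | zero => simp
    | succ m ih =>
      have h1 : g ^ (m + 1) * c * (g ^ (m + 1))⁻¹ = g * (g ^ m * c * (g ^ m)⁻¹) * g⁻¹ := by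
        rw [pow_succ']; group
      rw [h1, ih, ← conj_zpow, ← hk, ← zpow_mul, pow_succ']
  have h1 : g ^ p ^ n * c * (g ^ p ^ n)⁻¹ = c := by
    rw [hconj]
    have h2 := dvd_sub_pow_of_dvd_sub (p := p) (a := k) (b := 1) (by simpa using hk1) n
    rw [one_pow] at h2
    obtain ⟨l, hl⟩ := h2
    have h3 : k ^ p ^ n = 1 + (p : ℤ) ^ n * (p * l) := by
      rw [pow_succ] at hl
      linarith
    rw [h3, zpow_add, zpow_one, zpow_mul]
    have h4 : c ^ ((p : ℤ) ^ n) = 1 := by
      rw [← Nat.cast_pow, zpow_natCast, hcn]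
    rw [h4, one_zpow, mul_one]
  have h2 : Commute (g ^ p ^ n) c := by
    have : g ^ p ^ n * c = c * g ^ p ^ n := by
      calc g ^ p ^ n * c = g ^ p ^ n * c * (g ^ p ^ n)⁻¹ * g ^ p ^ n := by group
        _ = c * g ^ p ^ n := by rw [h1]
    exact this
  have h3 : Commute g c := by
    have hcop : (orderOf g).Coprime (p ^ n) :=
      (Nat.Coprime.pow_left n ((Nat.Prime.coprime_iff_not_dvd hp.out).mpr hgo)).symm
    obtain ⟨m, hm⟩ := exists_pow_eq_self_of_coprime hcop.symm
    rw [← hm]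
    exact h2.pow_left m
  rw [Subgroup.mem_centralizer_iff]
  intro z hz
  obtain ⟨i, rfl⟩ := hgen' z hz
  exact ((h3.zpow_right i).eq).symm

/-- `C_G(y) ∩ N_G(P) = C_G(P)` for a cyclic Sylow subgroup `P` and `1 ≠ y ∈ P` -/
theorem mem_centralizer_of_commute {G : Type u} [Group G] [Finite G] {p : ℕ} [hp : Fact p.Prime]
    (P : Sylow p G) (hPc : IsCyclic (P : Subgroup G)) {g y : G}
    (hg : g ∈ Subgroup.normalizer ((P : Subgroup G) : Set G))
    (hy : y ∈ (P : Subgroup G)) (hy1 : y ≠ 1) (hc : g * y = y * g) :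
    g ∈ Subgroup.centralizer ((P : Subgroup G) : Set G) := by
  obtain ⟨a, b, hab, -, ⟨k, hk⟩, hb, haz, hbz⟩ := BlkInd.exists_decomp hp.out g
  have hgz : Subgroup.zpowers g ≤ Subgroup.normalizer ((P : Subgroup G) : Set G) :=
    Subgroup.zpowers_le.2 hg
  have hbC : b ∈ Subgroup.centralizer ((P : Subgroup G) : Set G) := by
    refine cyc_centralize (P : Subgroup G) P.isPGroup' hPc (hgz hbz) hb hy hy1 ?_
    obtain ⟨i, rfl⟩ := hbz
    exact (Commute.zpow_left (show Commute g y from hc) i).eq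
  have haP : a ∈ (P : Subgroup G) := by
    have h1 : IsPGroup p (Subgroup.zpowers a) := by
      apply IsPGroup.of_card (n := k)
      rw [Nat.card_zpowers, hk]
    have h2 : a ∈ Subgroup.zpowers a ⊓ Subgroup.normalizer ((P : Subgroup G) : Set G) :=
      ⟨Subgroup.mem_zpowers a, hgz haz⟩
    exact (h1.inf_normalizer_sylow P ▸ h2 : a ∈ Subgroup.zpowers a ⊓ (P : Subgroup G)).2
  have hPcomm : IsMulCommutative (P : Subgroup G) := by
    haveI := hPc
    exact ⟨⟨fun a b => IsCyclic.commGroup.mul_comm a b⟩⟩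
  have haC : a ∈ Subgroup.centralizer ((P : Subgroup G) : Set G) := by
    rw [Subgroup.mem_centralizer_iff]
    intro z hz
    have := hPcomm.is_comm.comm (⟨z, hz⟩ : (P : Subgroup G)) ⟨a, haP⟩
    exact congrArg Subtype.val this
  rw [← hab]
  exact Subgroup.mul_mem _ haC hbC

theorem comm_of_cyclic {G : Type u} [Group G] {P : Subgroup G} (hPc : IsCyclic P) :
    ∀ a ∈ P, ∀ b ∈ P, a * b = b * a := by
  intro a ha b hb
  haveI := hPc
  have : (⟨a, ha⟩ : P) * ⟨b, hb⟩ = ⟨b, hb⟩ * ⟨a, ha⟩ := IsCyclic.commGroup.mul_comm _ _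
  exact congrArg Subtype.val this

/-- centralizers of nonidentity elements of a cyclic Sylow subgroup are `p`-nilpotent -/
theorem core_of_cyclic {G : Type u} [Group G] [Finite G] {p : ℕ} [hp : Fact p.Prime]
    (P : Sylow p G) (hPc : IsCyclic (P : Subgroup G)) {y : G}
    (hy : y ∈ (P : Subgroup G)) (hy1 : y ≠ 1) :
    ∃ k, (Cfsg.pPrimeCore p (Subgroup.centralizer ({y} : Set G))).index = p ^ k := by
  set K := Subgroup.centralizer ({y} : Set G) with hK
  have hPK : (P : Subgroup G) ≤ K := by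
    intro z hz
    rw [hK, Subgroup.mem_centralizer_singleton_iff]
    exact comm_of_cyclic hPc z hz y hy
  set Q : Sylow p K := P.subtype hPK with hQ
  have hQc : (Q : Subgroup K) = (P : Subgroup G).subgroupOf K := rfl
  have hnpc : Cfsg.HasNormalPComplement p K := by
    refine Transfer.hasNPC_of_normalizer_le_centralizer Q ?_
    intro g hg
    have h1 : (g : G) ∈ Subgroup.normalizer ((P : Subgroup G) : Set G) := by
      rw [Subgroup.mem_normalizer_iff]
      intro z
      constructor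
      · intro hz
        have h2 : (⟨z, hPK hz⟩ : K) ∈ (Q : Subgroup K) := by
          rw [hQc, Subgroup.mem_subgroupOf]; exact hz
        have h3 := ((Subgroup.mem_normalizer_iff.1 hg) _).1 h2
        rw [hQc, Subgroup.mem_subgroupOf] at h3
        exact h3
      · intro hz
        have hzK : z ∈ K := by
          have h2 := K.mul_mem (K.mul_mem (K.inv_mem g.2) (hPK hz)) g.2
          have : (g : G)⁻¹ * (g * z * (g : G)⁻¹) * g = z := by group
          rwa [this] at h2
        have h2 : g * (⟨z, hzK⟩ : K) * g⁻¹ ∈ (Q : Subgroup K) := by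
          rw [hQc, Subgroup.mem_subgroupOf]; exact hz
        have h3 := ((Subgroup.mem_normalizer_iff.1 hg) _).2 h2
        rw [hQc, Subgroup.mem_subgroupOf] at h3
        exact h3
    have h2 := mem_centralizer_of_commute P hPc h1 hy hy1
      (Subgroup.mem_centralizer_singleton_iff.1 g.2)
    rw [Subgroup.mem_centralizer_iff] at h2 ⊢
    intro z hz
    apply Subtype.ext
    exact h2 z hz
  obtain ⟨N, hN, hcop, k, hk⟩ := Transfer.hasNPC_iff_exists.1 hnpc
  have hle : N ≤ Cfsg.pPrimeCore p K := Solv.le_pPrimeCore hN hcop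
  have h1 := Subgroup.index_dvd_of_le hle
  rw [hk] at h1
  obtain ⟨j, -, hj⟩ := (Nat.dvd_prime_pow hp.out).1 h1
  exact ⟨j, hj⟩

/-- the inertial quotient is cyclic -/
theorem exists_gen_normalizer {G : Type u} [Group G] [Finite G] {p : ℕ} [hp : Fact p.Prime]
    (hp2 : p ≠ 2) (P : Sylow p G) (hPc : IsCyclic (P : Subgroup G)) :
    ∃ g : G, g ∈ Subgroup.normalizer ((P : Subgroup G) : Set G) ∧
      Subgroup.centralizer ((P : Subgroup G) : Set G) ⊔ Subgroup.zpowers g =
        Subgroup.normalizer ((P : Subgroup G) : Set G) := by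
  obtain ⟨n, hn⟩ := IsPGroup.iff_card.1 P.isPGroup'
  haveI : IsCyclic (MulAut (P : Subgroup G)) := by
    haveI := hPc
    have h1 := IsCyclic.mulAutMulEquiv (P : Subgroup G)
    have h2 : IsCyclic (ZMod (Nat.card (P : Subgroup G)))ˣ := by
      rw [hn]; exact ZMod.isCyclic_units_of_prime_pow p hp.out hp2 n
    exact isCyclic_of_surjective h1.symm h1.symm.surjective
  set φ := (P : Subgroup G).normalizerMonoidHom with hφ
  obtain ⟨⟨r, g, hgr⟩, hr⟩ := (inferInstance : IsCyclic φ.range).exists_generator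
  refine ⟨g, g.2, le_antisymm (sup_le ?_ (Subgroup.zpowers_le.2 g.2)) ?_⟩
  · intro c hc
    rw [Subgroup.mem_normalizer_iff]
    rw [Subgroup.mem_centralizer_iff] at hc
    intro z
    constructor
    · intro hz
      rw [← hc z hz, mul_inv_cancel_right]; exact hz
    · intro hz
      have h1 := hc _ hz
      have h2 : c * z * c⁻¹ = z := by
        have h3 : c⁻¹ * (c * z * c⁻¹ * c) = c⁻¹ * (c * (c * z * c⁻¹)) := by rw [h1]
        have h4 : c⁻¹ * (c * z * c⁻¹ * c) = z := by group
        have h5 : c⁻¹ * (c * (c * z * c⁻¹)) = c * z * c⁻¹ := by group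
        rw [h4, h5] at h3
        exact h3.symm
      rwa [h2] at hz
  · intro h hh
    obtain ⟨i, hi⟩ := hr ⟨φ ⟨h, hh⟩, ⟨⟨h, hh⟩, rfl⟩⟩
    have h1 : φ g ^ i = φ ⟨h, hh⟩ := by
      have h2 := congrArg Subtype.val hi
      rw [hgr]
      exact h2
    have h2 : (⟨h, hh⟩ * (g ^ i)⁻¹ : Subgroup.normalizer ((P : Subgroup G) : Set G)) ∈ φ.ker := by
      rw [MonoidHom.mem_ker, map_mul, map_inv, map_zpow, h1, mul_inv_cancel]
    rw [hφ, Subgroup.normalizerMonoidHom_ker, Subgroup.mem_subgroupOf] at h2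
    have h3 : h = h * ((g : G) ^ i)⁻¹ * (g : G) ^ i := by group
    rw [h3]
    refine Subgroup.mul_mem_sup h2 (Subgroup.zpow_mem_zpowers _ i)

/-- `|N : C|` divides `p - 1` -/
theorem relIndex_dvd {G : Type u} [Group G] [Finite G] {p : ℕ} [hp : Fact p.Prime]
    (P : Sylow p G) (hPc : IsCyclic (P : Subgroup G)) :
    (Subgroup.centralizer ((P : Subgroup G) : Set G)).relIndex
      (Subgroup.normalizer ((P : Subgroup G) : Set G)) ∣ p - 1 := by
  haveI := hPc
  have key := Subgroup.card_dvd_of_injective _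
    (QuotientGroup.kerLift_injective (P : Subgroup G).normalizerMonoidHom)
  rw [Subgroup.normalizerMonoidHom_ker, ← Subgroup.index, ← Subgroup.relIndex] at key
  obtain ⟨k, hk⟩ := P.isPGroup'.exists_card_eq
  rcases Nat.eq_zero_or_pos k with h0 | h0
  · rw [hPc.card_mulAut, hk, h0, pow_zero, Nat.totient_one] at key
    exact key.trans (one_dvd _)
  rw [hPc.card_mulAut, hk, Nat.totient_prime_pow Fact.out h0] at key
  refine Nat.Coprime.dvd_of_dvd_mul_left ?_ key
  refine Nat.Coprime.pow_right _ ?_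
  haveI : IsMulCommutative (P : Subgroup G) :=
    ⟨⟨fun a b => Subtype.ext (comm_of_cyclic hPc a a.2 b b.2)⟩⟩
  apply Nat.Coprime.coprime_dvd_left (Subgroup.relIndex_dvd_of_le_left _ (P : Subgroup G).le_centralizer)
  apply Nat.Coprime.coprime_dvd_left (Subgroup.relIndex_dvd_index_of_le P.le_normalizer)
  rw [Nat.coprime_comm, Nat.Prime.coprime_iff_not_dvd Fact.out]
  exact P.not_dvd_index

theorem mem_zpowers_of_cyclic {Z : Type u} [Group Z] [Finite Z] [IsCyclic Z] {n : ℕ} (hn : 0 < n)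
    {x z : Z} (hx : orderOf x = n) (hz : z ^ n = 1) : z ∈ Subgroup.zpowers x := by
  classical
  haveI := Fintype.ofFinite Z
  have h1 := IsCyclic.card_pow_eq_one_le (α := Z) hn
  have h2 : (Finset.univ.filter (fun a : Z => a ∈ Subgroup.zpowers x)) ⊆
      (Finset.univ.filter (fun a : Z => a ^ n = 1)) := by
    intro a ha
    rw [Finset.mem_filter] at ha ⊢
    refine ⟨Finset.mem_univ _, ?_⟩
    obtain ⟨i, rfl⟩ := ha.2
    show (x ^ i) ^ n = 1
    rw [← zpow_natCast, ← zpow_mul, mul_comm, zpow_mul, zpow_natCast, ← hx, pow_orderOf_eq_one, one_zpow]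
  have h3 : (Finset.univ.filter (fun a : Z => a ∈ Subgroup.zpowers x)).card = n := by
    rw [← hx, ← Nat.card_zpowers, Nat.card_eq_fintype_card, Fintype.card_subtype]
  have h4 := Finset.eq_of_subset_of_card_le h2 (by rw [h3]; exact h1)
  have h5 : z ∈ (Finset.univ.filter (fun a : Z => a ^ n = 1)) := by
    rw [Finset.mem_filter]; exact ⟨Finset.mem_univ _, hz⟩
  rw [← h4, Finset.mem_filter] at h5
  exact h5.2

/-- `|N : C| ≤ |E|` -/
theorem relIndex_le_ee {G : Type u} [Group G] [Finite G] {p : ℕ} [hp : Fact p.Prime]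
    (P : Sylow p G) (hPc : IsCyclic (P : Subgroup G)) {x : G} (hx : orderOf x = p)
    (hxP : x ∈ (P : Subgroup G)) :
    (Subgroup.centralizer ((P : Subgroup G) : Set G)).relIndex
      (Subgroup.normalizer ((P : Subgroup G) : Set G)) ≤ ee p x := by
  classical
  haveI := Fintype.ofFinite G
  have hx1 : x ≠ 1 := by
    rintro rfl
    rw [orderOf_one] at hx
    exact hp.out.one_lt.ne hx
  set N := Subgroup.normalizer ((P : Subgroup G) : Set G) with hN
  set C := Subgroup.centralizer ((P : Subgroup G) : Set G) with hC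
  -- conjugates of `x` under `N` are powers of `x`
  have hpow : ∀ g ∈ N, ∃ c : (ZMod p)ˣ, g * x * g⁻¹ = xp x c := by
    intro g hg
    have h1 : g * x * g⁻¹ ∈ (P : Subgroup G) := ((Subgroup.mem_normalizer_iff.1 hg) x).1 hxP
    have h2 : orderOf (g * x * g⁻¹) = p := by
      rw [← hx]
      exact orderOf_injective (MulAut.conj g).toMonoidHom (MulAut.conj g).injective x
    -- cyclic group: unique subgroup of order `p`
    haveI := hPc
    have h4 : (⟨g * x * g⁻¹, h1⟩ : (P : Subgroup G)) ∈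
        Subgroup.zpowers (⟨x, hxP⟩ : (P : Subgroup G)) := by
      refine mem_zpowers_of_cyclic hp.out.pos (by rw [Subgroup.orderOf_mk, hx]) ?_
      apply Subtype.ext
      show (g * x * g⁻¹) ^ p = 1
      rw [← h2, pow_orderOf_eq_one]
    obtain ⟨i, hi⟩ := h4
    have h5 : x ^ i = g * x * g⁻¹ := congrArg Subtype.val hi
    have h6 : IsUnit ((i : ℤ) : ZMod p) := by
      rw [isUnit_iff_ne_zero, Ne, ZMod.intCast_zmod_eq_zero_iff_dvd]
      rintro ⟨j, rfl⟩
      rw [zpow_mul, zpow_natCast, ← hx, pow_orderOf_eq_one, one_zpow] at h5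
      rw [← h5, orderOf_one] at h2
      exact hp.out.one_lt.ne h2
    refine ⟨h6.unit, ?_⟩
    rw [← h5]
    unfold xp
    rw [← zpow_natCast, zpow_eq_zpow_iff_modEq, hx]
    rw [← ZMod.intCast_eq_intCast_iff]
    simp
  choose! f hf using hpow
  have hfib : ∀ b ∈ (Finset.univ.filter (fun g : G => g ∈ N)).image f,
      ((Finset.univ.filter (fun g : G => g ∈ N)).filter (fun g => f g = b)).card ≤ Nat.card C := by
    intro b hb
    obtain ⟨g₀, hg₀, rfl⟩ := Finset.mem_image.1 hb
    rw [Finset.mem_filter] at hg₀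
    rw [Nat.card_eq_fintype_card, ← Finset.card_univ]
    refine Finset.card_le_card_of_injOn (fun g => if h : g₀⁻¹ * g ∈ C then ⟨g₀⁻¹ * g, h⟩ else 1)
      (fun _ _ => Finset.mem_univ _) ?_
    have hmem : ∀ g ∈ ((Finset.univ.filter (fun g : G => g ∈ N)).filter (fun g => f g = f g₀)),
        g₀⁻¹ * g ∈ C := by
      intro g hg
      rw [Finset.mem_filter, Finset.mem_filter] at hg
      refine mem_centralizer_of_commute P hPc (N.mul_mem (N.inv_mem hg₀.2) hg.1.2) hxP hx1 ?_
      have h1 := hf g hg.1.2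
      have h2 := hf g₀ hg₀.2
      rw [hg.2, ← h2] at h1
      have h3 : g₀⁻¹ * (g * x * g⁻¹) * g = g₀⁻¹ * (g₀ * x * g₀⁻¹) * g := by rw [h1]
      have h4 : g₀⁻¹ * (g * x * g⁻¹) * g = g₀⁻¹ * g * x := by group
      have h5 : g₀⁻¹ * (g₀ * x * g₀⁻¹) * g = x * (g₀⁻¹ * g) := by group
      rw [h4, h5] at h3
      exact h3
    intro g hg g' hg' h
    have h1 := hmem g hg
    have h2 := hmem g' hg'
    simp only [dif_pos h1, dif_pos h2] at h
    exact mul_left_cancel (congrArg Subtype.val h)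
  have h1 := Finset.card_le_mul_card_image (f := f) (Finset.univ.filter (fun g : G => g ∈ N))
    (Nat.card C) hfib
  have h2 : ((Finset.univ.filter (fun g : G => g ∈ N)).image f).card ≤ ee p x := by
    unfold ee
    refine Finset.card_le_card ?_
    intro b hb
    obtain ⟨g, hg, rfl⟩ := Finset.mem_image.1 hb
    rw [Finset.mem_filter] at hg
    simp only [Finset.mem_filter, Finset.mem_univ, true_and]
    rw [← hf g hg.2]
    exact isConj_iff.2 ⟨g, rfl⟩
  have h3 : (Finset.univ.filter (fun g : G => g ∈ N)).card = Nat.card N := by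
    rw [Nat.card_eq_fintype_card, Fintype.card_subtype]
  have hCN : C ≤ N := by
    intro c hc
    rw [hN, Subgroup.mem_normalizer_iff]
    rw [hC, Subgroup.mem_centralizer_iff] at hc
    intro z
    constructor
    · intro hz
      rw [← hc z hz, mul_inv_cancel_right]; exact hz
    · intro hz
      have h1 := hc _ hz
      have h2 : c * z * c⁻¹ = z := by
        have h3 : c⁻¹ * (c * z * c⁻¹ * c) = c⁻¹ * (c * (c * z * c⁻¹)) := by rw [h1]
        have h4 : c⁻¹ * (c * z * c⁻¹ * c) = z := by group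
        have h5 : c⁻¹ * (c * (c * z * c⁻¹)) = c * z * c⁻¹ := by group
        rw [h4, h5] at h3
        exact h3.symm
      rwa [h2] at hz
  have h4 : Nat.card C * C.relIndex N = Nat.card N := by
    rw [← Subgroup.card_mul_index (C.subgroupOf N)]
    congr 1
    exact (Nat.card_congr (Subgroup.subgroupOfEquivOfLe hCN).toEquiv).symm
  rw [h3, ← h4] at h1
  exact (Nat.le_of_mul_le_mul_left h1 Nat.card_pos).trans h2

end Cfsg.Agent.H33
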