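import Mathlib
import Cfsg.Agent.H9.PyrQF

/-! # S3930, piece CS1: quadratic maps at the level of a 2-group -/

set_option autoImplicit false
set_option linter.all false

namespace Cfsg.Agent.H33.PyrQ

open Subgroup

section
variable {Q : Type*} [Group Q] [Finite Q] (E : Subgroup Q) [E.Normal]

theorem sq_mul_of {cen : ∀ e ∈ E, ∀ x : Q, e * x = x * e} (inv : ∀ x : Q, x ∈ E ↔ x * x = 1)
    {x e : Q} (he : e ∈ E) : (x * e) * (x * e) = x * x := by
  have h1 := cen e he x
  have h2 := (inv e).1 he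
  calc (x * e) * (x * e) = x * (e * x) * e := by group
    _ = x * (x * e) * e := by rw [h1]
    _ = x * x * (e * e) := by group
    _ = x * x := by rw [h2, mul_one]

theorem mk_comm (sq : ∀ x : Q, x * x ∈ E) (u v : Q ⧸ E) : u * v = v * u := by
  have h1 : ∀ w : Q ⧸ E, w * w = 1 := by
    intro w
    induction w using QuotientGroup.induction_on with
    | H x => rw [← QuotientGroup.mk_mul]; exact (QuotientGroup.eq_one_iff _).2 (sq x)
  have h2 : ∀ w : Q ⧸ E, w⁻¹ = w := fun w => inv_eq_of_mul_eq_one_left (h1 w)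
  calc u * v = (u * v)⁻¹ := (h2 _).symm
    _ = v⁻¹ * u⁻¹ := mul_inv_rev _ _
    _ = v * u := by rw [h2, h2]

theorem comm_mem (sq : ∀ x : Q, x * x ∈ E) (x y : Q) : x⁻¹ * y * x * y⁻¹ ∈ E := by
  have h := mk_comm E sq ((y : Q) : Q ⧸ E) ((x : Q) : Q ⧸ E)
  rw [← QuotientGroup.mk_mul, ← QuotientGroup.mk_mul, eq_comm, QuotientGroup.eq] at h
  have h2 := (inferInstance : E.Normal).conj_mem _ h y
  have h3 : y * ((x * y)⁻¹ * (y * x)) * y⁻¹ = x⁻¹ * y * x * y⁻¹ := by group
  rwa [h3] at h2

/-- `(xy)^2 = x^2 y^2 c(x,y)` -/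
theorem sq_mul (cen : ∀ e ∈ E, ∀ x : Q, e * x = x * e) (sq : ∀ x : Q, x * x ∈ E) (x y : Q) :
    (x * y) * (x * y) = (x * x) * (y * y) * (x⁻¹ * y * x * y⁻¹) := by
  have h1 := cen _ (comm_mem E sq x y) (y * y)
  calc (x * y) * (x * y) = (x * x) * ((x⁻¹ * y * x * y⁻¹) * (y * y)) := by group
    _ = (x * x) * ((y * y) * (x⁻¹ * y * x * y⁻¹)) := by rw [h1]
    _ = _ := by group

theorem c_mul_left (cen : ∀ e ∈ E, ∀ x : Q, e * x = x * e) (sq : ∀ x : Q, x * x ∈ E) (x y z : Q) :
    (x * y)⁻¹ * z * (x * y) * z⁻¹ = (x⁻¹ * z * x * z⁻¹) * (y⁻¹ * z * y * z⁻¹) := by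
  have h1 := cen _ (comm_mem E sq x z) y⁻¹
  calc (x * y)⁻¹ * z * (x * y) * z⁻¹ = y⁻¹ * (x⁻¹ * z * x * z⁻¹) * (z * y * z⁻¹) := by group
    _ = (x⁻¹ * z * x * z⁻¹) * y⁻¹ * (z * y * z⁻¹) := by rw [h1]
    _ = _ := by group

/-- polar identity -/
theorem polar (cen : ∀ e ∈ E, ∀ x : Q, e * x = x * e) (sq : ∀ x : Q, x * x ∈ E) (x y z : Q) :
    (x * y * z) * (x * y * z) * (x * x) * (y * y) * (z * z)
      = ((x * y) * (x * y)) * ((x * z) * (x * z)) * ((y * z) * (y * z)) := by
  letI : CommGroup E := { (inferInstance : Group E) with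
    mul_comm := fun a b => Subtype.ext (cen a a.2 b) }
  have key : ∀ (a b c u v w : E), ((a * b * u) * c * (v * w)) * a * b * c =
      (a * b * u) * (a * c * v) * (b * c * w) := by intro a b c u v w; ac_rfl
  have hk := congrArg (Subtype.val) (key ⟨_, sq x⟩ ⟨_, sq y⟩ ⟨_, sq z⟩ ⟨_, comm_mem E sq x y⟩
    ⟨_, comm_mem E sq x z⟩ ⟨_, comm_mem E sq y z⟩)
  rw [sq_mul E cen sq (x * y) z, c_mul_left E cen sq x y z, sq_mul E cen sq x y, sq_mul E cen sq x z,
    sq_mul E cen sq y z]
  exact hk

/-- the squaring map -/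
noncomputable def q (sq : ∀ x : Q, x * x ∈ E) (v : Q ⧸ E) : E := ⟨v.out * v.out, sq _⟩

theorem q_mk (cen : ∀ e ∈ E, ∀ x : Q, e * x = x * e) (inv : ∀ x : Q, x ∈ E ↔ x * x = 1)
    (sq : ∀ x : Q, x * x ∈ E) (x : Q) : q E sq (x : Q ⧸ E) = ⟨x * x, sq x⟩ := by
  obtain ⟨h, hh⟩ := QuotientGroup.mk_out_eq_mul E x
  apply Subtype.ext
  change (x : Q ⧸ E).out * (x : Q ⧸ E).out = x * x
  rw [hh]
  exact sq_mul_of E (cen := cen) inv h.2

theorem map_mem (inv : ∀ x : Q, x ∈ E ↔ x * x = 1) (α : MulAut Q) {x : Q} (hx : x ∈ E) : α x ∈ E := by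
  rw [inv] at hx ⊢
  rw [← map_mul, hx, map_one]

/-- induced map on the quotient -/
def mapE (inv : ∀ x : Q, x ∈ E ↔ x * x = 1) (α : MulAut Q) : Q ⧸ E →* Q ⧸ E :=
  QuotientGroup.map E E α.toMonoidHom (by
    intro x hx
    exact Subgroup.mem_comap.2 (map_mem E inv α hx))

theorem mapE_mk (inv : ∀ x : Q, x ∈ E ↔ x * x = 1) (α : MulAut Q) (x : Q) :
    mapE E inv α (x : Q ⧸ E) = ((α x : Q) : Q ⧸ E) := rfl

theorem quadQ (cen : ∀ e ∈ E, ∀ x : Q, e * x = x * e)
    (inv : ∀ x : Q, x ∈ E ↔ x * x = 1) (sq : ∀ x : Q, x * x ∈ E)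
    (htr : ∀ x ∈ E, ∀ y ∈ E, x ≠ 1 → y ≠ 1 → ∃ β : MulAut Q, β x = y) (h4 : 4 ≤ Nat.card E) :
    E = ⊤ ∨ (E.index = Nat.card E ∧ ∀ x y : Q, x * x = y * y → x⁻¹ * y ∈ E) ∨
    (E.index = Nat.card E ^ 2 ∧ ∀ x ∉ E, ∀ e ∈ E, ∃ y, (x * y) * (x * y) * (x * x) * (y * y) = e) := by
  letI : CommGroup E := { (inferInstance : Group E) with
    mul_comm := fun a b => Subtype.ext (cen a a.2 b) }
  letI : CommGroup (Q ⧸ E) := { (inferInstance : Group (Q ⧸ E)) with mul_comm := mk_comm E sq }
  letI : DistribMulAction (MulAut Q) (Additive (Q ⧸ E)) :=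
    { smul := fun α v => Additive.ofMul (mapE E inv α v.toMul)
      one_smul := by
        intro v
        obtain ⟨x, hx⟩ := QuotientGroup.mk_surjective v.toMul
        change Additive.ofMul (mapE E inv 1 v.toMul) = v
        rw [← hx, mapE_mk]
        exact congrArg Additive.ofMul hx
      mul_smul := by
        intro α β v
        obtain ⟨x, hx⟩ := QuotientGroup.mk_surjective v.toMul
        change Additive.ofMul (mapE E inv (α * β) v.toMul)
          = Additive.ofMul (mapE E inv α (mapE E inv β v.toMul))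
        rw [← hx]
        rfl
      smul_zero := by
        intro α
        exact congrArg Additive.ofMul (map_one _)
      smul_add := by
        intro α u v
        exact congrArg Additive.ofMul (map_mul _ _ _) }
  letI : DistribMulAction (MulAut Q) (Additive E) :=
    { smul := fun α v => Additive.ofMul ⟨α (v.toMul : Q), map_mem E inv α v.toMul.2⟩
      one_smul := by intro v; rfl
      mul_smul := by intro α β v; rfl
      smul_zero := by
        intro α
        exact congrArg Additive.ofMul (Subtype.ext (map_one α))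
      smul_add := by
        intro α u v
        exact congrArg Additive.ofMul (Subtype.ext (map_mul α _ _)) }
  have hqadd := Cfsg.Agent.H9.PyrQF.quad (V := Additive (Q ⧸ E)) (E := Additive E) (H := MulAut Q)
    (by
      intro v
      obtain ⟨x, hx⟩ := QuotientGroup.mk_surjective v.toMul
      have : v.toMul * v.toMul = 1 := by
        rw [← hx, ← QuotientGroup.mk_mul]; exact (QuotientGroup.eq_one_iff _).2 (sq x)
      exact congrArg Additive.ofMul this)
    (by
      intro e
      have : e.toMul * e.toMul = 1 := Subtype.ext ((inv _).1 e.toMul.2)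
      exact congrArg Additive.ofMul this)
    (fun v => Additive.ofMul (q E sq v.toMul))
    (by
      intro u v w
      obtain ⟨x, hx⟩ := QuotientGroup.mk_surjective u.toMul
      obtain ⟨y, hy⟩ := QuotientGroup.mk_surjective v.toMul
      obtain ⟨z, hz⟩ := QuotientGroup.mk_surjective w.toMul
      have h1 : q E sq (u.toMul * v.toMul * w.toMul) * q E sq u.toMul * q E sq v.toMul * q E sq w.toMul
          = q E sq (u.toMul * v.toMul) * q E sq (u.toMul * w.toMul) * q E sq (v.toMul * w.toMul) := by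
        rw [← hx, ← hy, ← hz]
        rw [← QuotientGroup.mk_mul, ← QuotientGroup.mk_mul, ← QuotientGroup.mk_mul,
          ← QuotientGroup.mk_mul]
        rw [q_mk E cen inv sq, q_mk E cen inv sq, q_mk E cen inv sq, q_mk E cen inv sq,
          q_mk E cen inv sq, q_mk E cen inv sq, q_mk E cen inv sq]
        exact Subtype.ext (polar E cen sq x y z)
      exact congrArg Additive.ofMul h1)
    (by
      intro v
      obtain ⟨x, hx⟩ := QuotientGroup.mk_surjective v.toMul
      have h1 : q E sq v.toMul = 1 ↔ v.toMul = 1 := by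
        rw [← hx, q_mk E cen inv sq, QuotientGroup.eq_one_iff, inv x]
        exact Subtype.ext_iff
      constructor
      · intro h; exact congrArg Additive.ofMul (h1.1 (congrArg Additive.toMul h))
      · intro h; exact congrArg Additive.ofMul (h1.2 (congrArg Additive.toMul h)))
    (by
      intro α v
      obtain ⟨x, hx⟩ := QuotientGroup.mk_surjective v.toMul
      have h1 : q E sq (mapE E inv α v.toMul) = ⟨α (q E sq v.toMul : Q), map_mem E inv α (q E sq v.toMul).2⟩ := by
        apply Subtype.ext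
        rw [← hx, mapE_mk, q_mk E cen inv sq]
        change α x * α x = α (q E sq (x : Q ⧸ E) : Q)
        rw [q_mk E cen inv sq]
        exact (map_mul α x x).symm
      exact congrArg Additive.ofMul h1)
    (by
      intro e f he hf
      obtain ⟨β, hβ⟩ := htr e.toMul e.toMul.2 f.toMul f.toMul.2
        (fun h => he (congrArg Additive.ofMul (Subtype.ext h : e.toMul = 1)))
        (fun h => hf (congrArg Additive.ofMul (Subtype.ext h : f.toMul = 1)))
      exact ⟨β, congrArg Additive.ofMul (Subtype.ext hβ)⟩)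
    (by rwa [Nat.card_congr Additive.toMul])
  rw [Nat.card_congr Additive.toMul, Nat.card_congr Additive.toMul] at hqadd
  have hidx : Nat.card (Q ⧸ E) = E.index := rfl
  rw [hidx] at hqadd
  rcases hqadd with h | ⟨h, hq⟩ | ⟨h, hq⟩
  · left; exact index_eq_one.1 h
  · right; left
    refine ⟨h, fun x y hxy => ?_⟩
    have h1 : Additive.ofMul (q E sq (x : Q ⧸ E)) = Additive.ofMul (q E sq (y : Q ⧸ E)) := by
      rw [q_mk E cen inv sq, q_mk E cen inv sq]
      exact congrArg Additive.ofMul (Subtype.ext hxy)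
    have h2 := hq.injective (a₁ := Additive.ofMul (x : Q ⧸ E)) (a₂ := Additive.ofMul (y : Q ⧸ E)) h1
    exact QuotientGroup.eq.1 (congrArg Additive.toMul h2)
  · right; right
    refine ⟨h, fun x hx e he => ?_⟩
    have hx' : Additive.ofMul (x : Q ⧸ E) ≠ 0 := fun h => hx ((QuotientGroup.eq_one_iff _).1 (congrArg Additive.toMul h))
    obtain ⟨w, hw⟩ := hq (Additive.ofMul (x : Q ⧸ E)) hx' (Additive.ofMul ⟨e, he⟩)
    obtain ⟨y, hy⟩ := QuotientGroup.mk_surjective w.toMul
    refine ⟨y, ?_⟩
    have h1 : q E sq ((x : Q ⧸ E) * w.toMul) * q E sq (x : Q ⧸ E) * q E sq w.toMul = ⟨e, he⟩ :=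
      congrArg Additive.toMul hw
    rw [← hy, ← QuotientGroup.mk_mul, q_mk E cen inv sq, q_mk E cen inv sq, q_mk E cen inv sq] at h1
    exact congrArg Subtype.val h1

theorem fpfQ (cen : ∀ e ∈ E, ∀ x : Q, e * x = x * e)
    (inv : ∀ x : Q, x ∈ E ↔ x * x = 1) (sq : ∀ x : Q, x * x ∈ E)
    (h2 : E.index = Nat.card E ^ 2)
    (hs : ∀ x ∉ E, ∀ e ∈ E, ∃ y, (x * y) * (x * y) * (x * x) * (y * y) = e)
    (β : MulAut Q) (hβ : ∀ e ∈ E, β e = e) {n : ℕ} (hn : Odd n) (hβn : ∀ x : Q, x⁻¹ * (β ^ n) x ∈ E)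
    (x0 : Q) (hx0 : x0 ∉ E) (hfix : x0⁻¹ * β x0 ∈ E) : ∀ x : Q, x⁻¹ * β x ∈ E := by
  letI : CommGroup E := { (inferInstance : Group E) with
    mul_comm := fun a b => Subtype.ext (cen a a.2 b) }
  letI : CommGroup (Q ⧸ E) := { (inferInstance : Group (Q ⧸ E)) with mul_comm := mk_comm E sq }
  have hidx : Nat.card (Q ⧸ E) = E.index := rfl
  have hadd := Cfsg.Agent.H9.PyrQF.fpf' (V := Additive (Q ⧸ E)) (E := Additive E)
    (by
      intro v
      obtain ⟨x, hx⟩ := QuotientGroup.mk_surjective v.toMul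
      have : v.toMul * v.toMul = 1 := by
        rw [← hx, ← QuotientGroup.mk_mul]; exact (QuotientGroup.eq_one_iff _).2 (sq x)
      exact congrArg Additive.ofMul this)
    (by
      intro e
      have : e.toMul * e.toMul = 1 := Subtype.ext ((inv _).1 e.toMul.2)
      exact congrArg Additive.ofMul this)
    (fun v => Additive.ofMul (q E sq v.toMul))
    (by
      intro u v w
      obtain ⟨x, hx⟩ := QuotientGroup.mk_surjective u.toMul
      obtain ⟨y, hy⟩ := QuotientGroup.mk_surjective v.toMul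
      obtain ⟨z, hz⟩ := QuotientGroup.mk_surjective w.toMul
      have h1 : q E sq (u.toMul * v.toMul * w.toMul) * q E sq u.toMul * q E sq v.toMul * q E sq w.toMul
          = q E sq (u.toMul * v.toMul) * q E sq (u.toMul * w.toMul) * q E sq (v.toMul * w.toMul) := by
        rw [← hx, ← hy, ← hz]
        rw [← QuotientGroup.mk_mul, ← QuotientGroup.mk_mul, ← QuotientGroup.mk_mul,
          ← QuotientGroup.mk_mul]
        rw [q_mk E cen inv sq, q_mk E cen inv sq, q_mk E cen inv sq, q_mk E cen inv sq,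
          q_mk E cen inv sq, q_mk E cen inv sq, q_mk E cen inv sq]
        exact Subtype.ext (polar E cen sq x y z)
      exact congrArg Additive.ofMul h1)
    (by
      intro v
      obtain ⟨x, hx⟩ := QuotientGroup.mk_surjective v.toMul
      have h1 : q E sq v.toMul = 1 ↔ v.toMul = 1 := by
        rw [← hx, q_mk E cen inv sq, QuotientGroup.eq_one_iff, inv x]
        exact Subtype.ext_iff
      constructor
      · intro h; exact congrArg Additive.ofMul (h1.1 (congrArg Additive.toMul h))
      · intro h; exact congrArg Additive.ofMul (h1.2 (congrArg Additive.toMul h)))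
    (by rw [Nat.card_congr Additive.toMul, Nat.card_congr Additive.toMul, hidx, h2])
    (by
      intro v hv e
      obtain ⟨x, hx⟩ := QuotientGroup.mk_surjective v.toMul
      have hxE : x ∉ E := by
        intro h
        apply hv
        have h1 : v.toMul = 1 := by rw [← hx]; exact (QuotientGroup.eq_one_iff _).2 h
        exact congrArg Additive.ofMul h1
      obtain ⟨y, hy⟩ := hs x hxE e.toMul e.toMul.2
      refine ⟨Additive.ofMul (y : Q ⧸ E), ?_⟩
      have h1 : q E sq (v.toMul * (y : Q ⧸ E)) * q E sq v.toMul * q E sq (y : Q ⧸ E) = e.toMul := by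
        rw [← hx, ← QuotientGroup.mk_mul, q_mk E cen inv sq, q_mk E cen inv sq, q_mk E cen inv sq]
        exact Subtype.ext hy
      exact congrArg Additive.ofMul h1)
    (MonoidHom.toAdditive (mapE E inv β))
    (by
      intro v
      obtain ⟨x, hx⟩ := QuotientGroup.mk_surjective v.toMul
      have h1 : q E sq (mapE E inv β v.toMul) = q E sq v.toMul := by
        rw [← hx, mapE_mk, q_mk E cen inv sq, q_mk E cen inv sq]
        apply Subtype.ext
        change β x * β x = x * x
        rw [← map_mul]; exact hβ _ (sq x)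
      exact congrArg Additive.ofMul h1)
    hn
    (by
      have key : ∀ (k : ℕ) (x : Q), (MonoidHom.toAdditive (mapE E inv β))^[k] (Additive.ofMul (x : Q ⧸ E))
          = Additive.ofMul (((β ^ k) x : Q) : Q ⧸ E) := by
        intro k
        induction k with
        | zero => intro x; rfl
        | succ k ih =>
          intro x
          rw [Function.iterate_succ_apply', ih]
          have h1 : (β ^ (k + 1)) x = β ((β ^ k) x) := by rw [pow_succ']; rfl
          rw [h1]
          rfl
      intro v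
      obtain ⟨x, hx⟩ := QuotientGroup.mk_surjective v.toMul
      have hv : v = Additive.ofMul (x : Q ⧸ E) := congrArg Additive.ofMul hx.symm
      rw [hv, key]
      exact congrArg Additive.ofMul (QuotientGroup.eq.2 (hβn x)).symm)
    (Additive.ofMul (x0 : Q ⧸ E))
    (fun h => hx0 ((QuotientGroup.eq_one_iff _).1 (congrArg Additive.toMul h)))
    (congrArg Additive.ofMul (QuotientGroup.eq.2 hfix).symm)
  intro x
  exact QuotientGroup.eq.1 (congrArg Additive.toMul (hadd (Additive.ofMul (x : Q ⧸ E)))).symm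

end

end Cfsg.Agent.H33.PyrQ
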