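import Cfsg.Agent.H33.Frattini
import Cfsg.Agent.Transfer.Frobenius
import Cfsg.Agent.BG.OmegaOdd

set_option autoImplicit false
set_option linter.all false

/-! `p'`-elements acting trivially on the elements of order `p` (and `4` when `p = 2`) (helper33). -/

open scoped commutatorElement

namespace Cfsg.Agent.H33

variable {G : Type*} [Group G] {p : ℕ}

/-- elements of order dividing `p`, or `4` when `p = 2` -/
def Small (p : ℕ) (a : G) : Prop := a ^ p = 1 ∨ (p = 2 ∧ a ^ 4 = 1)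

/-- coprime action: an element commuting with `[a,x]` commutes with `a`. -/
theorem commute_of_commute_comm [Finite G] {Q : Subgroup G} (hQ : IsPGroup p Q) {x a : G}
    (hx : (orderOf x).Coprime p) (hc : a⁻¹ * (x * a * x⁻¹) ∈ Q)
    (h : x * (a⁻¹ * (x * a * x⁻¹)) * x⁻¹ = a⁻¹ * (x * a * x⁻¹)) : x * a * x⁻¹ = a := by
  set c := a⁻¹ * (x * a * x⁻¹) with hcd
  have hxa : x * a * x⁻¹ = a * c := by rw [hcd]; group
  have hn : ∀ n : ℕ, x ^ n * a * (x ^ n)⁻¹ = a * c ^ n := by
    intro n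
    induction n with
    | zero => simp
    | succ n ih =>
      have hcn : x * c ^ n * x⁻¹ = c ^ n := by
        have : x * c ^ n * x⁻¹ = (x * c * x⁻¹) ^ n := (conj_pow).symm
        rw [this, h]
      calc x ^ (n+1) * a * (x ^ (n+1))⁻¹ = x * (x ^ n * a * (x ^ n)⁻¹) * x⁻¹ := by
            rw [pow_succ']; group
        _ = x * (a * c ^ n) * x⁻¹ := by rw [ih]
        _ = (x * a * x⁻¹) * (x * c ^ n * x⁻¹) := by group
        _ = a * c * c ^ n := by rw [hxa, hcn]
        _ = a * c ^ (n + 1) := by rw [pow_succ']; group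
  have h1 := hn (orderOf x)
  rw [pow_orderOf_eq_one] at h1
  have h2 : c ^ orderOf x = 1 := by
    have : a * c ^ orderOf x = a * 1 := by rw [← h1]; group
    exact mul_left_cancel this
  obtain ⟨k, hk⟩ := hQ ⟨c, hc⟩
  have hk' : c ^ p ^ k = 1 := congrArg Subtype.val hk
  have h3 : c = 1 := by
    have hco : (orderOf x).Coprime (p ^ k) := hx.pow_right k
    have := pow_gcd_eq_one.2 ⟨h2, hk'⟩
    rwa [hco, pow_one] at this
  rw [hxa, h3, mul_one]

/-- class two power formula -/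
theorem mul_pow_class_two {a c z : G} (hca : c * a = a * c * z) (hza : z * a = a * z)
    (hzc : z * c = c * z) (n : ℕ) : (a * c) ^ n = a ^ n * c ^ n * z ^ (n.choose 2) := by
  have hz1 : ∀ m : ℕ, z ^ m * a = a * z ^ m := fun m => (Commute.pow_left (show Commute z a from hza) m)
  have hz2 : ∀ m : ℕ, z ^ m * c = c * z ^ m := fun m => (Commute.pow_left (show Commute z c from hzc) m)
  have hcn : ∀ m : ℕ, c ^ m * a = a * c ^ m * z ^ m := by
    intro m
    induction m with
    | zero => simp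
    | succ m ih =>
      calc c ^ (m+1) * a = c * (c ^ m * a) := by rw [pow_succ']; group
        _ = c * (a * c ^ m * z ^ m) := by rw [ih]
        _ = (c * a) * c ^ m * z ^ m := by group
        _ = a * c * z * c ^ m * z ^ m := by rw [hca]
        _ = a * c * (z * c ^ m) * z ^ m := by group
        _ = a * c * (c ^ m * z) * z ^ m := by
            rw [(Commute.pow_right (show Commute z c from hzc) m).eq]
        _ = a * c ^ (m + 1) * z ^ (m + 1) := by rw [pow_succ' c, pow_succ' z]; group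
  induction n with
  | zero => simp
  | succ n ih =>
    rw [Nat.choose_succ_succ' n 1, Nat.choose_one_right]
    calc (a * c) ^ (n+1) = (a * c) ^ n * (a * c) := pow_succ _ _
      _ = a ^ n * c ^ n * z ^ (n.choose 2) * (a * c) := by rw [ih]
      _ = a ^ n * c ^ n * (z ^ (n.choose 2) * a) * c := by group
      _ = a ^ n * (c ^ n * a) * (z ^ (n.choose 2) * c) := by rw [hz1]; group
      _ = a ^ n * (a * c ^ n * z ^ n) * (c * z ^ (n.choose 2)) := by rw [hcn, hz2]
      _ = a ^ n * a * c ^ n * (z ^ n * c) * z ^ (n.choose 2) := by group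
      _ = a ^ n * a * c ^ n * (c * z ^ n) * z ^ (n.choose 2) := by rw [hz2]
      _ = a ^ (n + 1) * c ^ (n + 1) * z ^ (n + n.choose 2) := by
          rw [pow_succ a, pow_succ c, pow_add z]; group

theorem small_of_comm [hp : Fact p.Prime] {a c z : G} (hca : c * a = a * c * z) (hza : z * a = a * z)
    (hzc : z * c = c * z) (hz : z ^ p = 1) (h : (a * c) ^ p = a ^ p) : Small p c := by
  rw [mul_pow_class_two hca hza hzc] at h
  have h1 : c ^ p * z ^ (p.choose 2) = 1 := by
    have : a ^ p * (c ^ p * z ^ (p.choose 2)) = a ^ p * 1 := by rw [← mul_assoc, h, mul_one]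
    exact mul_left_cancel this
  by_cases h2 : p = 2
  · right
    refine ⟨h2, ?_⟩
    subst h2
    have h3 : c ^ 2 = z⁻¹ := by
      rw [Nat.choose_self, pow_one] at h1
      exact eq_inv_of_mul_eq_one_left h1
    calc c ^ 4 = (c ^ 2) ^ 2 := by rw [← pow_mul]
      _ = (z ^ 2)⁻¹ := by rw [h3, inv_pow]
      _ = 1 := by rw [hz, inv_one]
  · left
    have h3 : p ∣ p.choose 2 := by
      apply Nat.Prime.dvd_choose_self hp.out (by norm_num)
      exact lt_of_le_of_ne hp.out.two_le (Ne.symm h2)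
    obtain ⟨k, hk⟩ := h3
    rw [hk, pow_mul, hz, one_pow, mul_one] at h1
    exact h1

/-- the subgroup generated by commutators and `p`-th powers of `P` -/
def phi (p : ℕ) (P : Subgroup G) : Subgroup G :=
  Subgroup.closure {y : G | (∃ a ∈ P, ∃ b ∈ P, y = ⁅a, b⁆) ∨ ∃ a ∈ P, y = a ^ p}

theorem comm_mem_phi {P : Subgroup G} {a b : G} (ha : a ∈ P) (hb : b ∈ P) : ⁅a, b⁆ ∈ phi p P :=
  Subgroup.subset_closure (Or.inl ⟨a, ha, b, hb, rfl⟩)

theorem pow_mem_phi {P : Subgroup G} {a : G} (ha : a ∈ P) : a ^ p ∈ phi p P :=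
  Subgroup.subset_closure (Or.inr ⟨a, ha, rfl⟩)

theorem phi_conj {P : Subgroup G} {x : G} (hxP : ∀ a ∈ P, x * a * x⁻¹ ∈ P) :
    ∀ d ∈ phi p P, x * d * x⁻¹ ∈ phi p P := by
  intro d hd
  have h1 : phi p P ≤ (phi p P).comap (MulAut.conj x).toMonoidHom := by
    rw [phi, Subgroup.closure_le]
    rintro y (⟨a, ha, b, hb, rfl⟩ | ⟨a, ha, rfl⟩)
    · change x * ⁅a, b⁆ * x⁻¹ ∈ phi p P
      have : x * ⁅a, b⁆ * x⁻¹ = ⁅x * a * x⁻¹, x * b * x⁻¹⁆ := by
        simp only [commutatorElement_def]; group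
      rw [this]
      exact comm_mem_phi (hxP a ha) (hxP b hb)
    · change x * a ^ p * x⁻¹ ∈ phi p P
      rw [← conj_pow]
      exact pow_mem_phi (hxP a ha)
  exact h1 hd

theorem phi_le {P : Subgroup G} : phi p P ≤ P := by
  rw [phi, Subgroup.closure_le]
  rintro y (⟨a, ha, b, hb, rfl⟩ | ⟨a, ha, rfl⟩)
  · rw [commutatorElement_def]
    exact mul_mem (mul_mem (mul_mem ha hb) (inv_mem ha)) (inv_mem hb)
  · exact pow_mem ha p

theorem phi_lt [Finite G] [hp : Fact p.Prime] {P : Subgroup G} (hP : IsPGroup p P) (h : P ≠ ⊥) :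
    phi p P < P := by
  haveI : Nontrivial P := (Subgroup.nontrivial_iff_ne_bot P).2 h
  obtain ⟨M, hMn, hMi, hM1, hM2⟩ := Cfsg.Agent.BG.exists_index_p hP
  have h1 : phi p P ≤ M.map P.subtype := by
    rw [phi, Subgroup.closure_le]
    rintro y (⟨a, ha, b, hb, rfl⟩ | ⟨a, ha, rfl⟩)
    · exact ⟨_, hM2 ⟨a, ha⟩ ⟨b, hb⟩, rfl⟩
    · exact ⟨_, hM1 ⟨a, ha⟩, rfl⟩
  refine lt_of_le_of_ne phi_le ?_
  intro h2
  rw [h2] at h1
  have h3 : M = ⊤ := by
    rw [eq_top_iff]
    intro x _
    obtain ⟨y, hy, hyx⟩ := h1 x.2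
    have : y = x := Subtype.ext hyx
    rw [← this]; exact hy
  rw [h3, Subgroup.index_top] at hMi
  exact hp.out.ne_one hMi.symm

/-- A `p'`-element normalizing a `p`-group and centralizing its elements of order `p` (`4` when `p = 2`)
centralizes it. -/
theorem centralize_of_small [Finite G] [hp : Fact p.Prime] {x : G} (hx : (orderOf x).Coprime p) :
    ∀ (n : ℕ) (P : Subgroup G), Nat.card P = n → IsPGroup p P → (∀ a ∈ P, x * a * x⁻¹ ∈ P) →
      (∀ a ∈ P, Small p a → x * a * x⁻¹ = a) → ∀ a ∈ P, x * a * x⁻¹ = a := by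
  intro n
  induction n using Nat.strong_induction_on with
  | _ n ih =>
  intro P hn hP hxP hs a ha
  by_cases hbot : P = ⊥
  · rw [hbot, Subgroup.mem_bot] at ha; rw [ha]; simp
  set D : Subgroup G := phi p P with hD
  have hDP : D ≤ P := phi_le
  have hDlt : D < P := phi_lt hP hbot
  have hcard : Nat.card D < n := by
    rw [← hn]
    exact lt_of_le_of_ne (Nat.le_of_dvd Nat.card_pos (Subgroup.card_dvd_of_le hDP))
      (fun h => hDlt.ne (Subgroup.eq_of_le_of_card_ge hDP (le_of_eq h.symm)))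
  have hDx : ∀ d ∈ D, x * d * x⁻¹ = d :=
    ih _ hcard D rfl (isPGroup_sub hP hDP) (phi_conj hxP) (fun d hd => hs d (hDP hd))
  -- the centralizer of `D` in `P`
  set Q : Subgroup G := P ⊓ Subgroup.centralizer (D : Set G) with hQ
  have hQx : ∀ b ∈ Q, x * b * x⁻¹ ∈ Q := by
    rintro b ⟨hb, hb'⟩
    refine ⟨hxP b hb, Subgroup.mem_centralizer_iff.2 fun d hd => ?_⟩
    have h1 := Subgroup.mem_centralizer_iff.1 hb' d hd
    have h2 : d * (x * b * x⁻¹) = (x * d * x⁻¹) * (x * b * x⁻¹) := by rw [hDx d hd]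
    have h3 : (x * b * x⁻¹) * d = (x * b * x⁻¹) * (x * d * x⁻¹) := by rw [hDx d hd]
    rw [h2, h3]
    calc x * d * x⁻¹ * (x * b * x⁻¹) = x * (d * b) * x⁻¹ := by group
      _ = x * (b * d) * x⁻¹ := by rw [h1]
      _ = _ := by group
  have hcP : ∀ b ∈ P, b⁻¹ * (x * b * x⁻¹) ∈ P := fun b hb => mul_mem (inv_mem hb) (hxP b hb)
  have hcQ : ∀ b ∈ P, b⁻¹ * (x * b * x⁻¹) ∈ Q := by
    intro b hb
    refine ⟨hcP b hb, Subgroup.mem_centralizer_iff.2 fun d hd => ?_⟩
    have hd1 : b * d * b⁻¹ ∈ D := phi_conj (fun a ha => mul_mem (mul_mem hb ha) (inv_mem hb)) d hd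
    have h1 := hDx _ hd1
    have h2 : x * (b * d * b⁻¹) * x⁻¹ = (x * b * x⁻¹) * d * (x * b * x⁻¹)⁻¹ := by
      calc x * (b * d * b⁻¹) * x⁻¹ = (x * b * x⁻¹) * (x * d * x⁻¹) * (x * b * x⁻¹)⁻¹ := by group
        _ = _ := by rw [hDx d hd]
    rw [h2] at h1
    calc d * (b⁻¹ * (x * b * x⁻¹)) = b⁻¹ * (b * d * b⁻¹) * (x * b * x⁻¹) := by group
      _ = b⁻¹ * ((x * b * x⁻¹) * d * (x * b * x⁻¹)⁻¹) * (x * b * x⁻¹) := by rw [h1]
      _ = _ := by group
  apply commute_of_commute_comm hP hx (hcP a ha)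
  by_cases hQP : Q = P
  · -- `D` is central in `P`
    have hcen : ∀ d ∈ D, ∀ b ∈ P, d * b = b * d := by
      intro d hd b hb
      rw [← hQP] at hb
      exact Subgroup.mem_centralizer_iff.1 hb.2 d hd
    set c := a⁻¹ * (x * a * x⁻¹) with hc
    have hcP' : c ∈ P := hcP a ha
    set z := c⁻¹ * a⁻¹ * c * a with hz
    have hzD : z ∈ D := by
      have := comm_mem_phi (p := p) (inv_mem hcP') (inv_mem ha)
      rw [commutatorElement_def, inv_inv, inv_inv] at this
      exact this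
    have hca : c * a = a * c * z := by rw [hz]; group
    have hza := hcen z hzD a ha
    have hzc := hcen z hzD c hcP'
    have hzp : z ^ p = 1 := by
      have h1 : a⁻¹ * c * a = c * z := by rw [hz]; group
      have h2 : (a⁻¹ * c * a) ^ p = c ^ p := by
        have h3 : (a⁻¹ * c * a) ^ p = a⁻¹ * c ^ p * a := by
          have := conj_pow (i := p) (a := a⁻¹) (b := c)
          rwa [inv_inv] at this
        rw [h3, mul_assoc, hcen _ (pow_mem_phi hcP') a ha]; group
      rw [h1, (show Commute c z from hzc.symm).mul_pow] at h2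
      exact mul_eq_left.1 h2
    refine hs c hcP' (small_of_comm hca hza hzc hzp ?_)
    have h1 : a * c = x * a * x⁻¹ := by rw [hc]; group
    rw [h1, conj_pow]
    exact hDx _ (pow_mem_phi ha)
  · have hQlt : Nat.card Q < n := by
      rw [← hn]
      exact lt_of_le_of_ne (Nat.le_of_dvd Nat.card_pos (Subgroup.card_dvd_of_le inf_le_left))
        (fun h => hQP (Subgroup.eq_of_le_of_card_ge inf_le_left (le_of_eq h.symm)))
    exact ih _ hQlt Q rfl (isPGroup_sub hP inf_le_left) hQx (fun d hd => hs d hd.1) _ (hcQ a ha)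

end Cfsg.Agent.H33
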